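import Cfsg.Agent.H660.RR.Crd_m3
import Cfsg.Agent.H578.RC.One_m3
import Cfsg.Agent.KFacts.ChevTwoInst
import Cfsg.Agent.H916.RG.Pair_m3
import Cfsg.Agent.SmallSimple.Embed
import Cfsg.Agent.H112.B57.Diag
import Mathlib
import Cfsg.Agent.H893.PPow
import Cfsg.Agent.H31.RC.Spor.Gen
import Cfsg.Agent.H895.RG.Pair
import Cfsg.Agent.H842.RadTwoB
import Cfsg.Agent.H187.FiOdd.Cent_m3
import Cfsg.Agent.H843.One
import Cfsg.Agent.H843.N11
import Cfsg.Agent.H843.N17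
import Cfsg.Agent.H843.N23
import Cfsg.Agent.H843.N29
import Cfsg.Agent.H898.FiveNorm
import Cfsg.Agent.H831.Short
import Cfsg.Agent.H49.Four.TEight_m3
import Cfsg.Agent.H830.Con24
import Cfsg.Agent.H713.B0R.FiSeven
import Cfsg.Agent.H143.HT.FiYY
import Cfsg.Agent.H378.OmD4
import Cfsg.Agent.H169.RG.Toral
import Cfsg.Agent.H316.U6Norm_m3
import Cfsg.Agent.H448.FprCent.SteTor
import Cfsg.Agent.H461.E2.Cent
import Cfsg.Agent.KFacts.RgdSL
import Cfsg.Agent.UGT.I34.OnCode_m3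
import Cfsg.Agent.BpExc.Tow
import Cfsg.Prelude.Def_EvenType
import Cfsg.Agent.H46.Gen.PairW
import Cfsg.Agent.BpExc.NChev
import Cfsg.Agent.H167.EX.Root
import Cfsg.Agent.H3.OT.Weyl
import Cfsg.Agent.H81.DP.BtTD4
import Cfsg.Agent.SignalizersComponents.SLQuasisimple
import Cfsg.Agent.S2119
import Cfsg.Agent.H824.ProdLem
import Cfsg.Agent.GH.Q2.ModelSp4_m3
import Cfsg.Agent.Nodes.NormalForm
import Cfsg.Agent.Nodes.MuSq
import Cfsg.Agent.CpAut.RgdConj
import Cfsg.Agent.Nodes.RGDFoldSL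
import Cfsg.Agent.H147.Fpr.Co3
import Cfsg.Agent.H763.Co3.Fin
import Cfsg.Agent.FastGrp
import Cfsg.Agent.Prune
set_option linter.all false

section
prune_inst 0x7ff8fcf82fb8b9dedfff7e7ffed1dffc39909fffa6dff9433fe021ef0bdf230009e52b850de000fe1e4260b410387813f97eca3fa863dc7ffffd5df41ffbec0f9566b508519488340fbc0ff703f07f8a7f3fffffffffffffffffffffffffffbeffffffbfffff

-- part: H694/RG/Trans
section
prune_inst 0x400000
set_option linter.all false
open scoped Cfsg.Agent.FastGrp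

/-!
# S3509: transport of covers by inner-diagonal elements to the fixed points of a Steinberg automorphism (helper694)

`e : N ≃* K₀`, `ι : K₀ →* Y`, `Fr ι σ`, `Env G Ω N`.

* `Rep hE e ι g y` : `g` and `y` induce the same automorphism of `K₀`; `DG hE e ι` : the inner-diagonal elements of `G`;
  `Rep.mul`, `.inv`, `.pow`, `.unique`, `.inj`, `.fix` (`σ y = y`), `.comm`, `.mem_N` (`g ∈ N ↔ y ∈ ι.range`);
* `lf e ι M` : the subgroup of `N` corresponding to `M ≤ Y`; `lfEquiv : lf e ι M ≃* M` for `M ≤ ι.range`;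
* `VG`, `UG` : long root elements and their groups, `lrData`;
* `useful` : transport of `Useful`;
* `core` : transport of `pCore p (K₀ ⊓ C(s)) = ⊥`;
* `card_le` : `|C_D(g)| ≤ |Y^σ ⊓ C(y)|`;
* `engineY` : the engine of helper368 with all data in `Y`, together with the character bound.
-/

set_option autoImplicit false
set_option linter.unusedSectionVars false
open Cfsg

namespace Cfsg.Agent.H694.RG

open MulAction Subgroup Cfsg.Agent.H106.RC Cfsg.Agent.H327.RG Cfsg.Agent.H368.RG Cfsg.Agent.H873.RG Cfsg.Agent.H380.RC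
open Cfsg.Agent.H28.GenF (InD)
open scoped commutatorElement

section rep

variable {G Ω : Type*} [Group G] [MulAction G Ω] {N : Subgroup G} {Y K₀ : Type*} [Group Y] [Group K₀]
  (hE : Env G Ω N) (e : N ≃* K₀) (ι : K₀ →* Y)

/-- `y` induces the same automorphism of `K₀` as `g` -/
def Rep (g : G) (y : Y) : Prop := ∀ a, ι (act hE e g a) = y * ι a * y⁻¹

/-- the inner-diagonal elements of `G` -/
noncomputable def DG : Subgroup G := (InD ι).comap (act hE e)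

variable {hE e ι}

theorem Rep.one : Rep hE e ι 1 1 := fun a => by rw [map_one]; simp

theorem Rep.mul {g g' : G} {y y' : Y} (h : Rep hE e ι g y) (h' : Rep hE e ι g' y') : Rep hE e ι (g * g') (y * y') := by
  intro a
  rw [map_mul, MulAut.mul_apply, h, h']
  group

theorem Rep.inv {g : G} {y : Y} (h : Rep hE e ι g y) : Rep hE e ι g⁻¹ y⁻¹ := by
  intro a
  have h1 := h (act hE e g⁻¹ a)
  rw [map_inv, MulAut.apply_inv_self] at h1
  rw [h1, map_inv]
  group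

theorem Rep.pow {g : G} {y : Y} (h : Rep hE e ι g y) (n : ℕ) : Rep hE e ι (g ^ n) (y ^ n) := by
  induction n with
  | zero => rw [pow_zero, pow_zero]; exact Rep.one
  | succ n ih => rw [pow_succ, pow_succ]; exact ih.mul h

variable {σ : MulAut Y} (hF : Fr ι σ)

include hF

theorem Rep.unique {g : G} {y y' : Y} (h : Rep hE e ι g y) (h' : Rep hE e ι g y') : y = y' := by
  have h1 : y'⁻¹ * y = 1 := by
    apply hF.cent
    intro a
    have h2 := (h a).symm.trans (h' a)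
    calc y'⁻¹ * y * ι a = y'⁻¹ * (y * ι a * y⁻¹) * y := by group
      _ = y'⁻¹ * (y' * ι a * y'⁻¹) * y := by rw [h2]
      _ = ι a * (y'⁻¹ * y) := by group
  exact (inv_mul_eq_one.1 h1).symm

theorem Rep.inj {g g' : G} {y : Y} (h : Rep hE e ι g y) (h' : Rep hE e ι g' y) : g = g' := by
  apply act_injective hE e
  refine MulEquiv.ext fun a => hF.inj ?_
  rw [h, h']

theorem Rep.fix {g : G} {y : Y} (h : Rep hE e ι g y) : σ y = y := by
  have h1 : Rep hE e ι g (σ y) := by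
    intro a
    have h2 := congrArg σ (h a)
    rw [map_mul, map_mul, map_inv, hF.fixι, hF.fixι] at h2
    exact h2
  exact Rep.unique hF h1 h

theorem Rep.comm {g g' : G} {y y' : Y} (h : Rep hE e ι g y) (h' : Rep hE e ι g' y') :
    g * g' = g' * g ↔ y * y' = y' * y := by
  constructor
  · intro hc
    have h1 := h.mul h'
    rw [hc] at h1
    exact Rep.unique hF h1 (h'.mul h)
  · intro hc
    have h1 := h.mul h'
    rw [hc] at h1
    exact Rep.inj hF h1 (h'.mul h)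

omit hF in
theorem rep_symm (a : K₀) : Rep hE e ι (e.symm a : G) (ι a) := by
  intro b
  have h1 : act hE e (e.symm a : G) b = a * b * a⁻¹ := by
    apply e.symm.injective
    apply Subtype.ext
    rw [coe_act, map_mul, map_mul, map_inv]
    rfl
  rw [h1, map_mul, map_mul, map_inv]

omit hF in
theorem rep_coe {g : G} (hg : g ∈ N) : Rep hE e ι g (ι (e ⟨g, hg⟩)) := by
  have h1 := rep_symm (hE := hE) (e := e) (ι := ι) (e ⟨g, hg⟩)
  rwa [e.symm_apply_apply] at h1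

theorem Rep.mem_N {g : G} {y : Y} (h : Rep hE e ι g y) : g ∈ N ↔ y ∈ ι.range := by
  constructor
  · intro hg
    exact ⟨_, Rep.unique hF (rep_coe hg) h⟩
  · rintro ⟨a, rfl⟩
    rw [Rep.inj hF h (rep_symm a)]
    exact (e.symm a).2

theorem Rep.eq_one {g : G} {y : Y} (h : Rep hE e ι g y) : g = 1 ↔ y = 1 := by
  constructor
  · rintro rfl
    exact Rep.unique hF h Rep.one
  · rintro rfl
    exact Rep.inj hF h Rep.one

theorem le_DG : N ≤ DG hE e ι := fun _ hg => ⟨_, rep_coe hg⟩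

theorem Rep.pow_eq_one {g : G} {y : Y} (h : Rep hE e ι g y) (n : ℕ) : g ^ n = 1 ↔ y ^ n = 1 := Rep.eq_one hF (h.pow n)

/-! ### subgroups -/

omit hF

/-- the subgroup of `N` corresponding to `M ≤ Y` -/
def lf (e : N ≃* K₀) (ι : K₀ →* Y) (M : Subgroup Y) : Subgroup G := lift e (M.comap ι)

theorem mem_lf {M : Subgroup Y} {g : G} : g ∈ lf e ι M ↔ ∃ a, ι a ∈ M ∧ (e.symm a : G) = g := mem_lift

theorem lf_le (M : Subgroup Y) : lf e ι M ≤ N := lift_le e _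

include hF in
theorem Rep.mem_lf {M : Subgroup Y} (hM : M ≤ ι.range) {g : G} {y : Y} (h : Rep hE e ι g y) : g ∈ lf e ι M ↔ y ∈ M := by
  rw [Cfsg.Agent.H694.RG.mem_lf]
  constructor
  · rintro ⟨a, ha, rfl⟩
    rwa [Rep.unique hF h (rep_symm a)]
  · intro hy
    obtain ⟨a, rfl⟩ := hM hy
    exact ⟨a, hy, (Rep.inj hF h (rep_symm a)).symm⟩

/-- `M ∩ ι K₀` and its preimage -/
noncomputable def comapEquiv (hι : Function.Injective ι) {M : Subgroup Y} (hM : M ≤ ι.range) : M.comap ι ≃* M :=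
  MulEquiv.ofBijective (ι.subgroupComap M) ⟨fun a b h => Subtype.ext (hι (congrArg Subtype.val h)), fun b => by
    obtain ⟨a, ha⟩ := hM b.2
    exact ⟨⟨a, by rw [mem_comap, ha]; exact b.2⟩, Subtype.ext ha⟩⟩

/-- `lf e ι M ≃* M` -/
noncomputable def lfEquiv (e : N ≃* K₀) (hι : Function.Injective ι) {M : Subgroup Y} (hM : M ≤ ι.range) : lf e ι M ≃* M :=
  (liftEquiv e _).trans (comapEquiv hι hM)

theorem perfect_iff {K : Type*} [Group K] {M : Subgroup K} : ⁅M, M⁆ = M ↔ commutator M = ⊤ := by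
  have h2 : (commutator M).map M.subtype = ⁅M, M⁆ := by
    rw [commutator_def, Subgroup.map_commutator, ← MonoidHom.range_eq_map, Subgroup.range_subtype]
  constructor
  · intro h
    rw [h] at h2
    apply Subgroup.map_injective M.subtype_injective
    rw [h2, ← MonoidHom.range_eq_map, Subgroup.range_subtype]
  · intro h
    rw [← h2, h, ← MonoidHom.range_eq_map, Subgroup.range_subtype]

theorem perfect_equiv {K K' : Type*} [Group K] [Group K'] {M : Subgroup K} {M' : Subgroup K'} (f : M ≃* M')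
    (h : ⁅M', M'⁆ = M') : ⁅M, M⁆ = M := by
  rw [perfect_iff] at h ⊢
  exact H368.RC.perfect_surj h f.symm.toMonoidHom f.symm.surjective

include hF in
/-- the centralizers -/
theorem inf_cent {g : G} {y : Y} (h : Rep hE e ι g y) :
    N ⊓ centralizer {g} = lf e ι (ι.range ⊓ centralizer {y}) := by
  ext c
  constructor
  · rintro ⟨hc, hc'⟩
    rw [Rep.mem_lf hF inf_le_left (rep_coe (hE := hE) hc)]
    refine ⟨⟨_, rfl⟩, ?_⟩
    have h1 := (Rep.comm hF (rep_coe (hE := hE) hc) h).1 (mem_centralizer_singleton_iff.1 hc')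
    exact mem_centralizer_singleton_iff.2 h1
  · intro hc
    have hcN : c ∈ N := lf_le _ hc
    refine ⟨hcN, ?_⟩
    rw [Rep.mem_lf hF inf_le_left (rep_coe (hE := hE) hcN)] at hc
    have h1 := mem_centralizer_singleton_iff.1 hc.2
    exact mem_centralizer_singleton_iff.2 ((Rep.comm hF (rep_coe (hE := hE) hcN) h).2 h1)

include hF in
/-- **Transport of `O_p(C(s)) = 1`.** -/
theorem core {p : ℕ} {g : G} {y : Y} (h : Rep hE e ι g y) (hy : pCore p ↥(ι.range ⊓ centralizer {y}) = ⊥) :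
    pCore p ↥(N ⊓ centralizer {g}) = ⊥ := by
  rw [inf_cent hF h]
  have h1 := Cfsg.Agent.Lib.Cores.map_equiv_pCore (lfEquiv e hF.inj (M := ι.range ⊓ centralizer {y}) inf_le_left).symm p
  rw [← h1, hy, Subgroup.map_bot]

include hF in
/-- **Centralizers in the group of inner-diagonal elements.** -/
theorem card_le [Finite ↥(fixedSubgroup σ)] {g : G} {y : Y} (h : Rep hE e ι g y) :
    Nat.card {c : DG hE e ι // (c : G) * g = g * c} ≤ Nat.card ↥(fixedSubgroup σ ⊓ centralizer {y}) := by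
  classical
  have hfin : Finite ↥(fixedSubgroup σ ⊓ centralizer {y}) :=
    Finite.of_injective (Subgroup.inclusion inf_le_left) (Subgroup.inclusion_injective inf_le_left)
  have h1 : ∀ c : {c : DG hE e ι // (c : G) * g = g * c}, ∃ z : Y, Rep hE e ι ((c.1 : DG hE e ι) : G) z := fun c => c.1.2
  choose z hz using h1
  refine Nat.card_le_card_of_injective (fun c => (⟨z c, (hz c).fix hF, ?_⟩ : ↥(fixedSubgroup σ ⊓ centralizer {y}))) ?_
  · show z c ∈ centralizer {y}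
    rw [mem_centralizer_singleton_iff]
    exact (Rep.comm hF (hz c) h).1 c.2
  · intro c c' hcc
    have h2 : z c = z c' := congrArg Subtype.val hcc
    apply Subtype.ext
    apply Subtype.ext
    have h3 := hz c
    rw [h2] at h3
    exact Rep.inj hF h3 (hz c')

end rep

/-! ### long root elements, useful elements -/

section lr

variable {G Ω : Type} [Group G] [Finite G] [MulAction G Ω] {N : Subgroup G} {Y K₀ : Type} [Group Y] [Group K₀]

/-- long root elements of `G` -/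
def VG (e : N ≃* K₀) (ι : K₀ →* Y) (V : Y → Prop) (g : G) : Prop := ∃ a, (e.symm a : G) = g ∧ V (ι a)

open scoped Classical in
/-- their groups -/
noncomputable def UG (e : N ≃* K₀) (ι : K₀ →* Y) (U : Y → Subgroup Y) (g : G) : Subgroup G :=
  if h : g ∈ N then lf e ι (U (ι (e ⟨g, h⟩))) else ⊥

theorem UG_symm (e : N ≃* K₀) (ι : K₀ →* Y) (U : Y → Subgroup Y) (a : K₀) : UG e ι U (e.symm a : G) = lf e ι (U (ι a)) := by
  unfold UG
  rw [dif_pos (e.symm a).2, Subtype.coe_eta, e.apply_symm_apply]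

/-- **The data in `Y`.** `I = Y^σ`. -/
structure YData (ι : K₀ →* Y) (I : Subgroup Y) (p : ℕ) (V : Y → Prop) (U : Y → Subgroup Y) : Prop where
  lr : LRData I p V U
  vmem : ∀ v, V v → v ∈ ι.range
  ule : ∀ v, V v → U v ≤ ι.range
  pmem : ∀ y ∈ I, y ^ p = 1 → y ∈ ι.range
  core : ∀ s ∈ I, (∃ m : ℕ, m.Coprime p ∧ s ^ m = 1) → pCore p ↥(ι.range ⊓ centralizer {s}) = ⊥

variable {ι : K₀ →* Y} {σ : MulAut Y} (hF : Fr ι σ) {p : ℕ} {V : Y → Prop} {U : Y → Subgroup Y}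
  (hE : Env G Ω N) (e : N ≃* K₀)

include hF in
/-- **Transport of the long root data.** -/
theorem lrData (h : YData ι (fixedSubgroup σ) p V U) : LRData (DG hE e ι) p (VG e ι V) (UG e ι U) := by
  refine ⟨?_, ?_, ?_, ?_, ?_, ?_⟩
  · rintro _ ⟨a, rfl, ha⟩ h1
    exact h.lr.ne _ ha ((Rep.eq_one hF (rep_symm (hE := hE) a)).1 h1)
  · rintro _ ⟨a, rfl, ha⟩ u hu
    rw [UG_symm] at hu
    obtain ⟨b, hb, rfl⟩ := mem_lf.1 hu
    exact (Rep.comm hF (rep_symm (hE := hE) b) (rep_symm a)).2 (h.lr.comm _ ha _ hb)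
  · rintro _ ⟨a, rfl, ha⟩
    rw [UG_symm]
    have h1 := h.lr.nil _ ha
    exact Group.nilpotent_of_mulEquiv (lfEquiv e hF.inj (h.ule _ ha)).symm
  · rintro _ ⟨a, rfl, ha⟩ r hr hrp
    rw [UG_symm, Nat.card_congr (lfEquiv e hF.inj (h.ule _ ha)).toEquiv]
    exact h.lr.card _ ha r hr hrp
  · rintro _ ⟨a, rfl, ha⟩ g ⟨y, hy⟩ hga u hu
    rw [UG_symm] at hu ⊢
    have hy' : Rep hE e ι g y := hy
    have hyI : y ∈ fixedSubgroup σ := Rep.fix hF hy'
    have h1 := (Rep.comm hF hy' (rep_symm a)).1 hga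
    have hr : Rep hE e ι u (ι (e ⟨u, lf_le _ hu⟩)) := rep_coe _
    have h2 := (Rep.mem_lf hF (h.ule _ ha) hr).1 hu
    have h3 := h.lr.norm _ ha y hyI h1 _ h2
    exact (Rep.mem_lf hF (h.ule _ ha) ((hy'.mul hr).mul hy'.inv)).2 h3
  · rintro _ ⟨a, rfl, ha⟩ g ⟨y, hy⟩ hga hg1 r hr hrp hgr
    rw [UG_symm]
    have hy' : Rep hE e ι g y := hy
    have hyI : y ∈ fixedSubgroup σ := Rep.fix hF hy'
    have h1 := (Rep.comm hF hy' (rep_symm a)).1 hga
    have h2 := h.lr.mem _ ha y hyI h1 (fun h3 => hg1 ((Rep.eq_one hF hy').2 h3)) r hr hrp ((Rep.pow_eq_one hF hy' r).1 hgr)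
    have key : ∀ z ∈ cmm (U (ι a)) y, ∃ c ∈ cmm (lf e ι (U (ι a))) g, Rep hE e ι c z := by
      intro z hz
      induction hz using Subgroup.closure_induction with
      | mem z hz =>
        obtain ⟨u, hu, rfl⟩ := hz
        obtain ⟨b, rfl⟩ := h.ule _ ha hu
        have hb : Rep hE e ι (e.symm b : G) (ι b) := rep_symm b
        exact ⟨_, mem_cmm (mem_lf.2 ⟨b, hu, rfl⟩), ((hb.mul hy').mul hb.inv).mul hy'.inv⟩
      | one => exact ⟨1, one_mem _, Rep.one⟩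
      | mul z z' _ _ ih ih' =>
        obtain ⟨c, hc, h3⟩ := ih
        obtain ⟨c', hc', h4⟩ := ih'
        exact ⟨c * c', mul_mem hc hc', h3.mul h4⟩
      | inv z _ ih =>
        obtain ⟨c, hc, h3⟩ := ih
        exact ⟨c⁻¹, inv_mem hc, h3.inv⟩
    obtain ⟨c, hc, h3⟩ := key _ h2
    rwa [Rep.inj hF (rep_symm a) h3]

end lr

end Cfsg.Agent.H694.RG
end

-- part: H194/RG/TriTab
section
prune_inst 0x400000
set_option linter.all false
open scoped Cfsg.Agent.FastGrp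
private noncomputable def lq26b0d09ff3 {T : Sort _} (f :
    type_of% (@_root_.List.cons.{0}) →
    type_of% (@_root_.List.nil.{0}) →
    type_of% (@_root_.List.cons.{0} (List Nat)) → T) : T :=
  f (@_root_.List.cons.{0}) (@_root_.List.nil.{0}) (@_root_.List.cons.{0} (List Nat))

/-!
# S3509, `E₆`: the table of the subsystems `A₂ A₂ A₂` (helper194)

`TT6` : the `40` subsystems `{a | f a = 0 mod 3}`; `chk_f` : every function with `18` zeros is `± f` for a row.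
-/

set_option autoImplicit false

namespace Cfsg.Agent.H194.RG

open Cfsg Cfsg.Lie Cfsg.Agent.ChevalleyStructure Cfsg.Agent.ChevalleyStructure.RootVec Cfsg.Agent.Nodes.RGDChev
open Cfsg.Agent.KFacts.ChevTwoTab (carB)

/-- a row of the table -/
structure Row where
  f : List ℕ
  b : List ℕ
  c : List ℕ
  d : List ℕ
  u : List ℕ
  v : List ℕ
  g : List (List ℤ)
  t : List ℤ

/-- the table -/
def TT6 : List Row := (beta% (fun (vq0 : List Cfsg.Agent.H194.RG.Row) => (beta% delta% lq26b0d09ff3 fun a b _ =>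
 (let d:type_of% vq0:=(let d:type_of% vq0:=(let d:type_of% vq0:=(a ⟨(a 1<|a 2<|a 1<|a 2<|a 1<|a 1<|b), (a 54<|a 64<|a 69<|b), (a 43<|a 40<|a 51<|b), (a 49<|a 61<|a 60<|b), (a 41<|a 48<|a 44<|b), (a 50<|a 58<|a 63<|b), (a (a 1<|a (-1)<|a (-1)<|a 0<|a 1<|a 0<|a 0<|b)<|a (a (-1)<|a 0<|a 1<|a 0<|a 0<|a 0<|a 0<|b)<|a (a 1<|a 0<|a (-1)<|a (-1)<|a 0<|a 1<|a 0<|b)<|a (a (-1)<|a 1<|a 1<|a 1<|a 0<|a (-1)<|a 0<|b)<|a (a 1<|a (-1)<|a (-1)<|a 0<|a 0<|a 1<|a 0<|b)<|a (a 1<|a 0<|a 0<|a (-1)<|a 0<|a 0<|a 0<|b)<|b), (a 1<|a 2<|a 1<|a (-1)<|a (-1)<|a 1<|b)⟩<|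
 a ⟨(a 1<|a 2<|a 1<|a 2<|a 2<|a 2<|b), (a 53<|a 65<|a 69<|b), (a 43<|a 41<|a 52<|b), (a 48<|a 61<|a 59<|b), (a 40<|a 49<|a 45<|b), (a 50<|a 58<|a 62<|b), (a (a 1<|a (-1)<|a (-1)<|a 0<|a 1<|a 0<|a 0<|b)<|a (a (-1)<|a 0<|a 1<|a 0<|a 0<|a 0<|a 0<|b)<|a (a 1<|a 0<|a (-1)<|a (-1)<|a 0<|a 1<|a 0<|b)<|a (a (-1)<|a 1<|a 1<|a 1<|a 0<|a (-1)<|a 0<|b)<|a (a (-1)<|a 0<|a 1<|a 0<|a (-1)<|a 0<|a 1<|b)<|a (a (-1)<|a 0<|a 0<|a 1<|a 0<|a 0<|a 0<|b)<|b), (a 1<|a 2<|a 1<|a (-1)<|a (-1)<|a 1<|b)⟩<|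
 a ⟨(a 1<|a 2<|a 2<|a 1<|a 1<|a 0<|b), (a 52<|a 61<|a 70<|b), (a 36<|a 47<|a 43<|b), (a 51<|a 57<|a 66<|b), (a 42<|a 34<|a 53<|b), (a 49<|a 62<|a 60<|b), (a (a (-1)<|a 0<|a 0<|a 0<|a 1<|a 0<|a 0<|b)<|a (a 1<|a 0<|a 0<|a 1<|a 0<|a (-1)<|a 0<|b)<|a (a 1<|a 0<|a 0<|a 0<|a 0<|a 0<|a 0<|b)<|a (a (-1)<|a 0<|a 0<|a 0<|a 0<|a 1<|a 0<|b)<|a (a (-1)<|a 0<|a 1<|a (-1)<|a 0<|a 0<|a 0<|b)<|a (a 0<|a 1<|a 0<|a 0<|a 0<|a 0<|a 0<|b)<|b), (a 1<|a 2<|a (-1)<|a 1<|a 1<|a (-1)<|b)⟩<|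
 a ⟨(a 1<|a 2<|a 2<|a 2<|a 0<|a 2<|b), (a 51<|a 63<|a 70<|b), (a 37<|a 49<|a 45<|b), (a 50<|a 57<|a 64<|b), (a 42<|a 38<|a 54<|b), (a 48<|a 61<|a 59<|b), (a (a (-1)<|a 0<|a 0<|a 0<|a 1<|a 0<|a 0<|b)<|a (a 1<|a 0<|a 0<|a 1<|a 0<|a (-1)<|a 0<|b)<|a (a 1<|a 0<|a 0<|a 0<|a 0<|a 0<|a 0<|b)<|a (a 1<|a (-1)<|a (-1)<|a 0<|a (-1)<|a 0<|a 1<|b)<|a (a 0<|a 1<|a 0<|a 0<|a 0<|a 0<|a 0<|b)<|a (a 1<|a (-1)<|a (-1)<|a 1<|a 0<|a 0<|a 0<|b)<|b), (a 1<|a 2<|a (-1)<|a 1<|a 1<|a (-1)<|b)⟩<|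
 a ⟨(a 1<|a 2<|a 2<|a 2<|a 2<|a 1<|b), (a 52<|a 62<|a 70<|b), (a 38<|a 48<|a 44<|b), (a 50<|a 57<|a 65<|b), (a 42<|a 37<|a 53<|b), (a 49<|a 61<|a 60<|b), (a (a (-1)<|a 0<|a 0<|a 0<|a 1<|a 0<|a 0<|b)<|a (a 1<|a 0<|a 0<|a 1<|a 0<|a (-1)<|a 0<|b)<|a (a 1<|a 0<|a 0<|a 0<|a 0<|a 0<|a 0<|b)<|a (a 1<|a (-1)<|a (-1)<|a 0<|a (-1)<|a 0<|a 1<|b)<|a (a 1<|a 0<|a (-1)<|a 1<|a 0<|a 0<|a 0<|b)<|a (a (-1)<|a 1<|a 1<|a (-1)<|a 0<|a 0<|a 0<|b)<|b), (a 1<|a 2<|a (-1)<|a 1<|a 1<|a (-1)<|b)⟩<|b);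
 (a ⟨(a 1<|a 2<|a 0<|a 2<|a 1<|a 2<|b), (a 44<|a 60<|a 71<|b), (a 40<|a 38<|a 54<|b), (a 42<|a 58<|a 62<|b), (a 37<|a 41<|a 52<|b), (a 43<|a 57<|a 64<|b), (a (a 1<|a (-1)<|a (-1)<|a 0<|a 1<|a 0<|a 0<|b)<|a (a (-1)<|a 0<|a 0<|a 0<|a (-1)<|a 0<|a 1<|b)<|a (a 0<|a 0<|a 1<|a 0<|a 0<|a 0<|a 0<|b)<|a (a (-1)<|a 1<|a 0<|a 0<|a 0<|a 0<|a 0<|b)<|a (a 1<|a 0<|a 0<|a 0<|a 0<|a 0<|a 0<|b)<|a (a (-1)<|a 0<|a 0<|a 1<|a 0<|a 0<|a 0<|b)<|b), (a 2<|a 1<|a 1<|a (-1)<|a (-1)<|a 1<|b)⟩<|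
 a ⟨(a 1<|a 2<|a 1<|a 0<|a 1<|a 1<|b), (a 55<|a 65<|a 67<|b), (a 45<|a 39<|a 50<|b), (a 48<|a 63<|a 59<|b), (a 40<|a 47<|a 43<|b), (a 52<|a 60<|a 62<|b), (a (a 1<|a (-1)<|a (-1)<|a 0<|a 1<|a 0<|a 0<|b)<|a (a (-1)<|a 0<|a 1<|a 0<|a 0<|a 0<|a 0<|b)<|a (a 1<|a 0<|a (-1)<|a (-1)<|a 0<|a 1<|a 0<|b)<|a (a 0<|a 0<|a 0<|a 1<|a 0<|a 0<|a 0<|b)<|a (a 1<|a 0<|a 0<|a (-1)<|a 0<|a 0<|a 0<|b)<|a (a 1<|a 0<|a (-1)<|a 0<|a 1<|a 0<|a (-1)<|b)<|b), (a 1<|a 2<|a 1<|a (-1)<|a (-1)<|a 1<|b)⟩<|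
 a ⟨(a 1<|a 2<|a 1<|a 0<|a 2<|a 2<|b), (a 55<|a 64<|a 68<|b), (a 44<|a 39<|a 50<|b), (a 49<|a 62<|a 60<|b), (a 41<|a 47<|a 43<|b), (a 51<|a 59<|a 63<|b), (a (a 1<|a (-1)<|a (-1)<|a 0<|a 1<|a 0<|a 0<|b)<|a (a (-1)<|a 0<|a 1<|a 0<|a 0<|a 0<|a 0<|b)<|a (a 1<|a 0<|a (-1)<|a (-1)<|a 0<|a 1<|a 0<|b)<|a (a 0<|a 0<|a 0<|a 1<|a 0<|a 0<|a 0<|b)<|a (a (-1)<|a 1<|a 1<|a 0<|a 0<|a (-1)<|a 0<|b)<|a (a (-1)<|a 0<|a 1<|a 0<|a (-1)<|a 0<|a 1<|b)<|b), (a 1<|a 2<|a 1<|a (-1)<|a (-1)<|a 1<|b)⟩<|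
 a ⟨(a 1<|a 2<|a 1<|a 1<|a 1<|a 1<|b), (a 53<|a 66<|a 68<|b), (a 44<|a 41<|a 52<|b), (a 47<|a 62<|a 58<|b), (a 39<|a 49<|a 45<|b), (a 51<|a 59<|a 61<|b), (a (a 1<|a (-1)<|a (-1)<|a 0<|a 1<|a 0<|a 0<|b)<|a (a (-1)<|a 0<|a 1<|a 0<|a 0<|a 0<|a 0<|b)<|a (a 1<|a 0<|a (-1)<|a (-1)<|a 0<|a 1<|a 0<|b)<|a (a 1<|a 0<|a 0<|a 0<|a 0<|a 0<|a 0<|b)<|a (a 1<|a 0<|a (-1)<|a 0<|a 1<|a 0<|a (-1)<|b)<|a (a 1<|a (-1)<|a (-1)<|a 0<|a 0<|a 1<|a 0<|b)<|b), (a 1<|a 2<|a 1<|a (-1)<|a (-1)<|a 1<|b)⟩<|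
 a ⟨(a 1<|a 2<|a 1<|a 1<|a 2<|a 2<|b), (a 54<|a 66<|a 67<|b), (a 45<|a 40<|a 51<|b), (a 47<|a 63<|a 58<|b), (a 39<|a 48<|a 44<|b), (a 52<|a 60<|a 61<|b), (a (a 1<|a (-1)<|a (-1)<|a 0<|a 1<|a 0<|a 0<|b)<|a (a (-1)<|a 0<|a 1<|a 0<|a 0<|a 0<|a 0<|b)<|a (a 1<|a 0<|a (-1)<|a (-1)<|a 0<|a 1<|a 0<|b)<|a (a 1<|a 0<|a 0<|a 0<|a 0<|a 0<|a 0<|b)<|a (a (-1)<|a 0<|a 0<|a 1<|a 0<|a 0<|a 0<|b)<|a (a (-1)<|a 1<|a 1<|a 0<|a 0<|a (-1)<|a 0<|b)<|b), (a 1<|a 2<|a 1<|a (-1)<|a (-1)<|a 1<|b)⟩<|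
 d));
 (let d:type_of% d:=(a ⟨(a 1<|a 1<|a 2<|a 0<|a 1<|a 0<|b), (a 45<|a 58<|a 71<|b), (a 36<|a 39<|a 50<|b), (a 44<|a 57<|a 66<|b), (a 41<|a 34<|a 53<|b), (a 42<|a 59<|a 63<|b), (a (a 1<|a (-1)<|a (-1)<|a 0<|a 1<|a 0<|a 0<|b)<|a (a 1<|a (-1)<|a (-1)<|a (-1)<|a 0<|a 1<|a 0<|b)<|a (a (-1)<|a 1<|a 1<|a 0<|a 0<|a 0<|a 0<|b)<|a (a 0<|a 0<|a 0<|a 1<|a 0<|a 0<|a 0<|b)<|a (a 1<|a (-1)<|a 0<|a (-1)<|a 0<|a 0<|a 0<|b)<|a (a 0<|a 1<|a 0<|a 0<|a 0<|a 0<|a 0<|b)<|b), (a 2<|a 1<|a 1<|a (-1)<|a (-1)<|a 1<|b)⟩<|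
 a ⟨(a 1<|a 1<|a 2<|a 1<|a 0<|a 2<|b), (a 44<|a 60<|a 71<|b), (a 37<|a 41<|a 52<|b), (a 43<|a 57<|a 64<|b), (a 40<|a 38<|a 54<|b), (a 42<|a 58<|a 62<|b), (a (a 1<|a (-1)<|a (-1)<|a 0<|a 1<|a 0<|a 0<|b)<|a (a 1<|a (-1)<|a (-1)<|a (-1)<|a 0<|a 1<|a 0<|b)<|a (a (-1)<|a 1<|a 1<|a 0<|a 0<|a 0<|a 0<|b)<|a (a 1<|a (-1)<|a 0<|a 0<|a 0<|a 0<|a 0<|b)<|a (a 0<|a 1<|a 0<|a 0<|a 0<|a 0<|a 0<|b)<|a (a (-1)<|a 0<|a 0<|a 1<|a 0<|a 0<|a 0<|b)<|b), (a 2<|a 1<|a 1<|a (-1)<|a (-1)<|a 1<|b)⟩<|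
 a ⟨(a 1<|a 1<|a 2<|a 1<|a 2<|a 1<|b), (a 45<|a 59<|a 71<|b), (a 38<|a 40<|a 51<|b), (a 43<|a 57<|a 65<|b), (a 41<|a 37<|a 53<|b), (a 42<|a 58<|a 63<|b), (a (a 1<|a (-1)<|a (-1)<|a 0<|a 1<|a 0<|a 0<|b)<|a (a 1<|a (-1)<|a (-1)<|a (-1)<|a 0<|a 1<|a 0<|b)<|a (a (-1)<|a 1<|a 1<|a 0<|a 0<|a 0<|a 0<|b)<|a (a 1<|a (-1)<|a 0<|a 0<|a 0<|a 0<|a 0<|b)<|a (a (-1)<|a 1<|a 0<|a 1<|a 0<|a 0<|a 0<|b)<|a (a 1<|a 0<|a 0<|a (-1)<|a 0<|a 0<|a 0<|b)<|b), (a 2<|a 1<|a 1<|a (-1)<|a (-1)<|a 1<|b)⟩<|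
 a ⟨(a 1<|a 2<|a 0<|a 0<|a 2<|a 0<|b), (a 43<|a 60<|a 71<|b), (a 39<|a 36<|a 55<|b), (a 42<|a 59<|a 61<|b), (a 34<|a 41<|a 52<|b), (a 44<|a 57<|a 64<|b), (a (a 1<|a (-1)<|a (-1)<|a 0<|a 1<|a 0<|a 0<|b)<|a (a (-1)<|a 0<|a 0<|a 0<|a (-1)<|a 0<|a 1<|b)<|a (a 0<|a 0<|a 1<|a 0<|a 0<|a 0<|a 0<|b)<|a (a 0<|a 1<|a 0<|a 0<|a 0<|a 0<|a 0<|b)<|a (a (-1)<|a 0<|a 0<|a 0<|a 0<|a 0<|a 0<|b)<|a (a 0<|a 0<|a 0<|a 1<|a 0<|a 0<|a 0<|b)<|b), (a 2<|a 1<|a 1<|a (-1)<|a (-1)<|a 1<|b)⟩<|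
 a ⟨(a 1<|a 2<|a 0<|a 2<|a 0<|a 1<|b), (a 45<|a 59<|a 71<|b), (a 41<|a 37<|a 53<|b), (a 42<|a 58<|a 63<|b), (a 38<|a 40<|a 51<|b), (a 43<|a 57<|a 65<|b), (a (a 1<|a (-1)<|a (-1)<|a 0<|a 1<|a 0<|a 0<|b)<|a (a (-1)<|a 0<|a 0<|a 0<|a (-1)<|a 0<|a 1<|b)<|a (a 0<|a 0<|a 1<|a 0<|a 0<|a 0<|a 0<|b)<|a (a (-1)<|a 1<|a 0<|a 0<|a 0<|a 0<|a 0<|b)<|a (a 0<|a 0<|a 0<|a 1<|a 0<|a 0<|a 0<|b)<|a (a 1<|a 0<|a 0<|a (-1)<|a 0<|a 0<|a 0<|b)<|b), (a 2<|a 1<|a 1<|a (-1)<|a (-1)<|a 1<|b)⟩<|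
 d);
 (a ⟨(a 1<|a 1<|a 1<|a 0<|a 2<|a 2<|b), (a 54<|a 66<|a 67<|b), (a 39<|a 48<|a 44<|b), (a 52<|a 60<|a 61<|b), (a 45<|a 40<|a 51<|b), (a 47<|a 63<|a 58<|b), (a (a (-1)<|a 0<|a 0<|a 0<|a 1<|a 0<|a 0<|b)<|a (a (-1)<|a 0<|a 1<|a 0<|a 0<|a 0<|a 0<|b)<|a (a (-1)<|a 0<|a 1<|a (-1)<|a 0<|a 1<|a 0<|b)<|a (a 0<|a 1<|a 0<|a 0<|a 0<|a 0<|a 0<|b)<|a (a 1<|a (-1)<|a (-1)<|a 1<|a 0<|a 0<|a 0<|b)<|a (a 1<|a 0<|a 0<|a 0<|a 0<|a (-1)<|a 0<|b)<|b), (a 1<|a 2<|a (-1)<|a 1<|a 1<|a (-1)<|b)⟩<|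
 a ⟨(a 1<|a 1<|a 1<|a 1<|a 1<|a 1<|b), (a 54<|a 64<|a 69<|b), (a 41<|a 48<|a 44<|b), (a 50<|a 58<|a 63<|b), (a 43<|a 40<|a 51<|b), (a 49<|a 61<|a 60<|b), (a (a (-1)<|a 0<|a 0<|a 0<|a 1<|a 0<|a 0<|b)<|a (a (-1)<|a 0<|a 1<|a 0<|a 0<|a 0<|a 0<|b)<|a (a (-1)<|a 0<|a 1<|a (-1)<|a 0<|a 1<|a 0<|b)<|a (a (-1)<|a 1<|a 1<|a 0<|a 1<|a 0<|a (-1)<|b)<|a (a (-1)<|a 0<|a 0<|a 0<|a 0<|a 1<|a 0<|b)<|a (a (-1)<|a 1<|a 1<|a (-1)<|a 0<|a 0<|a 0<|b)<|b), (a 1<|a 2<|a (-1)<|a 1<|a 1<|a (-1)<|b)⟩<|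
 a ⟨(a 1<|a 1<|a 1<|a 1<|a 2<|a 2<|b), (a 53<|a 65<|a 69<|b), (a 40<|a 49<|a 45<|b), (a 50<|a 58<|a 62<|b), (a 43<|a 41<|a 52<|b), (a 48<|a 61<|a 59<|b), (a (a (-1)<|a 0<|a 0<|a 0<|a 1<|a 0<|a 0<|b)<|a (a (-1)<|a 0<|a 1<|a 0<|a 0<|a 0<|a 0<|b)<|a (a (-1)<|a 0<|a 1<|a (-1)<|a 0<|a 1<|a 0<|b)<|a (a (-1)<|a 1<|a 1<|a 0<|a 1<|a 0<|a (-1)<|b)<|a (a 1<|a 0<|a (-1)<|a 0<|a (-1)<|a 0<|a 1<|b)<|a (a 1<|a (-1)<|a (-1)<|a 1<|a 0<|a 0<|a 0<|b)<|b), (a 1<|a 2<|a (-1)<|a 1<|a 1<|a (-1)<|b)⟩<|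
 a ⟨(a 1<|a 1<|a 1<|a 2<|a 1<|a 1<|b), (a 55<|a 65<|a 67<|b), (a 40<|a 47<|a 43<|b), (a 52<|a 60<|a 62<|b), (a 45<|a 39<|a 50<|b), (a 48<|a 63<|a 59<|b), (a (a (-1)<|a 0<|a 0<|a 0<|a 1<|a 0<|a 0<|b)<|a (a (-1)<|a 0<|a 1<|a 0<|a 0<|a 0<|a 0<|b)<|a (a (-1)<|a 0<|a 1<|a (-1)<|a 0<|a 1<|a 0<|b)<|a (a 1<|a 0<|a (-1)<|a 1<|a 0<|a 0<|a 0<|b)<|a (a (-1)<|a 1<|a 1<|a (-1)<|a 0<|a 0<|a 0<|b)<|a (a (-1)<|a 0<|a 1<|a 0<|a 1<|a 0<|a (-1)<|b)<|b), (a 1<|a 2<|a (-1)<|a 1<|a 1<|a (-1)<|b)⟩<|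
 a ⟨(a 1<|a 1<|a 1<|a 2<|a 2<|a 2<|b), (a 55<|a 64<|a 68<|b), (a 41<|a 47<|a 43<|b), (a 51<|a 59<|a 63<|b), (a 44<|a 39<|a 50<|b), (a 49<|a 62<|a 60<|b), (a (a (-1)<|a 0<|a 0<|a 0<|a 1<|a 0<|a 0<|b)<|a (a (-1)<|a 0<|a 1<|a 0<|a 0<|a 0<|a 0<|b)<|a (a (-1)<|a 0<|a 1<|a (-1)<|a 0<|a 1<|a 0<|b)<|a (a 1<|a 0<|a (-1)<|a 1<|a 0<|a 0<|a 0<|b)<|a (a 1<|a 0<|a 0<|a 0<|a 0<|a (-1)<|a 0<|b)<|a (a 1<|a 0<|a (-1)<|a 0<|a (-1)<|a 0<|a 1<|b)<|b), (a 1<|a 2<|a (-1)<|a 1<|a 1<|a (-1)<|b)⟩<|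
 d)));
 (let d:type_of% d:=(let d:type_of% d:=(a ⟨(a 1<|a 0<|a 2<|a 2<|a 2<|a 1<|b), (a 51<|a 66<|a 68<|b), (a 44<|a 38<|a 54<|b), (a 46<|a 64<|a 57<|b), (a 32<|a 49<|a 45<|b), (a 53<|a 59<|a 61<|b), (a (a 1<|a (-1)<|a (-1)<|a 0<|a 1<|a 0<|a 0<|b)<|a (a 0<|a 0<|a 1<|a 0<|a 0<|a 0<|a 0<|b)<|a (a (-1)<|a 1<|a 1<|a 0<|a (-1)<|a 0<|a 1<|b)<|a (a (-1)<|a 0<|a 0<|a 0<|a 0<|a 0<|a 0<|b)<|a (a (-1)<|a 1<|a 1<|a 1<|a 0<|a (-1)<|a 0<|b)<|a (a 1<|a (-1)<|a (-1)<|a 0<|a 0<|a 1<|a 0<|b)<|b), (a 1<|a 2<|a 1<|a (-1)<|a (-1)<|a 1<|b)⟩<|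
 a ⟨(a 1<|a 1<|a 0<|a 1<|a 0<|a 1<|b), (a 52<|a 62<|a 70<|b), (a 42<|a 37<|a 53<|b), (a 49<|a 61<|a 60<|b), (a 38<|a 48<|a 44<|b), (a 50<|a 57<|a 65<|b), (a (a 1<|a (-1)<|a (-1)<|a 0<|a 1<|a 0<|a 0<|b)<|a (a 1<|a 0<|a 0<|a 0<|a 1<|a 0<|a (-1)<|b)<|a (a 0<|a 1<|a 0<|a 0<|a 0<|a 0<|a 0<|b)<|a (a 1<|a (-1)<|a (-1)<|a (-1)<|a 0<|a 1<|a 0<|b)<|a (a 0<|a 0<|a 0<|a 1<|a 0<|a 0<|a 0<|b)<|a (a 1<|a 0<|a 0<|a (-1)<|a 0<|a 0<|a 0<|b)<|b), (a 1<|a 2<|a 1<|a (-1)<|a (-1)<|a 1<|b)⟩<|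
 a ⟨(a 1<|a 1<|a 0<|a 1<|a 1<|a 2<|b), (a 51<|a 63<|a 70<|b), (a 42<|a 38<|a 54<|b), (a 48<|a 61<|a 59<|b), (a 37<|a 49<|a 45<|b), (a 50<|a 57<|a 64<|b), (a (a 1<|a (-1)<|a (-1)<|a 0<|a 1<|a 0<|a 0<|b)<|a (a 1<|a 0<|a 0<|a 0<|a 1<|a 0<|a (-1)<|b)<|a (a 0<|a 1<|a 0<|a 0<|a 0<|a 0<|a 0<|b)<|a (a 1<|a (-1)<|a (-1)<|a (-1)<|a 0<|a 1<|a 0<|b)<|a (a 1<|a 0<|a 0<|a 0<|a 0<|a 0<|a 0<|b)<|a (a (-1)<|a 0<|a 0<|a 1<|a 0<|a 0<|a 0<|b)<|b), (a 1<|a 2<|a 1<|a (-1)<|a (-1)<|a 1<|b)⟩<|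
 a ⟨(a 1<|a 1<|a 0<|a 2<|a 2<|a 0<|b), (a 50<|a 63<|a 70<|b), (a 42<|a 36<|a 55<|b), (a 47<|a 62<|a 58<|b), (a 34<|a 49<|a 45<|b), (a 51<|a 57<|a 64<|b), (a (a 1<|a (-1)<|a (-1)<|a 0<|a 1<|a 0<|a 0<|b)<|a (a 1<|a 0<|a 0<|a 0<|a 1<|a 0<|a (-1)<|b)<|a (a 0<|a 1<|a 0<|a 0<|a 0<|a 0<|a 0<|b)<|a (a (-1)<|a 0<|a 1<|a 0<|a (-1)<|a 0<|a 1<|b)<|a (a (-1)<|a 0<|a 0<|a 0<|a 0<|a 0<|a 0<|b)<|a (a 0<|a 0<|a 0<|a 1<|a 0<|a 0<|a 0<|b)<|b), (a 1<|a 2<|a 1<|a (-1)<|a (-1)<|a 1<|b)⟩<|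
 a ⟨(a 1<|a 1<|a 1<|a 0<|a 1<|a 1<|b), (a 53<|a 66<|a 68<|b), (a 39<|a 49<|a 45<|b), (a 51<|a 59<|a 61<|b), (a 44<|a 41<|a 52<|b), (a 47<|a 62<|a 58<|b), (a (a (-1)<|a 0<|a 0<|a 0<|a 1<|a 0<|a 0<|b)<|a (a (-1)<|a 0<|a 1<|a 0<|a 0<|a 0<|a 0<|b)<|a (a (-1)<|a 0<|a 1<|a (-1)<|a 0<|a 1<|a 0<|b)<|a (a 0<|a 1<|a 0<|a 0<|a 0<|a 0<|a 0<|b)<|a (a (-1)<|a 0<|a 1<|a 0<|a 1<|a 0<|a (-1)<|b)<|a (a (-1)<|a 0<|a 0<|a 0<|a 0<|a 1<|a 0<|b)<|b), (a 1<|a 2<|a (-1)<|a 1<|a 1<|a (-1)<|b)⟩<|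
 d);
 (a ⟨(a 1<|a 0<|a 0<|a 1<|a 0<|a 1<|b), (a 55<|a 63<|a 67<|b), (a 37<|a 46<|a 42<|b), (a 54<|a 60<|a 64<|b), (a 45<|a 32<|a 50<|b), (a 48<|a 65<|a 59<|b), (a (a (-1)<|a 0<|a 0<|a 0<|a 1<|a 0<|a 0<|b)<|a (a 0<|a 0<|a 0<|a 1<|a 0<|a 0<|a 0<|b)<|a (a 0<|a 0<|a 0<|a 0<|a 0<|a 1<|a 0<|b)<|a (a (-1)<|a 0<|a 1<|a (-1)<|a 0<|a 0<|a 0<|b)<|a (a 0<|a 1<|a 0<|a 0<|a 0<|a 0<|a 0<|b)<|a (a (-1)<|a 0<|a 1<|a 0<|a 1<|a 0<|a (-1)<|b)<|b), (a 1<|a 2<|a (-1)<|a 1<|a 1<|a (-1)<|b)⟩<|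
 a ⟨(a 1<|a 0<|a 0<|a 1<|a 1<|a 2<|b), (a 55<|a 62<|a 68<|b), (a 38<|a 46<|a 42<|b), (a 53<|a 59<|a 65<|b), (a 44<|a 32<|a 50<|b), (a 49<|a 64<|a 60<|b), (a (a (-1)<|a 0<|a 0<|a 0<|a 1<|a 0<|a 0<|b)<|a (a 0<|a 0<|a 0<|a 1<|a 0<|a 0<|a 0<|b)<|a (a 0<|a 0<|a 0<|a 0<|a 0<|a 1<|a 0<|b)<|a (a (-1)<|a 0<|a 1<|a (-1)<|a 0<|a 0<|a 0<|b)<|a (a (-1)<|a 1<|a 1<|a 0<|a 1<|a 0<|a (-1)<|b)<|a (a 1<|a 0<|a (-1)<|a 0<|a (-1)<|a 0<|a 1<|b)<|b), (a 1<|a 2<|a (-1)<|a 1<|a 1<|a (-1)<|b)⟩<|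
 a ⟨(a 1<|a 0<|a 0<|a 2<|a 2<|a 0<|b), (a 54<|a 61<|a 69<|b), (a 36<|a 46<|a 42<|b), (a 53<|a 58<|a 66<|b), (a 43<|a 31<|a 51<|b), (a 49<|a 64<|a 60<|b), (a (a (-1)<|a 0<|a 0<|a 0<|a 1<|a 0<|a 0<|b)<|a (a 0<|a 0<|a 0<|a 1<|a 0<|a 0<|a 0<|b)<|a (a 0<|a 0<|a 0<|a 0<|a 0<|a 1<|a 0<|b)<|a (a 1<|a 0<|a 0<|a 0<|a 0<|a (-1)<|a 0<|b)<|a (a 1<|a (-1)<|a (-1)<|a 0<|a (-1)<|a 0<|a 1<|b)<|a (a 0<|a 1<|a 0<|a 0<|a 0<|a 0<|a 0<|b)<|b), (a 1<|a 2<|a (-1)<|a 1<|a 1<|a (-1)<|b)⟩<|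
 a ⟨(a 1<|a 0<|a 2<|a 1<|a 1<|a 0<|b), (a 50<|a 65<|a 69<|b), (a 43<|a 36<|a 55<|b), (a 46<|a 64<|a 57<|b), (a 31<|a 49<|a 45<|b), (a 53<|a 58<|a 62<|b), (a (a 1<|a (-1)<|a (-1)<|a 0<|a 1<|a 0<|a 0<|b)<|a (a 0<|a 0<|a 1<|a 0<|a 0<|a 0<|a 0<|b)<|a (a (-1)<|a 1<|a 1<|a 0<|a (-1)<|a 0<|a 1<|b)<|a (a 1<|a 0<|a (-1)<|a 0<|a 1<|a 0<|a (-1)<|b)<|a (a 1<|a (-1)<|a (-1)<|a (-1)<|a 0<|a 1<|a 0<|b)<|a (a 0<|a 0<|a 0<|a 1<|a 0<|a 0<|a 0<|b)<|b), (a 1<|a 2<|a 1<|a (-1)<|a (-1)<|a 1<|b)⟩<|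
 a ⟨(a 1<|a 0<|a 2<|a 2<|a 0<|a 2<|b), (a 52<|a 66<|a 67<|b), (a 45<|a 37<|a 53<|b), (a 46<|a 65<|a 57<|b), (a 32<|a 48<|a 44<|b), (a 54<|a 60<|a 61<|b), (a (a 1<|a (-1)<|a (-1)<|a 0<|a 1<|a 0<|a 0<|b)<|a (a 0<|a 0<|a 1<|a 0<|a 0<|a 0<|a 0<|b)<|a (a (-1)<|a 1<|a 1<|a 0<|a (-1)<|a 0<|a 1<|b)<|a (a (-1)<|a 0<|a 0<|a 0<|a 0<|a 0<|a 0<|b)<|a (a 0<|a 0<|a 0<|a 1<|a 0<|a 0<|a 0<|b)<|a (a (-1)<|a 1<|a 1<|a 0<|a 0<|a (-1)<|a 0<|b)<|b), (a 1<|a 2<|a 1<|a (-1)<|a (-1)<|a 1<|b)⟩<|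
 d));
 (let d:type_of% d:=(a ⟨(a 0<|a 1<|a 1<|a 0<|a 2<|a 1<|b), (a 41<|a 59<|a 71<|b), (a 38<|a 44<|a 48<|b), (a 39<|a 56<|a 68<|b), (a 29<|a 37<|a 53<|b), (a 45<|a 58<|a 63<|b), (a (a 0<|a 0<|a 0<|a 0<|a 1<|a 0<|a 0<|b)<|a (a (-1)<|a 0<|a 0<|a (-1)<|a 0<|a 1<|a 0<|b)<|a (a (-1)<|a 0<|a 0<|a 0<|a 0<|a 0<|a 0<|b)<|a (a 0<|a 0<|a 1<|a 0<|a 0<|a 0<|a 0<|b)<|a (a 1<|a 0<|a (-1)<|a 1<|a 0<|a 0<|a 0<|b)<|a (a (-1)<|a 1<|a 1<|a (-1)<|a 0<|a 0<|a 0<|b)<|b), (a 1<|a 2<|a (-1)<|a 1<|a 1<|a (-1)<|b)⟩<|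
 a ⟨(a 0<|a 1<|a 1<|a 2<|a 1<|a 0<|b), (a 41<|a 58<|a 71<|b), (a 36<|a 43<|a 47<|b), (a 40<|a 56<|a 69<|b), (a 29<|a 34<|a 53<|b), (a 45<|a 59<|a 63<|b), (a (a 0<|a 0<|a 0<|a 0<|a 1<|a 0<|a 0<|b)<|a (a (-1)<|a 0<|a 0<|a (-1)<|a 0<|a 1<|a 0<|b)<|a (a (-1)<|a 0<|a 0<|a 0<|a 0<|a 0<|a 0<|b)<|a (a 1<|a 0<|a 0<|a 1<|a 0<|a 0<|a 0<|b)<|a (a (-1)<|a 0<|a 1<|a (-1)<|a 0<|a 0<|a 0<|b)<|a (a 0<|a 1<|a 0<|a 0<|a 0<|a 0<|a 0<|b)<|b), (a 1<|a 2<|a (-1)<|a 1<|a 1<|a (-1)<|b)⟩<|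
 a ⟨(a 0<|a 1<|a 2<|a 0<|a 2<|a 0<|b), (a 49<|a 61<|a 70<|b), (a 36<|a 50<|a 39<|b), (a 48<|a 56<|a 69<|b), (a 29<|a 34<|a 53<|b), (a 52<|a 62<|a 60<|b), (a (a 0<|a 0<|a 0<|a 0<|a 1<|a 0<|a 0<|b)<|a (a 1<|a 0<|a 0<|a 1<|a 0<|a (-1)<|a 0<|b)<|a (a (-1)<|a 0<|a 0<|a 0<|a 0<|a 0<|a 0<|b)<|a (a 0<|a 0<|a 0<|a 0<|a 0<|a 1<|a 0<|b)<|a (a (-1)<|a 0<|a 1<|a (-1)<|a 0<|a 0<|a 0<|b)<|a (a 0<|a 1<|a 0<|a 0<|a 0<|a 0<|a 0<|b)<|b), (a 1<|a 2<|a (-1)<|a 1<|a 1<|a (-1)<|b)⟩<|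
 a ⟨(a 0<|a 1<|a 2<|a 2<|a 0<|a 1<|b), (a 48<|a 63<|a 70<|b), (a 37<|a 52<|a 41<|b), (a 47<|a 56<|a 67<|b), (a 29<|a 38<|a 54<|b), (a 51<|a 61<|a 59<|b), (a (a 0<|a 0<|a 0<|a 0<|a 1<|a 0<|a 0<|b)<|a (a 1<|a 0<|a 0<|a 1<|a 0<|a (-1)<|a 0<|b)<|a (a (-1)<|a 0<|a 0<|a 0<|a 0<|a 0<|a 0<|b)<|a (a (-1)<|a 0<|a 1<|a (-1)<|a 0<|a 1<|a 0<|b)<|a (a 0<|a 1<|a 0<|a 0<|a 0<|a 0<|a 0<|b)<|a (a 1<|a (-1)<|a (-1)<|a 1<|a 0<|a 0<|a 0<|b)<|b), (a 1<|a 2<|a (-1)<|a 1<|a 1<|a (-1)<|b)⟩<|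
 a ⟨(a 0<|a 1<|a 2<|a 2<|a 1<|a 2<|b), (a 49<|a 62<|a 70<|b), (a 38<|a 51<|a 40<|b), (a 47<|a 56<|a 68<|b), (a 29<|a 37<|a 53<|b), (a 52<|a 61<|a 60<|b), (a (a 0<|a 0<|a 0<|a 0<|a 1<|a 0<|a 0<|b)<|a (a 1<|a 0<|a 0<|a 1<|a 0<|a (-1)<|a 0<|b)<|a (a (-1)<|a 0<|a 0<|a 0<|a 0<|a 0<|a 0<|b)<|a (a (-1)<|a 0<|a 1<|a (-1)<|a 0<|a 1<|a 0<|b)<|a (a 1<|a 0<|a (-1)<|a 1<|a 0<|a 0<|a 0<|b)<|a (a (-1)<|a 1<|a 1<|a (-1)<|a 0<|a 0<|a 0<|b)<|b), (a 1<|a 2<|a (-1)<|a 1<|a 1<|a (-1)<|b)⟩<|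
 d);
 (a ⟨(a 0<|a 0<|a 0<|a 1<|a 0<|a 0<|b), (a 38<|a 57<|a 71<|b), (a 36<|a 42<|a 46<|b), (a 37<|a 56<|a 70<|b), (a 28<|a 31<|a 51<|b), (a 45<|a 59<|a 65<|b), (a (a 0<|a 0<|a 0<|a 0<|a 1<|a 0<|a 0<|b)<|a (a 0<|a 0<|a 0<|a 0<|a 0<|a 1<|a 0<|b)<|a (a 0<|a 0<|a 0<|a 1<|a 0<|a 0<|a 0<|b)<|a (a (-1)<|a 0<|a 0<|a (-1)<|a 0<|a 0<|a 0<|b)<|a (a 0<|a 0<|a 1<|a 0<|a 0<|a 0<|a 0<|b)<|a (a 0<|a 1<|a 0<|a 0<|a 0<|a 0<|a 0<|b)<|b), (a 1<|a 2<|a (-1)<|a 1<|a 1<|a (-1)<|b)⟩<|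
 a ⟨(a 0<|a 0<|a 1<|a 0<|a 1<|a 0<|b), (a 47<|a 66<|a 68<|b), (a 39<|a 55<|a 36<|b), (a 46<|a 56<|a 67<|b), (a 27<|a 41<|a 52<|b), (a 53<|a 62<|a 58<|b), (a (a 0<|a 0<|a 0<|a 0<|a 1<|a 0<|a 0<|b)<|a (a 0<|a 0<|a 1<|a 0<|a 0<|a 0<|a 0<|b)<|a (a 1<|a (-1)<|a (-1)<|a 0<|a (-1)<|a 0<|a 1<|b)<|a (a 0<|a 1<|a 0<|a 0<|a 0<|a 0<|a 0<|b)<|a (a 1<|a (-1)<|a (-1)<|a 1<|a 0<|a (-1)<|a 0<|b)<|a (a 0<|a 0<|a 0<|a 0<|a 0<|a 1<|a 0<|b)<|b), (a 1<|a 2<|a (-1)<|a 1<|a 1<|a (-1)<|b)⟩<|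
 a ⟨(a 0<|a 0<|a 1<|a 1<|a 0<|a 2<|b), (a 49<|a 64<|a 69<|b), (a 41<|a 53<|a 37<|b), (a 46<|a 56<|a 68<|b), (a 28<|a 40<|a 51<|b), (a 54<|a 61<|a 60<|b), (a (a 0<|a 0<|a 0<|a 0<|a 1<|a 0<|a 0<|b)<|a (a 0<|a 0<|a 1<|a 0<|a 0<|a 0<|a 0<|b)<|a (a 1<|a (-1)<|a (-1)<|a 0<|a (-1)<|a 0<|a 1<|b)<|a (a 1<|a 0<|a (-1)<|a 1<|a 0<|a (-1)<|a 0<|b)<|a (a 0<|a 0<|a 0<|a 0<|a 0<|a 1<|a 0<|b)<|a (a (-1)<|a 1<|a 1<|a (-1)<|a 0<|a 0<|a 0<|b)<|b), (a 1<|a 2<|a (-1)<|a 1<|a 1<|a (-1)<|b)⟩<|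
 a ⟨(a 0<|a 0<|a 1<|a 1<|a 2<|a 1<|b), (a 48<|a 65<|a 69<|b), (a 40<|a 54<|a 38<|b), (a 46<|a 56<|a 67<|b), (a 28<|a 41<|a 52<|b), (a 53<|a 61<|a 59<|b), (a (a 0<|a 0<|a 0<|a 0<|a 1<|a 0<|a 0<|b)<|a (a 0<|a 0<|a 1<|a 0<|a 0<|a 0<|a 0<|b)<|a (a 1<|a (-1)<|a (-1)<|a 0<|a (-1)<|a 0<|a 1<|b)<|a (a 1<|a 0<|a (-1)<|a 1<|a 0<|a (-1)<|a 0<|b)<|a (a (-1)<|a 1<|a 1<|a (-1)<|a 0<|a 1<|a 0<|b)<|a (a 1<|a (-1)<|a (-1)<|a 1<|a 0<|a 0<|a 0<|b)<|b), (a 1<|a 2<|a (-1)<|a 1<|a 1<|a (-1)<|b)⟩<|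
 a ⟨(a 0<|a 1<|a 1<|a 0<|a 0<|a 2<|b), (a 40<|a 60<|a 71<|b), (a 37<|a 45<|a 49<|b), (a 39<|a 56<|a 67<|b), (a 29<|a 38<|a 54<|b), (a 44<|a 58<|a 62<|b), (a (a 0<|a 0<|a 0<|a 0<|a 1<|a 0<|a 0<|b)<|a (a (-1)<|a 0<|a 0<|a (-1)<|a 0<|a 1<|a 0<|b)<|a (a (-1)<|a 0<|a 0<|a 0<|a 0<|a 0<|a 0<|b)<|a (a 0<|a 0<|a 1<|a 0<|a 0<|a 0<|a 0<|b)<|a (a 0<|a 1<|a 0<|a 0<|a 0<|a 0<|a 0<|b)<|a (a 1<|a (-1)<|a (-1)<|a 1<|a 0<|a 0<|a 0<|b)<|b), (a 1<|a 2<|a (-1)<|a 1<|a 1<|a (-1)<|b)⟩<|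
 d)))) :
 List Cfsg.Agent.H194.RG.Row)) _)

/-- the coordinates of the roots modulo three -/
def RM : List (List ℕ) := (beta% delta% lq26b0d09ff3 fun a b c =>
 (let d:=(let d:=(let d:=(let d:=(c (a 1<|a 1<|a 2<|a 2<|a 1<|a 0<|b)<|
 c (a 1<|a 1<|a 2<|a 2<|a 1<|a 1<|b)<|
 c (a 1<|a 1<|a 2<|a 2<|a 2<|a 1<|b)<|
 c (a 1<|a 1<|a 2<|a 0<|a 2<|a 1<|b)<|
 c (a 1<|a 2<|a 2<|a 0<|a 2<|a 1<|b)<|b);
 (c (a 1<|a 1<|a 1<|a 1<|a 1<|a 1<|b)<|
 c (a 1<|a 1<|a 1<|a 2<|a 1<|a 0<|b)<|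
 c (a 1<|a 1<|a 1<|a 2<|a 1<|a 1<|b)<|
 c (a 1<|a 1<|a 1<|a 2<|a 2<|a 1<|b)<|
 d));
 (let d:=(c (a 1<|a 0<|a 1<|a 1<|a 0<|a 0<|b)<|
 c (a 1<|a 0<|a 1<|a 1<|a 1<|a 0<|b)<|
 c (a 1<|a 0<|a 1<|a 1<|a 1<|a 1<|b)<|
 c (a 1<|a 1<|a 1<|a 1<|a 0<|a 0<|b)<|
 c (a 1<|a 1<|a 1<|a 1<|a 1<|a 0<|b)<|
 d);
 (c (a 0<|a 1<|a 1<|a 2<|a 1<|a 1<|b)<|
 c (a 0<|a 1<|a 1<|a 2<|a 2<|a 1<|b)<|
 c (a 1<|a 0<|a 0<|a 0<|a 0<|a 0<|b)<|
 c (a 1<|a 0<|a 1<|a 0<|a 0<|a 0<|b)<|
 d)));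
 (let d:=(let d:=(c (a 0<|a 1<|a 0<|a 1<|a 1<|a 1<|b)<|
 c (a 0<|a 1<|a 1<|a 1<|a 0<|a 0<|b)<|
 c (a 0<|a 1<|a 1<|a 1<|a 1<|a 0<|b)<|
 c (a 0<|a 1<|a 1<|a 1<|a 1<|a 1<|b)<|
 c (a 0<|a 1<|a 1<|a 2<|a 1<|a 0<|b)<|
 d);
 (c (a 0<|a 0<|a 1<|a 1<|a 1<|a 1<|b)<|
 c (a 0<|a 1<|a 0<|a 0<|a 0<|a 0<|b)<|
 c (a 0<|a 1<|a 0<|a 1<|a 0<|a 0<|b)<|
 c (a 0<|a 1<|a 0<|a 1<|a 1<|a 0<|b)<|
 d));
 (let d:=(c (a 0<|a 0<|a 0<|a 1<|a 1<|a 0<|b)<|
 c (a 0<|a 0<|a 0<|a 1<|a 1<|a 1<|b)<|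
 c (a 0<|a 0<|a 1<|a 0<|a 0<|a 0<|b)<|
 c (a 0<|a 0<|a 1<|a 1<|a 0<|a 0<|b)<|
 c (a 0<|a 0<|a 1<|a 1<|a 1<|a 0<|b)<|
 d);
 (c (a 0<|a 0<|a 0<|a 0<|a 0<|a 1<|b)<|
 c (a 0<|a 0<|a 0<|a 0<|a 1<|a 0<|b)<|
 c (a 0<|a 0<|a 0<|a 0<|a 1<|a 1<|b)<|
 c (a 0<|a 0<|a 0<|a 1<|a 0<|a 0<|b)<|
 d))));
 (let d:=(let d:=(let d:=(c (a 0<|a 0<|a 0<|a 2<|a 2<|a 0<|b)<|
 c (a 0<|a 0<|a 0<|a 2<|a 0<|a 0<|b)<|
 c (a 0<|a 0<|a 0<|a 0<|a 2<|a 2<|b)<|
 c (a 0<|a 0<|a 0<|a 0<|a 2<|a 0<|b)<|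
 c (a 0<|a 0<|a 0<|a 0<|a 0<|a 2<|b)<|
 d);
 (c (a 0<|a 0<|a 2<|a 2<|a 2<|a 0<|b)<|
 c (a 0<|a 0<|a 2<|a 2<|a 0<|a 0<|b)<|
 c (a 0<|a 0<|a 2<|a 0<|a 0<|a 0<|b)<|
 c (a 0<|a 0<|a 0<|a 2<|a 2<|a 2<|b)<|
 d));
 (let d:=(c (a 0<|a 2<|a 0<|a 2<|a 2<|a 2<|b)<|
 c (a 0<|a 2<|a 0<|a 2<|a 2<|a 0<|b)<|
 c (a 0<|a 2<|a 0<|a 2<|a 0<|a 0<|b)<|
 c (a 0<|a 2<|a 0<|a 0<|a 0<|a 0<|b)<|
 c (a 0<|a 0<|a 2<|a 2<|a 2<|a 2<|b)<|
 d);
 (c (a 0<|a 2<|a 2<|a 1<|a 2<|a 0<|b)<|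
 c (a 0<|a 2<|a 2<|a 2<|a 2<|a 2<|b)<|
 c (a 0<|a 2<|a 2<|a 2<|a 2<|a 0<|b)<|
 c (a 0<|a 2<|a 2<|a 2<|a 0<|a 0<|b)<|
 d)));
 (let d:=(let d:=(c (a 2<|a 0<|a 2<|a 2<|a 0<|a 0<|b)<|
 c (a 2<|a 0<|a 2<|a 0<|a 0<|a 0<|b)<|
 c (a 2<|a 0<|a 0<|a 0<|a 0<|a 0<|b)<|
 c (a 0<|a 2<|a 2<|a 1<|a 1<|a 2<|b)<|
 c (a 0<|a 2<|a 2<|a 1<|a 2<|a 2<|b)<|
 d);
 (c (a 2<|a 2<|a 2<|a 2<|a 2<|a 0<|b)<|
 c (a 2<|a 2<|a 2<|a 2<|a 0<|a 0<|b)<|
 c (a 2<|a 0<|a 2<|a 2<|a 2<|a 2<|b)<|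
 c (a 2<|a 0<|a 2<|a 2<|a 2<|a 0<|b)<|
 d));
 (let d:=(c (a 2<|a 2<|a 1<|a 1<|a 2<|a 0<|b)<|
 c (a 2<|a 2<|a 2<|a 1<|a 1<|a 2<|b)<|
 c (a 2<|a 2<|a 2<|a 1<|a 2<|a 2<|b)<|
 c (a 2<|a 2<|a 2<|a 1<|a 2<|a 0<|b)<|
 c (a 2<|a 2<|a 2<|a 2<|a 2<|a 2<|b)<|
 d);
 (a (a 2<|a 1<|a 1<|a 0<|a 1<|a 2<|b)<|
 a (a 2<|a 2<|a 1<|a 0<|a 1<|a 2<|b)<|
 a (a 2<|a 2<|a 1<|a 1<|a 1<|a 2<|b)<|
 a (a 2<|a 2<|a 1<|a 1<|a 2<|a 2<|b)<|
 d))))))

theorem RM_eq : ∀ q < 72, ∀ k : Fin 6, ((RM.getD q []).getD k 0 : ℤ) = vec chevE6 6 q k % 3 := by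
  decide +kernel

def dotM (e0 e1 e2 e3 e4 e5 : ℕ) : List ℕ → ℕ
  | [a0, a1, a2, a3, a4, a5] => (e0 * a0 + e1 * a1 + e2 * a2 + e3 * a3 + e4 * a4 + e5 * a5) % 3
  | _ => 1

def cnt (e0 e1 e2 e3 e4 e5 : ℕ) : ℕ := RM.countP fun x => dotM e0 e1 e2 e3 e4 e5 x == 0

def eqv (e0 e1 e2 e3 e4 e5 : ℕ) (f : List ℕ) : Bool :=
  f == [e0, e1, e2, e3, e4, e5] || f == [(3 - e0) % 3, (3 - e1) % 3, (3 - e2) % 3, (3 - e3) % 3, (3 - e4) % 3, (3 - e5) % 3]

private noncomputable def pq (l : List ℕ) : ℕ := List.rec 0 (fun z _ ih => Nat.add z (Nat.mul 32 ih)) l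

private noncomputable def cz (n : ℕ) : ℕ → ℕ :=
  Nat.rec (fun _ => 0) (fun _ ih V => Bool.rec (ih (Nat.div V 32)) (Nat.succ (ih (Nat.div V 32))) (Nat.beq (Nat.mod (Nat.mod V 32) 3) 0)) n

private noncomputable def col (l : List (List ℕ)) (k : ℕ) : ℕ := pq (l.map fun x => x.getD k 0)

private theorem cz_eq (e0 e1 e2 e3 e4 e5 : Fin 3) : ∀ l : List (List ℕ), (∀ x ∈ l, x.length = 6 ∧ ∀ a ∈ x, a < 3) →
    cz l.length (e0 * col l 0 + e1 * col l 1 + e2 * col l 2 + e3 * col l 3 + e4 * col l 4 + e5 * col l 5) =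
      l.countP fun x => dotM e0 e1 e2 e3 e4 e5 x == 0
  | [], _ => rfl
  | x :: l, h => by
    have ih := cz_eq e0 e1 e2 e3 e4 e5 l fun y hy => h y (List.mem_cons_of_mem _ hy)
    obtain ⟨h1, h2⟩ := h x List.mem_cons_self
    match x, h1, h2 with
    | [a0, a1, a2, a3, a4, a5], _, h2 =>
      have b : ∀ (e : Fin 3) (a : ℕ), a < 3 → e * a ≤ 4 := fun e a ha =>
        Nat.mul_le_mul (Nat.le_of_lt_succ e.2) (Nat.le_of_lt_succ ha)
      have b0 := b e0 a0 (h2 _ (by simp only [List.mem_cons, true_or]))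
      have b1 := b e1 a1 (h2 _ (by simp only [List.mem_cons, true_or, or_true]))
      have b2 := b e2 a2 (h2 _ (by simp only [List.mem_cons, true_or, or_true]))
      have b3 := b e3 a3 (h2 _ (by simp only [List.mem_cons, true_or, or_true]))
      have b4 := b e4 a4 (h2 _ (by simp only [List.mem_cons, true_or, or_true]))
      have b5 := b e5 a5 (h2 _ (by simp only [List.mem_cons, true_or, or_true]))
      obtain ⟨W, hW⟩ : ∃ W, W = e0 * col l 0 + e1 * col l 1 + e2 * col l 2 + e3 * col l 3 + e4 * col l 4 + e5 * col l 5 := ⟨_, rfl⟩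
      obtain ⟨d, hd⟩ : ∃ d, d = e0 * a0 + e1 * a1 + e2 * a2 + e3 * a3 + e4 * a4 + e5 * a5 := ⟨_, rfl⟩
      have e : e0 * (a0 + 32 * col l 0) + e1 * (a1 + 32 * col l 1) + e2 * (a2 + 32 * col l 2) + e3 * (a3 + 32 * col l 3) +
          e4 * (a4 + 32 * col l 4) + e5 * (a5 + 32 * col l 5) = d + 32 * W := by rw [hW, hd]; ring
      have hlt : d < 32 := by omega
      refine (congrArg (cz (l.length + 1)) e).trans ?_
      rw [List.countP_cons, ← ih, ← hW]
      show (Bool.rec (cz l.length ((d + 32 * W) / 32)) (Nat.succ (cz l.length ((d + 32 * W) / 32)))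
        (Nat.beq ((d + 32 * W) % 32 % 3) 0) : ℕ) = cz l.length W + if ((e0 * a0 + e1 * a1 + e2 * a2 + e3 * a3 + e4 * a4 + e5 * a5 : ℕ) % 3 == 0) = true then 1 else 0
      rw [show (d + 32 * W) / 32 = W by omega, show (d + 32 * W) % 32 = d by omega, ← hd]
      generalize d % 3 = m
      cases m <;> rfl

private theorem chk_q : ∀ e0 e1 e2 e3 e4 e5 : Fin 3,
    Nat.beq (cz 72 (e0 * col RM 0 + e1 * col RM 1 + e2 * col RM 2 + e3 * col RM 3 + e4 * col RM 4 + e5 * col RM 5)) 18 = true →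
    (TT6.any fun r => eqv e0 e1 e2 e3 e4 e5 r.f) = true := by
  decide +kernel

theorem chk_f : ∀ e0 e1 e2 e3 e4 e5 : Fin 3, (cnt e0 e1 e2 e3 e4 e5 == 18) = true →
    (TT6.any fun r => eqv e0 e1 e2 e3 e4 e5 r.f) = true := by
  intro e0 e1 e2 e3 e4 e5 h
  refine chk_q e0 e1 e2 e3 e4 e5 ?_
  have h1 := cz_eq e0 e1 e2 e3 e4 e5 RM (by decide +kernel)
  rw [show RM.length = 72 by decide +kernel] at h1
  rw [h1, Nat.beq_eq]
  exact eq_of_beq h

end Cfsg.Agent.H194.RG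
end

-- part: H147/RG/CovT
section
set_option linter.all false
open scoped Cfsg.Agent.FastGrp

/-!
# S3509: triple covers, word certificates (helper147)

* `pc_prod`, `dead_prod`, `dead_step` : products of conjugates (after helper291);
* `TC N H a b c` : every `N`-conjugate of the triple has a member in `H`;
* `rce_of_triple` : three primes;
* `rce_inv` : the inverse automorphism.
-/

set_option autoImplicit false
set_option linter.unusedSectionVars false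

namespace Cfsg.Agent.H147.RG

open Subgroup Cfsg.Agent.H106.RC Cfsg.Agent.H916.RG

section

variable {A : Type*} [Group A] {N H : Subgroup A} {a b c : A}

theorem pc_prod (h : PC N H a b) : ∀ l : List A, (∀ n ∈ l, n ∈ N ∧ n * a = a * n) →
    PC N H a (l.map fun n => n * b * n⁻¹).prod
  | [], _ => fun s _ => Or.inr (by simp)
  | n :: l, hl => by
    rw [List.map_cons, List.prod_cons]
    exact (h.conj_right (hl n (by simp)).1 (hl n (by simp)).2).mul_right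
      (pc_prod h l fun m hm => hl m (List.mem_cons_of_mem _ hm))

theorem dead_prod (hN : Nice N) (ha : a ≠ 1) (l : List A) (hl : ∀ n ∈ l, n ∈ N ∧ n * a = a * n) (k : ℕ)
    (h : (l.map fun n => n * b * n⁻¹).prod ^ k = a) : Dead N a b := by
  intro H hH hP
  have h1 := (pc_prod hP l hl).pow_right k
  rw [h] at h1
  exact hN.absurd hH ha h1

theorem dead_step {y : A} (l : List A) (hl : ∀ n ∈ l, n ∈ N ∧ n * a = a * n) (k : ℕ)
    (h : (l.map fun n => n * b * n⁻¹).prod ^ k = y) (hD : Dead N a y) : Dead N a b := by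
  intro H hH hP
  have h1 := (pc_prod hP l hl).pow_right k
  rw [h] at h1
  exact hD H hH h1

/-- every `N`-conjugate of the triple `(a, b, c)` has a member in `H` -/
def TC (N H : Subgroup A) (a b c : A) : Prop := ∀ s ∈ N, s * a * s⁻¹ ∈ H ∨ s * b * s⁻¹ ∈ H ∨ s * c * s⁻¹ ∈ H

/-- exchange of the last two members -/
theorem TC.swap (h : TC N H a b c) : TC N H a c b := fun s hs => (h s hs).imp id Or.symm

theorem TC.mul {d : A} (h : TC N H a b c) (h' : TC N H a b d) : TC N H a b (c * d) := by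
  intro s hs
  rcases h s hs with h1 | h1 | h1
  · exact Or.inl h1
  · exact Or.inr (Or.inl h1)
  rcases h' s hs with h2 | h2 | h2
  · exact Or.inl h2
  · exact Or.inr (Or.inl h2)
  · refine Or.inr (Or.inr ?_)
    have e : s * (c * d) * s⁻¹ = (s * c * s⁻¹) * (s * d * s⁻¹) := by group
    rw [e]
    exact H.mul_mem h1 h2

theorem TC.pow (h : TC N H a b c) (k : ℕ) : TC N H a b (c ^ k) := by
  intro s hs
  rcases h s hs with h1 | h1 | h1
  · exact Or.inl h1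
  · exact Or.inr (Or.inl h1)
  · refine Or.inr (Or.inr ?_)
    rw [← conj_pow]
    exact H.pow_mem h1 k

theorem TC.conj (h : TC N H a b c) {n : A} (hn : n ∈ N) (ha : n * a = a * n) (hb : n * b = b * n) :
    TC N H a b (n * c * n⁻¹) := by
  intro s hs
  have key : ∀ z : A, n * z = z * n → s * n * z * (s * n)⁻¹ = s * z * s⁻¹ := by
    intro z hz
    calc s * n * z * (s * n)⁻¹ = s * (n * z) * n⁻¹ * s⁻¹ := by group
      _ = s * z * s⁻¹ := by rw [hz]; group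
  rcases h (s * n) (N.mul_mem hs hn) with h1 | h1 | h1
  · rw [key a ha] at h1; exact Or.inl h1
  · rw [key b hb] at h1; exact Or.inr (Or.inl h1)
  · refine Or.inr (Or.inr ?_)
    have e : s * (n * c * n⁻¹) * s⁻¹ = s * n * c * (s * n)⁻¹ := by group
    rwa [e]

theorem TC.prod (h : TC N H a b c) : ∀ l : List A, (∀ n ∈ l, n ∈ N ∧ n * a = a * n) →
    (∀ n ∈ l, n ∈ N ∧ n * b = b * n) → TC N H a b (l.map fun n => n * c * n⁻¹).prod
  | [], _, _ => fun s _ => Or.inr (Or.inr (by simp))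
  | n :: l, hl, hl' => by
    rw [List.map_cons, List.prod_cons]
    exact (h.conj (hl n (by simp)).1 (hl n (by simp)).2 (hl' n (by simp)).2).mul
      (TC.prod h l (fun m hm => hl m (List.mem_cons_of_mem _ hm)) fun m hm => hl' m (List.mem_cons_of_mem _ hm))

theorem TC.toPC (h : TC N H a b a) : PC N H a b := fun s hs => by
  rcases h s hs with h1 | h1 | h1
  · exact Or.inl h1
  · exact Or.inr h1
  · exact Or.inl h1

end

section RCe

variable {S : Type*} [Group S]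

/-- a cover by the members of prime order -/
theorem rce_of_cov {g : MulAut S} {m : ℕ} (hm : orderOf g = m) (hm0 : m ≠ 0)
    (hD : ∀ H : Subgroup (MulAut S), ¬ (MulAut.conj : S →* MulAut S).range ≤ H →
      ¬ ∀ s : S, ∃ r : ℕ, r.Prime ∧ r ∣ m ∧ MulAut.conj s * g ^ (m / r) * (MulAut.conj s)⁻¹ ∈ H) : RCe S g := by
  intro H hH
  by_contra hcon
  push Not at hcon
  refine hD H hH ?_
  intro s
  obtain ⟨z, hz, hzH, hz1⟩ := hcon s
  obtain ⟨l, rfl⟩ := Subgroup.mem_zpowers_iff.1 hz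
  obtain ⟨k, hk⟩ : ∃ k : ℕ, g ^ k = g ^ l := by
    have hg : IsOfFinOrder g := orderOf_pos_iff.1 (by rw [hm]; omega)
    obtain ⟨k, hk⟩ := (hg.mem_powers_iff_mem_zpowers (y := g ^ l)).2 ⟨l, rfl⟩
    exact ⟨k, hk⟩
  have hd : Nat.gcd k m ∣ m := Nat.gcd_dvd_right k m
  have hdm : m / Nat.gcd k m ≠ 1 := by
    intro h1
    have h2 : Nat.gcd k m = m := by
      have h3 := Nat.div_mul_cancel hd
      rw [h1, one_mul] at h3
      exact h3
    have h3 : m ∣ k := h2 ▸ Nat.gcd_dvd_left k m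
    apply hz1
    rw [← hk]
    exact orderOf_dvd_iff_pow_eq_one.1 (hm ▸ h3)
  obtain ⟨r, hr, hrz⟩ := Nat.exists_prime_and_dvd hdm
  have hrm : r ∣ m := hrz.trans (Nat.div_dvd_of_dvd hd)
  have key : g ^ (m / r) ∈ zpowers (g ^ l) := by
    have h1 : g ^ Nat.gcd k m ∈ zpowers (g ^ l) := by
      refine ⟨Nat.gcdA k m, ?_⟩
      have h2 : (g ^ l) ^ Nat.gcdA k m = g ^ ((Nat.gcd k m : ℕ) : ℤ) := by
        rw [← hk, Nat.gcd_eq_gcd_ab, zpow_add, zpow_mul, zpow_mul, zpow_natCast, zpow_natCast, ← hm,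
          pow_orderOf_eq_one, one_zpow, mul_one]
      rw [zpow_natCast] at h2
      exact h2
    obtain ⟨e, he⟩ := hrz
    have hd0 : 0 < Nat.gcd k m := Nat.pos_of_ne_zero fun h => hm0 (Nat.eq_zero_of_zero_dvd (h ▸ hd))
    have h2 : m = Nat.gcd k m * (r * e) := by rw [← he, Nat.mul_div_cancel' hd]
    have h3 : m / r = Nat.gcd k m * e := by
      apply Nat.div_eq_of_eq_mul_left hr.pos
      calc m = Nat.gcd k m * (r * e) := h2
        _ = Nat.gcd k m * e * r := by ring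
    rw [h3, pow_mul]
    exact Subgroup.pow_mem _ h1 e
  obtain ⟨i, hi⟩ := key
  refine ⟨r, hr, hrm, ?_⟩
  have h7 : (g ^ l) ^ i = g ^ (m / r) := hi
  rw [← h7, ← conj_zpow]
  exact H.zpow_mem hzH i

/-- inner automorphisms, three primes -/
theorem rce_of_triple (hS : IsSimpleGroup S) (hSn : ¬ IsMulCommutative S) {x : S} {m p q t : ℕ}
    (hm : orderOf x = m) (hm0 : m ≠ 0) (hpr : ∀ r : ℕ, r.Prime → r ∣ m → r = p ∨ r = q ∨ r = t)
    (hD : ∀ H : Subgroup S, ¬ (⊤ : Subgroup S) ≤ H → ¬ TC ⊤ H (x ^ (m / p)) (x ^ (m / q)) (x ^ (m / t))) :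
    RCe S (MulAut.conj x) := by
  refine rce_of_cov (m := m) (by rw [orderOf_injective _ (conj_injective hS hSn), hm]) hm0 fun H hH hcov => ?_
  refine hD (H.comap MulAut.conj) (fun hle => hH ?_) fun s _ => ?_
  · rintro _ ⟨s, rfl⟩
    exact hle (Subgroup.mem_top s)
  · obtain ⟨r, hr, hrm, h⟩ := hcov s
    have e : ∀ j : ℕ, MulAut.conj s * MulAut.conj x ^ j * (MulAut.conj s)⁻¹ = MulAut.conj (s * x ^ j * s⁻¹) := by
      intro j
      rw [map_mul, map_mul, map_inv, map_pow]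
    rw [e] at h
    rcases hpr r hr hrm with rfl | rfl | rfl
    · exact Or.inl h
    · exact Or.inr (Or.inl h)
    · exact Or.inr (Or.inr h)

/-- the inverse -/
theorem rce_inv {g : MulAut S} (h : RCe S g) : RCe S g⁻¹ := by
  intro H hH
  obtain ⟨s, hs⟩ := h H hH
  refine ⟨s, fun z hz => hs z ?_⟩
  rwa [Subgroup.zpowers_inv] at hz

end RCe

end Cfsg.Agent.H147.RG
end

-- part: H660/RR/Done
section
prune_inst 0x40201400004002000000001240003c04c6000590002b8c00dda10f4204867f200d022f21cd801c095820a20c003400200210044000000000002004000020068900a812063140a10000008f003000400000000000000000000000000000041000000400000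
set_option linter.all false
open scoped Cfsg.Agent.FastGrp

-- part: H660/RR/Hol
section
/-!
# S3509: a regular simple normal subgroup (helper660)

* `prime_lt` : `a`, `x` commuting nontrivial automorphisms of the simple group `S`, `x ^ p = 1`: then
  `p + 1 ≤ |S : C_S(a)|`;
* `card_fix` : the number of fixed points of an element normalizing a regular subgroup;
* `hol_reg` : `T` simple, nonabelian, normal in `L` and regular on `Δ`: every element of `L` has a regular point.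
-/

set_option autoImplicit false

namespace Cfsg.Agent.H660.RR

open Subgroup MulAction
open Cfsg.Agent.H106.RC (Cov PF RegPt exists_cover)

section aut

variable {S : Type*} [Group S]

/-- the fixed points of an automorphism -/
def fixS (a : MulAut S) : Subgroup S where
  carrier := {s | a s = s}
  one_mem' := map_one a
  mul_mem' := by
    intro x y hx hy
    show a (x * y) = x * y
    rw [map_mul, show a x = x from hx, show a y = y from hy]
  inv_mem' := by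
    intro x hx
    show a x⁻¹ = x⁻¹
    rw [map_inv, show a x = x from hx]

theorem mem_fixS {a : MulAut S} {s : S} : s ∈ fixS a ↔ a s = s := Iff.rfl

theorem fixS_ne_top {a : MulAut S} (ha : a ≠ 1) : fixS a ≠ ⊤ := by
  intro h
  apply ha
  ext s
  have h1 : s ∈ fixS a := by rw [h]; exact mem_top s
  exact h1

/-- a simple group is generated by the `s⁻¹ x(s)` -/
theorem closure_comm_eq_top [IsSimpleGroup S] {x : MulAut S} (hx : x ≠ 1) :
    closure (Set.range fun s : S => s⁻¹ * x s) = ⊤ := by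
  set K := closure (Set.range fun s : S => s⁻¹ * x s) with hK
  have hmem : ∀ s : S, s⁻¹ * x s ∈ K := fun s => subset_closure ⟨s, rfl⟩
  -- `K` is normal: `t⁻¹ (s⁻¹ x(s)) t = ((s t)⁻¹ x(s t)) (t⁻¹ x(t))⁻¹`
  have h1 : ∀ t : S, ∀ s : S, t⁻¹ * (s⁻¹ * x s) * t ∈ K := by
    intro t s
    have e : t⁻¹ * (s⁻¹ * x s) * t = ((s * t)⁻¹ * x (s * t)) * (t⁻¹ * x t)⁻¹ := by
      rw [map_mul]; group
    rw [e]
    exact mul_mem (hmem _) (inv_mem (hmem _))
  have h2 : ∀ t : S, K ≤ K.comap (MulAut.conj t⁻¹).toMonoidHom := by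
    intro t
    rw [hK, closure_le]
    rintro _ ⟨s, rfl⟩
    show t⁻¹ * (s⁻¹ * x s) * t⁻¹⁻¹ ∈ K
    rw [inv_inv]
    exact h1 t s
  have hn : K.Normal := ⟨fun k hk t => by
    have h3 := h2 t⁻¹ hk
    have h4 : t⁻¹⁻¹ * k * t⁻¹⁻¹⁻¹ ∈ K := h3
    rwa [inv_inv] at h4⟩
  rcases hn.eq_bot_or_eq_top with h | h
  · exfalso
    apply hx
    ext s
    have h3 := hmem s
    rw [h, mem_bot, inv_mul_eq_one] at h3
    exact h3.symm
  · exact h

/-- **The class lemma.** -/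
theorem prime_lt [Finite S] [IsSimpleGroup S] {a x : MulAut S} (hax : Commute a x) (ha : a ≠ 1) (hx : x ≠ 1) {p : ℕ}
    (hp : p.Prime) (hxp : x ^ p = 1) : p + 1 ≤ (fixS a).index := by
  have hxC : ∀ s, s ∈ fixS a → x s ∈ fixS a := by
    intro s hs
    have h1 := DFunLike.congr_fun hax.eq s
    rw [MulAut.mul_apply, MulAut.mul_apply, mem_fixS.1 hs] at h1
    exact h1
  have hxC' : ∀ s, s ∈ fixS a → x⁻¹ s ∈ fixS a := by
    intro s hs
    have h1 := DFunLike.congr_fun (hax.inv_right).eq s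
    rw [MulAut.mul_apply, MulAut.mul_apply, mem_fixS.1 hs] at h1
    exact h1
  have hrel : ∀ (y : MulAut S), (∀ s, s ∈ fixS a → y s ∈ fixS a) → ∀ s t : S,
      QuotientGroup.leftRel (fixS a) s t → QuotientGroup.leftRel (fixS a) (y s) (y t) := by
    intro y hy s t h
    rw [QuotientGroup.leftRel_apply] at h ⊢
    rw [← map_inv, ← map_mul]
    exact hy _ h
  let f : Equiv.Perm (S ⧸ fixS a) :=
    { toFun := Quotient.map' x (hrel x hxC)
      invFun := Quotient.map' (x⁻¹ : MulAut S) (hrel x⁻¹ hxC')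
      left_inv := fun q => by
        induction q using Quotient.inductionOn' with
        | h s => rw [Quotient.map'_mk'', Quotient.map'_mk'', MulAut.inv_apply_self]
      right_inv := fun q => by
        induction q using Quotient.inductionOn' with
        | h s => rw [Quotient.map'_mk'', Quotient.map'_mk'', MulAut.apply_inv_self] }
  have hf : ∀ s : S, f (QuotientGroup.mk s) = QuotientGroup.mk (x s) := fun s => rfl
  have hfk : ∀ (k : ℕ) (s : S), (f ^ k) (QuotientGroup.mk s) = QuotientGroup.mk ((x ^ k) s) := by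
    intro k
    induction k with
    | zero => intro s; rfl
    | succ k ih =>
      intro s
      rw [pow_succ', Equiv.Perm.mul_apply, ih, hf, pow_succ', MulAut.mul_apply]
  have hfp : f ^ p = 1 := by
    ext q
    induction q using Quotient.inductionOn' with
    | h s =>
      have h1 := hfk p s
      rw [hxp] at h1
      exact h1
  -- a moved point
  obtain ⟨s, hs⟩ : ∃ s : S, f (QuotientGroup.mk s) ≠ (QuotientGroup.mk s : S ⧸ fixS a) := by
    by_contra hcon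
    push Not at hcon
    apply fixS_ne_top ha
    rw [eq_top_iff, ← closure_comm_eq_top hx, closure_le]
    rintro _ ⟨s, rfl⟩
    have h1 := hcon s
    rw [hf, eq_comm, QuotientGroup.eq] at h1
    exact h1
  set q : S ⧸ fixS a := QuotientGroup.mk s with hq
  have hbase : ∀ k : ℤ, (f ^ k) (QuotientGroup.mk (1 : S)) = (QuotientGroup.mk (1 : S) : S ⧸ fixS a) := by
    have h1 : f ∈ stabilizer (Equiv.Perm (S ⧸ fixS a)) (QuotientGroup.mk (1 : S) : S ⧸ fixS a) := by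
      show f (QuotientGroup.mk (1 : S)) = _
      rw [hf, map_one]
    exact fun k => zpow_mem h1 k
  have horb : (orbit (zpowers f) q).ncard = p := by
    rw [← index_stabilizer]
    have h1 : (stabilizer (zpowers f) q).index ∣ Nat.card (zpowers f) := index_dvd_card _
    rw [Nat.card_zpowers] at h1
    have h2 : orderOf f ∣ p := orderOf_dvd_of_pow_eq_one hfp
    rcases (Nat.dvd_prime hp).1 (h1.trans h2) with h3 | h3
    · exfalso
      rw [index_eq_one] at h3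
      apply hs
      have h4 : (⟨f, mem_zpowers f⟩ : zpowers f) ∈ stabilizer (zpowers f) q := by rw [h3]; exact mem_top _
      exact h4
    · exact h3
  have hnot : (QuotientGroup.mk (1 : S) : S ⧸ fixS a) ∉ orbit (zpowers f) q := by
    rintro ⟨⟨_, k, rfl⟩, hk⟩
    have hk' : (f ^ k) q = QuotientGroup.mk (1 : S) := hk
    apply hs
    have h1 : q = QuotientGroup.mk (1 : S) := by
      apply (f ^ k).injective
      rw [hk', hbase]
    show f q = q
    rw [h1]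
    exact hbase 1
  have hfin : (orbit (zpowers f) q).Finite := Set.toFinite _
  have h1 := Set.ncard_insert_of_notMem hnot hfin
  rw [horb] at h1
  have h2 := Set.ncard_le_card (insert (QuotientGroup.mk (1 : S) : S ⧸ fixS a) (orbit (zpowers f) q))
  rw [h1] at h2
  exact h2

end aut

section fix

variable {L Δ : Type*} [Group L] [MulAction L Δ]

/-- the number of fixed points of `x` -/
noncomputable def nfix (Δ : Type*) [MulAction L Δ] (x : L) : ℕ := Nat.card {δ : Δ // x • δ = δ}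

/-- the union bound -/
theorem union_bound [Finite Δ] {ι : Type*} [Fintype ι] {x : ι → L} (h : Cov Δ x) :
    Nat.card Δ ≤ ∑ i, nfix Δ (x i) := by
  classical
  have := Fintype.ofFinite Δ
  choose f hf using h
  have h1 : Nat.card Δ ≤ Nat.card (Σ i, {δ : Δ // x i • δ = δ}) :=
    Nat.card_le_card_of_injective (fun δ => ⟨f δ, δ, hf δ⟩) (by
      intro a b hab
      have h2 := congrArg (fun z : (Σ i, {δ : Δ // x i • δ = δ}) => (z.2 : Δ)) hab
      exact h2)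
  rwa [Nat.card_sigma] at h1

/-- **the fixed points of an element normalizing a regular subgroup** -/
theorem card_fix {M : Subgroup L} (htr : ∀ x y : Δ, ∃ t ∈ M, t • x = y)
    (hreg : ∀ t ∈ M, ∀ x : Δ, t • x = x → t = 1) {x : L} (hx : ∀ t ∈ M, x * t * x⁻¹ ∈ M) {δ : Δ} (hδ : x • δ = δ) :
    nfix Δ x = Nat.card {t : M // x * t * x⁻¹ = t} := by
  unfold nfix
  symm
  refine Nat.card_congr (Equiv.ofBijective (fun t => ⟨(t.1 : L) • δ, ?_⟩) ⟨?_, ?_⟩)
  · have h1 : x • (t.1 : L) • δ = (x * (t.1 : L) * x⁻¹) • x • δ := by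
      rw [smul_smul, smul_smul]; congr 1; group
    rw [h1, hδ, t.2]
  · intro s t h
    have h1 : (s.1 : L) • δ = (t.1 : L) • δ := congrArg Subtype.val h
    have h2 : ((t.1 : L)⁻¹ * (s.1 : L)) • δ = δ := by rw [mul_smul, h1, inv_smul_smul]
    have h3 := hreg _ (mul_mem (inv_mem t.1.2) s.1.2) δ h2
    rw [inv_mul_eq_one] at h3
    exact Subtype.ext (Subtype.ext h3.symm)
  · rintro ⟨y, hy⟩
    obtain ⟨t, ht, rfl⟩ := htr δ y
    have h1 : x * t * x⁻¹ = t := by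
      have h2 : (t⁻¹ * (x * t * x⁻¹)) • δ = δ := by
        rw [mul_smul, inv_smul_eq_iff]
        calc (x * t * x⁻¹) • δ = (x * t * x⁻¹) • x • δ := by rw [hδ]
          _ = x • t • δ := by rw [smul_smul, smul_smul]; congr 1; group
          _ = t • δ := hy
      have h3 := hreg _ (mul_mem (inv_mem ht) (hx t ht)) δ h2
      rw [inv_mul_eq_one] at h3
      exact h3.symm
    exact ⟨⟨⟨t, ht⟩, h1⟩, rfl⟩

end fix

section hol

/-- distinct primes below `N` -/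
theorem card_primes_lt {ι : Type*} [Fintype ι] {r : ι → ℕ} (hr : ∀ i, (r i).Prime) (hinj : Function.Injective r)
    {N : ℕ} (h : ∀ i, r i + 1 ≤ N) : Fintype.card ι + 2 ≤ N ∨ IsEmpty ι := by
  classical
  by_cases he : IsEmpty ι
  · exact Or.inr he
  · left
    rw [not_isEmpty_iff] at he
    obtain ⟨i0⟩ := he
    have hsub : Finset.univ.image r ⊆ ((Finset.range N).erase 0).erase 1 := by
      intro y hy
      obtain ⟨i, -, rfl⟩ := Finset.mem_image.1 hy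
      rw [Finset.mem_erase, Finset.mem_erase, Finset.mem_range]
      exact ⟨(hr i).one_lt.ne', (hr i).pos.ne', h i⟩
    have h1 := Finset.card_le_card hsub
    have hN : 2 < N := lt_of_lt_of_le (Nat.lt_succ_of_le (hr i0).two_le) (h i0)
    rw [Finset.card_image_of_injective _ hinj, Finset.card_univ, Finset.card_erase_of_mem, Finset.card_erase_of_mem,
      Finset.card_range] at h1
    · omega
    · exact Finset.mem_range.2 (by omega)
    · rw [Finset.mem_erase, Finset.mem_range]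
      exact ⟨one_ne_zero, by omega⟩

/-- **`T` simple and regular.** -/
theorem hol_reg {L Δ : Type*} [Group L] [Finite L] [MulAction L Δ] [FaithfulSMul L Δ] [Finite Δ] [Nonempty Δ]
    (T : Subgroup L) [T.Normal] [IsSimpleGroup T]
    (htr : ∀ x y : Δ, ∃ t ∈ T, t • x = y) (hreg : ∀ t ∈ T, ∀ x : Δ, t • x = x → t = 1) (g : L) :
    ∃ x : Δ, ∀ k : ℤ, g ^ k • x = x → g ^ k = 1 := by
  classical
  by_contra hno
  push Not at hno
  obtain ⟨ι, hι, x, r, hPF, hcov, -, hmin⟩ := exists_cover (Ω := Δ) (g := g) (by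
    intro ω h
    obtain ⟨k, hk, hk1⟩ := hno ω
    exact hk1 (h (g ^ k) ⟨k, rfl⟩ hk))
  have hfι := Fintype.ofFinite ι
  have hι0 : Nonempty ι := by
    obtain ⟨i, -⟩ := hcov (Classical.arbitrary Δ)
    exact ⟨i⟩
  -- the automorphisms
  obtain ⟨α, hα⟩ : ∃ α : L →* MulAut T, ∀ (y : L) (t : T), ((α y t : T) : L) = y * t * y⁻¹ :=
    ⟨MulAut.conjNormal, fun y t => rfl⟩
  have hcardΔ : Nat.card Δ = Nat.card T := by
    symm
    obtain ⟨δ⟩ := (inferInstance : Nonempty Δ)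
    refine Nat.card_congr (Equiv.ofBijective (fun t : T => (t : L) • δ) ⟨?_, ?_⟩)
    · intro s t h
      have h2 : ((t : L)⁻¹ * (s : L)) • δ = δ := by
        rw [mul_smul, show (s : L) • δ = (t : L) • δ from h, inv_smul_smul]
      have h3 := hreg _ (mul_mem (inv_mem t.2) s.2) δ h2
      rw [inv_mul_eq_one] at h3
      exact Subtype.ext h3.symm
    · intro y
      obtain ⟨t, ht, rfl⟩ := htr δ y
      exact ⟨⟨t, ht⟩, rfl⟩
  have hfixd : ∀ i, ∃ δ : Δ, x i • δ = δ := fun i => by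
    obtain ⟨δ, h, -⟩ := hmin i
    exact ⟨δ, h⟩
  have hne : ∀ i, α (x i) ≠ 1 := by
    intro i h
    obtain ⟨δ, hδ⟩ := hfixd i
    apply hPF.ne i
    apply FaithfulSMul.eq_of_smul_eq_smul (α := Δ)
    intro y
    obtain ⟨t, ht, rfl⟩ := htr δ y
    have h1 : x i * t * (x i)⁻¹ = t := by
      rw [← hα (x i) ⟨t, ht⟩, h]
      rfl
    rw [one_smul]
    calc x i • t • δ = (x i * t * (x i)⁻¹) • x i • δ := by rw [smul_smul, smul_smul]; congr 1; group
      _ = t • δ := by rw [h1, hδ]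
  have hnfix : ∀ i, nfix Δ (x i) * (fixS (α (x i))).index = Nat.card T := by
    intro i
    obtain ⟨δ, hδ⟩ := hfixd i
    rw [card_fix (M := T) htr hreg (x := x i) (fun t ht => (inferInstance : T.Normal).conj_mem t ht (x i)) hδ]
    rw [← (fixS (α (x i))).card_mul_index]
    congr 1
    refine Nat.card_congr (Equiv.subtypeEquivRight fun t => ?_)
    rw [mem_fixS, ← hα]
    exact Subtype.ext_iff.symm
  -- the smallest index
  obtain ⟨i0, -, hi0⟩ := Finset.exists_min_image Finset.univ (fun i => (fixS (α (x i))).index) ⟨hι0.some, Finset.mem_univ _⟩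
  set N := (fixS (α (x i0))).index with hN
  have hNpos : 0 < N := Nat.pos_of_ne_zero index_ne_zero_of_finite
  have hb : ∀ i, nfix Δ (x i) * N ≤ Nat.card T := by
    intro i
    rw [← hnfix i]
    exact Nat.mul_le_mul_left _ (hi0 i (Finset.mem_univ i))
  have hp : ∀ i, r i + 1 ≤ N := fun i =>
    prime_lt ((show Commute (x i0) (x i) from hPF.comm i0 i).map α) (hne i0) (hne i) (hPF.prime i) (by rw [← map_pow, hPF.pow, map_one])
  rcases card_primes_lt hPF.prime hPF.inj hp with h | h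
  · have h1 := union_bound hcov
    have h2 : Nat.card Δ * N ≤ Fintype.card ι * Nat.card T := by
      calc Nat.card Δ * N ≤ (∑ i, nfix Δ (x i)) * N := Nat.mul_le_mul_right _ h1
        _ = ∑ i, nfix Δ (x i) * N := Finset.sum_mul _ _ _
        _ ≤ ∑ _i : ι, Nat.card T := Finset.sum_le_sum fun i _ => hb i
        _ = Fintype.card ι * Nat.card T := by rw [Finset.sum_const, Finset.card_univ, smul_eq_mul]
    rw [hcardΔ, mul_comm] at h2
    have h3 := Nat.le_of_mul_le_mul_right h2 Nat.card_pos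
    omega
  · exact h.false i0

end hol

end Cfsg.Agent.H660.RR
end

-- part: H660/RR/ProdCase
section
/-!
# S3509: the product case (helper660)

* `product_case` : all classes of factors are singletons; the components are primitive with simple socle (row `ASRow`) or
  have a regular simple normal subgroup.
-/

set_option autoImplicit false

namespace Cfsg.Agent.H660.RR

open Subgroup MulAction Cfsg.Agent.H893 Cfsg.Agent.H893.Fac

section gen

variable {G Ω I X : Type*} [Group G] [MulAction G Ω] [MulAction G I] [MulAction G X]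
  {N : Subgroup G} {m : ℕ} {T : Fin m → Subgroup G} {e : N ≃* (∀ i, T i)} {hf : Fac N m T e}
  {c : Fin m → Fin m} {π : X → I} {ev : Ω → I → X} {jj : Fin m → I}

/-- the index set is homogeneous -/
theorem Crd.pretransitive (C : Crd hf c π ev jj) : IsPretransitive G I := by
  refine ⟨fun i j => ?_⟩
  obtain ⟨a, rfl⟩ := C.jsurj i
  obtain ⟨b, rfl⟩ := C.jsurj j
  obtain ⟨g, hg⟩ := hf.trans a b
  refine ⟨g, ?_⟩
  rw [C.jperm]
  congr 1
  apply hf.inj
  rw [hf.perm_spec, hg]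

theorem Crd.hK (C : Crd hf c π ev jj) (htr : ∀ w v : Ω, ∃ n : N, v = (n : G) • w) :
    ∀ w w' : Ω, ∃ n : G, (∀ i : I, n • i = i) ∧ n • w = w' := by
  intro w w'
  obtain ⟨n, hn⟩ := htr w w'
  exact ⟨n, C.smul_I n, hn.symm⟩

end gen

variable {G Ω I X : Type} [Group G] [MulAction G Ω] [MulAction G I] [MulAction G X]
  {N : Subgroup G} {m : ℕ} {T : Fin m → Subgroup G} {e : N ≃* (∀ i, T i)} {hf : Fac N m T e}
  {π : X → I} {ev : Ω → I → X} {jj : Fin m → I}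

/-- the component -/
theorem Crd.comp [FaithfulSMul G Ω] [Nonempty Ω] [Finite X] (C : Crd hf id π ev jj) (hp : IsPreprimitive G Ω)
    (htr : ∀ w v : Ω, ∃ n : N, v = (n : G) • w) (hAS : ASRow (fun _ _ => True)) (a : Fin m) :
    (∀ l : (rho C.dec.hπ (jj a)).range, ∃ x : {x : X // π x = jj a}, ∀ k : ℤ, l ^ k • x = x → l ^ k = 1) ∨
      KSet (Ω := {x : X // π x = jj a}) (ph C (jj a) a).range := by
  have hprim : IsPreprimitive (rho C.dec.hπ (jj a)).range {x : X // π x = jj a} :=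
    C.dec.primitive hp C.pretransitive (C.hK htr) (jj a)
  have hne : Nonempty {x : X // π x = jj a} := by
    obtain ⟨w⟩ := (inferInstance : Nonempty Ω)
    exact ⟨⟨ev w (jj a), C.dec.hev w _⟩⟩
  have hsimple : IsSimpleGroup (ph C (jj a) a).range := C.simple rfl
  have hnorm : ((ph C (jj a) a).range).Normal := by
    refine ⟨fun t ht x => ?_⟩
    obtain ⟨_, x0, rfl⟩ := x
    have hpa : hf.perm x0 a = a := by
      have h1 := C.jperm x0 a
      rw [show (x0 : G) • jj a = jj a from x0.2] at h1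
      exact ((C.jiff _ _).1 h1).symm
    have h1 := C.conj_range (a := a) (l := a) x0
    rw [hpa] at h1
    rw [h1]
    exact ⟨t, ht, rfl⟩
  have hTtr : ∀ x y : {x : X // π x = jj a}, ∃ t ∈ (ph C (jj a) a).range, t • x = y := by
    intro x y
    obtain ⟨n, hn⟩ := C.tr htr x.2 y.2
    refine ⟨ph C (jj a) a (e n a), ⟨_, rfl⟩, ?_⟩
    apply Subtype.ext
    show ((e n a : T a) : G) • (x : X) = y
    rw [← hn]
    have h1 := C.congr (a := a) (n := Subgroup.inclusion (hf.le a) (e n a)) (n' := n) (fun l hl => by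
      have hl' : l = a := hl
      subst hl'
      rw [C.e_incl, Pi.mulSingle_eq_same]) x.2
    exact h1
  by_cases hreg : ∀ t ∈ (ph C (jj a) a).range, ∀ x : {x : X // π x = jj a}, t • x = x → t = 1
  · left
    intro l
    exact hol_reg (ph C (jj a) a).range hTtr hreg l
  · have hcent : centralizer ((ph C (jj a) a).range : Set (rho C.dec.hπ (jj a)).range) = ⊥ := by
      by_contra hC
      obtain ⟨htrC, -, -⟩ := prim_normal hprim (centralizer ((ph C (jj a) a).range : Set (rho C.dec.hπ (jj a)).range)) hC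
      apply hreg
      intro t ht x hx
      apply FaithfulSMul.eq_of_smul_eq_smul (α := {x : X // π x = jj a})
      intro y
      obtain ⟨u, rfl⟩ := htrC.exists_smul_eq x y
      rw [one_smul]
      have h1 : t * (u : (rho C.dec.hπ (jj a)).range) = u * t := mem_centralizer_iff.1 u.2 t ht
      show t • (u : (rho C.dec.hπ (jj a)).range) • x = (u : (rho C.dec.hπ (jj a)).range) • x
      rw [smul_smul, h1, mul_smul, hx]
    by_cases hK : KSet (Ω := {x : X // π x = jj a}) (ph C (jj a) a).range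
    · exact Or.inr hK
    · left
      intro l
      rcases hAS (rho C.dec.hπ (jj a)).range {x : X // π x = jj a} hprim (ph C (jj a) a).range hsimple
        (C.nonab rfl) hcent trivial l with h | h
      · exact (reg_iff l).1 h
      · exact absurd h hK

/-- the hypothesis of `Dec.concl` -/
theorem Crd.hT [Nonempty Ω] (C : Crd hf id π ev jj) (a : Fin m) :
    ∀ g : I → G, (∀ i, g i • jj a = i) → ∀ t : I → (ph C (jj a) a).range, ∃ x : G, (∀ i : I, x • i = i) ∧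
      ∀ (i : I) (y : {x : X // π x = jj a}), x • g i • (y : X) =
        g i • (((((t i : (rho C.dec.hπ (jj a)).range) : Equiv.Perm {x : X // π x = jj a}) y) :
          {x : X // π x = jj a}) : X) := by
  intro g hg t
  choose s hs using fun i => (t i).2
  have hr : ∀ b : Fin m, g (jj b) * (s (jj b) : G) * (g (jj b))⁻¹ ∈ T b := by
    intro b
    have h1 : hf.perm (g (jj b)) a = b := by
      have h2 := C.jperm (g (jj b)) a
      rw [hg] at h2
      exact ((C.jiff _ _).1 h2).symm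
    have h3 := hf.perm_spec (g (jj b)) a
    rw [h1] at h3
    rw [h3]
    exact ⟨s (jj b), (s (jj b)).2, rfl⟩
  refine ⟨(e.symm (fun b => ⟨_, hr b⟩) : N), C.smul_I _, fun i y => ?_⟩
  obtain ⟨b, rfl⟩ := C.jsurj i
  have h1 := C.congr (a := b) (n := e.symm (fun b => ⟨_, hr b⟩)) (n' := Subgroup.inclusion (hf.le b) ⟨_, hr b⟩)
    (fun l hl => by
      have hl' : l = b := hl
      subst hl'
      rw [C.e_incl, Pi.mulSingle_eq_same, MulEquiv.apply_symm_apply]) (x := g (jj b) • (y : X))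
    (by rw [C.dec.hπ, y.2, hg])
  rw [h1]
  show (g (jj b) * (s (jj b) : G) * (g (jj b))⁻¹) • g (jj b) • (y : X) = _
  rw [← hs]
  show _ = g (jj b) • (s (jj b) : G) • (y : X)
  rw [smul_smul, smul_smul]
  congr 1
  group

/-- **the product case** -/
theorem product_case [Finite G] [FaithfulSMul G Ω] [Nonempty Ω] [Finite X] (C : Crd hf id π ev jj)
    (hp : IsPreprimitive G Ω) (htr : ∀ w v : Ω, ∃ n : N, v = (n : G) • w)
    (hne : ∀ i, ∃ x y : X, x ≠ y ∧ π x = i ∧ π y = i) (hAS : ASRow (fun _ _ => True)) (g : G) :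
    (∃ ω : Ω, stabilizer (zpowers g) ω = ⊥) ∨ PAlt G Ω := by
  have hI : Finite I := Finite.of_surjective _ C.jsurj
  by_cases hK : ∃ a, KSet (Ω := {x : X // π x = jj a}) (ph C (jj a) a).range
  · right
    obtain ⟨a, ha⟩ := hK
    exact C.dec.concl C.pretransitive (jj a) _ ha (C.hT a)
  · left
    push Not at hK
    refine C.dec.reg hne g fun i n hin => ?_
    obtain ⟨a, rfl⟩ := C.jsurj i
    rcases C.comp hp htr hAS a with h | h
    · obtain ⟨x, hx⟩ := h ⟨rho C.dec.hπ (jj a) ⟨g ^ n, hin⟩, _, rfl⟩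
      exact Crd.regP_of C.dec hin x fun k hk => congrArg Subtype.val (hx k (by exact hk))
    · exact absurd h (hK a)

end Cfsg.Agent.H660.RR
end

-- part: H660/RR/DiagCase
section
/-!
# S3509: the diagonal case (helper660)

* `DiagReg` : the statement for one block (helper344);
* `diag_case` : the diagonal case from `DiagReg`.
-/

set_option autoImplicit false

namespace Cfsg.Agent.H660.RR

open Subgroup MulAction Cfsg.Agent.H893 Cfsg.Agent.H893.Fac

/-- one block of diagonal type -/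
def DiagReg : Prop :=
  ∀ (L Δ : Type) [Group L] [Finite L] [MulAction L Δ] [FaithfulSMul L Δ] [Finite Δ] [Nonempty Δ]
    (ι : Type) [Fintype ι] [DecidableEq ι], 2 ≤ Fintype.card ι → ∀ T : ι → Subgroup L,
    (∀ i, IsSimpleGroup (T i)) → (∀ i, ∃ a b : T i, a * b ≠ b * a) → Function.Injective T →
    (∀ i j, i ≠ j → ∀ a ∈ T i, ∀ b ∈ T j, Commute a b) →
    (∀ (x : L) i, ∃ j, T j = (T i).map (MulAut.conj x).toMonoidHom) →
    (∀ i (x y : Δ), ∃ t ∈ (⨆ j : {j : ι // j ≠ i}, T j.1), t • x = y) →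
    (∀ i, ∀ t ∈ (⨆ j : {j : ι // j ≠ i}, T j.1), ∀ x : Δ, t • x = x → t = 1) →
    ∀ g : L, ∃ x : Δ, ∀ k : ℤ, g ^ k • x = x → g ^ k = 1

section gen

variable {G Ω I X : Type*} [Group G] [MulAction G Ω] [MulAction G I] [MulAction G X]
  {N : Subgroup G} {m : ℕ} {T : Fin m → Subgroup G} {e : N ≃* (∀ i, T i)} {hf : Fac N m T e}
  {c : Fin m → Fin m} {π : X → I} {ev : Ω → I → X} {jj : Fin m → I}

/-- the fibres are nontrivial -/
theorem Crd.hne [FaithfulSMul G Ω] [Nonempty Ω] (C : Crd hf c π ev jj) : ∀ i, ∃ x y : X, x ≠ y ∧ π x = i ∧ π y = i := by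
  intro i
  obtain ⟨a, rfl⟩ := C.jsurj i
  by_contra hno
  push Not at hno
  obtain ⟨s, t, hst⟩ := hf.nonab a
  apply hst
  have h1 : ∀ u v : T a, u = v := by
    intro u v
    apply C.ph_inj (a := a) (l := a) rfl
    apply Subtype.ext
    ext x
    show ((u : G) • (x : X)) = (v : G) • (x : X)
    by_contra h2
    refine hno _ _ h2 ?_ ?_
    · rw [C.dec.hπ, x.2]
      exact C.smul_I ⟨u, hf.le a u.2⟩ _
    · rw [C.dec.hπ, x.2]
      exact C.smul_I ⟨v, hf.le a v.2⟩ _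
  exact h1 _ _

/-- the product of the factors of the class except `l`, as a subgroup of the component -/
theorem Crd.mem_iSup (C : Crd hf c π ev jj) (a : Fin m) (l : {l : Fin m // c l = c a})
    (t : (rho C.dec.hπ (jj a)).range) :
    t ∈ (⨆ j : {j : {l : Fin m // c l = c a} // j ≠ l}, (ph C (jj a) j.1.1).range) ↔
      ∃ n : N, (∀ b, (c b ≠ c a ∨ b = l.1) → e n b = 1) ∧ rN C (jj a) n = t := by
  constructor
  · intro ht
    let W : Subgroup N :=
      { carrier := {n | ∀ b, (c b ≠ c a ∨ b = l.1) → e n b = 1}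
        one_mem' := fun b _ => by rw [map_one]; rfl
        mul_mem' := by
          intro x y hx hy b hb
          rw [map_mul, Pi.mul_apply, hx b hb, hy b hb, one_mul]
        inv_mem' := by
          intro x hx b hb
          rw [map_inv, Pi.inv_apply, hx b hb, inv_one] }
    have h1 : (⨆ j : {j : {l : Fin m // c l = c a} // j ≠ l}, (ph C (jj a) j.1.1).range) ≤ W.map (rN C (jj a)) := by
      apply iSup_le
      rintro ⟨j, hj⟩ _ ⟨s, rfl⟩
      refine ⟨Subgroup.inclusion (hf.le j.1) s, ?_, rfl⟩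
      intro b hb
      rw [C.e_incl, Pi.mulSingle_eq_of_ne]
      rintro rfl
      rcases hb with hb | hb
      · exact hb j.2
      · exact hj (Subtype.ext hb)
    obtain ⟨n, hn, hnt⟩ := h1 ht
    exact ⟨n, hn, hnt⟩
  · rintro ⟨n, hn, rfl⟩
    have h1 : e n ∈ (⨆ j : {j : {l : Fin m // c l = c a} // j ≠ l}, (ph C (jj a) j.1.1).range).comap
        ((rN C (jj a)).comp e.symm.toMonoidHom) := by
      apply Subgroup.pi_mem_of_mulSingle_mem
      intro i
      by_cases hi : c i ≠ c a ∨ i = l.1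
      · rw [hn i hi, Pi.mulSingle_one]
        exact one_mem _
      · push Not at hi
        show rN C (jj a) (e.symm (Pi.mulSingle i (e n i))) ∈
          (⨆ j : {j : {l : Fin m // c l = c a} // j ≠ l}, (ph C (jj a) j.1.1).range)
        have h2 : e.symm (Pi.mulSingle i (e n i)) = Subgroup.inclusion (hf.le i) (e n i) := by
          rw [MulEquiv.symm_apply_eq, C.e_incl]
        rw [h2]
        apply Subgroup.mem_iSup_of_mem (⟨⟨i, hi.1⟩, fun h => hi.2 (congrArg Subtype.val h)⟩ :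
          {j : {l : Fin m // c l = c a} // j ≠ l})
        exact ⟨e n i, rfl⟩
    have h2 : rN C (jj a) (e.symm (e n)) ∈ (⨆ j : {j : {l : Fin m // c l = c a} // j ≠ l}, (ph C (jj a) j.1.1).range) := h1
    rwa [MulEquiv.symm_apply_apply] at h2

/-- the factors commute -/
theorem Crd.commute (C : Crd hf c π ev jj) (i : I) {l l' : Fin m} (hl : l ≠ l') :
    ∀ x ∈ (ph C i l).range, ∀ y ∈ (ph C i l').range, Commute x y := by
  rintro _ ⟨s, rfl⟩ _ ⟨t, rfl⟩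
  have h1 : Commute (Subgroup.inclusion (hf.le l) s) (Subgroup.inclusion (hf.le l') t) := by
    show _ * _ = _ * _
    apply e.injective
    rw [map_mul, map_mul, C.e_incl, C.e_incl]
    exact Pi.mulSingle_commute (f := fun l => T l) hl s t
  exact h1.map (rN C i)

end gen

section diag

variable {G Ω : Type*} [Group G] [MulAction G Ω] {N : Subgroup G} {m : ℕ} {T : Fin m → Subgroup G}
  {e : N ≃* (∀ i, T i)} {c : Fin m → Fin m} {φ : ∀ i, T (c i) ≃* T i} {K : Subgroup G}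

theorem diag_mem (hφ : ∀ n : N, (n : G) ∈ K → ∀ i, e n i = φ i (e n (c i)))
    (hsur : ∀ x : ∀ i, T i, ∃ n : N, (n : G) ∈ K ∧ ∀ i, e n (c i) = x (c i)) (n : N) :
    (n : G) ∈ K ↔ ∀ i, e n i = φ i (e n (c i)) := by
  refine ⟨hφ n, fun h => ?_⟩
  obtain ⟨n', hn', h1⟩ := hsur (e n)
  have h2 : n' = n := by
    apply e.injective
    funext i
    rw [hφ n' hn' i, h1, ← h i]
  exact h2 ▸ hn'

theorem diag_prod (hcc : ∀ i, c (c i) = c i) (hmem : ∀ n : N, (n : G) ∈ K ↔ ∀ i, e n i = φ i (e n (c i))) (n : N) :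
    (n : G) ∈ K ↔ ∀ j, ((e.symm (fun i => if c i = j then e n i else 1) : N) : G) ∈ K := by
  constructor
  · intro h j
    rw [hmem] at h ⊢
    intro i
    rw [MulEquiv.apply_symm_apply]
    by_cases hj : c i = j
    · have hj' : c (c i) = j := by rw [hcc, hj]
      rw [if_pos hj, if_pos hj']
      exact h i
    · have hj' : c (c i) ≠ j := by rw [hcc]; exact hj
      rw [if_neg hj, if_neg hj', map_one]
  · intro h
    rw [hmem]
    intro i
    have h1 := (hmem _).1 (h (c i)) i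
    rw [MulEquiv.apply_symm_apply, if_pos rfl, if_pos (hcc i)] at h1
    exact h1

end diag

/-- **the diagonal case** -/
theorem diag_case (hD : DiagReg) {G Ω I X : Type} [Group G] [Finite G] [MulAction G Ω] [FaithfulSMul G Ω]
    [MulAction G I] [MulAction G X] [Finite X] {N : Subgroup G} {m : ℕ} {T : Fin m → Subgroup G}
    {e : N ≃* (∀ i, T i)} {hf : Fac N m T e} {c : Fin m → Fin m} {φ : ∀ i, T (c i) ≃* T i} {ω : Ω}
    (hc2 : ∀ i, ∃ j, j ≠ i ∧ c j = c i) (hcc : ∀ i, c (c i) = c i)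
    (hφ : ∀ n : N, (n : G) ∈ stabilizer G ω → ∀ i, e n i = φ i (e n (c i)))
    (hsur : ∀ x : ∀ i, T i, ∃ n : N, (n : G) ∈ stabilizer G ω ∧ ∀ i, e n (c i) = x (c i))
    {π : X → I} {ev : Ω → I → X} {jj : Fin m → I} (C : Crd hf c π ev jj)
    (htr : ∀ w v : Ω, ∃ n : N, v = (n : G) • w) (g : G) :
    ∃ ω : Ω, stabilizer (zpowers g) ω = ⊥ := by
  classical
  have hΩ : Nonempty Ω := ⟨ω⟩
  have hI : Finite I := Finite.of_surjective _ C.jsurj
  have hmem := diag_mem hφ hsur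
  refine C.dec.reg C.hne g fun i n hin => ?_
  obtain ⟨a, rfl⟩ := C.jsurj i
  -- the base point
  obtain ⟨δ, hδ⟩ : ∃ δ : {x : X // π x = jj a}, (δ : X) = ev ω (jj a) := ⟨⟨ev ω (jj a), C.dec.hev _ _⟩, rfl⟩
  have hKδ : ∀ k : N, (k : G) ∈ stabilizer G ω → rN C (jj a) k • δ = δ := by
    intro k hk
    apply Subtype.ext
    show (k : G) • (δ : X) = δ
    rw [hδ]
    have h1 := C.dec.eq (k : G) ω (jj a)
    rw [C.smul_I, mem_stabilizer_iff.1 hk] at h1
    exact h1.symm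
  have hFtr : ∀ (l : {l : Fin m // c l = c a}) (x : {x : X // π x = jj a}),
      ∃ t ∈ (⨆ j : {j : {l : Fin m // c l = c a} // j ≠ l}, (ph C (jj a) j.1.1).range), t • δ = x := by
    intro l x
    obtain ⟨n, hn⟩ := C.tr htr δ.2 x.2
    obtain ⟨k, hk, hk1⟩ := hsur (Pi.mulSingle (c l.1) ((φ l.1).symm (e n l.1)))
    have hkl : e k l.1 = e n l.1 := by
      rw [hφ k hk, hk1, Pi.mulSingle_eq_same, MulEquiv.apply_symm_apply]
    refine ⟨rN C (jj a) (e.symm (fun b => if c b = c a then e (n * k⁻¹) b else 1)), ?_, ?_⟩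
    · rw [C.mem_iSup]
      refine ⟨_, fun b hb => ?_, rfl⟩
      rw [MulEquiv.apply_symm_apply]
      rcases hb with hb | rfl
      · rw [if_neg hb]
      · rw [if_pos l.2, map_mul, map_inv, Pi.mul_apply, Pi.inv_apply, hkl, mul_inv_cancel]
    · apply Subtype.ext
      show ((e.symm (fun b => if c b = c a then e (n * k⁻¹) b else 1) : N) : G) • (δ : X) = x
      rw [C.congr (a := a) (n' := n * k⁻¹) (fun b hb => by rw [MulEquiv.apply_symm_apply, if_pos hb]) δ.2]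
      have h1 := hKδ k⁻¹ (inv_mem hk)
      have h2 : ((k⁻¹ : N) : G) • (δ : X) = δ := congrArg Subtype.val h1
      rw [Subgroup.coe_mul, mul_smul, h2, hn]
  have hδne : Nonempty {x : X // π x = jj a} := ⟨δ⟩
  have q1 : 2 ≤ Fintype.card {l : Fin m // c l = c a} := by
    obtain ⟨j, hj, hja⟩ := hc2 a
    have h1 : (⟨j, hja⟩ : {l : Fin m // c l = c a}) ≠ ⟨a, rfl⟩ := fun h => hj (congrArg Subtype.val h)
    exact Fintype.one_lt_card_iff.2 ⟨_, _, h1⟩
  have q2 : Function.Injective (fun l : {l : Fin m // c l = c a} => (ph C (jj a) l.1).range) := by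
    intro l l' h
    by_contra hne
    obtain ⟨s, t, hst⟩ := C.nonab l.2
    apply hst
    apply Subtype.ext
    have h1 := C.commute (jj a) (fun h => hne (Subtype.ext h)) s.1 s.2 t.1 (by
      have h2 : (ph C (jj a) l.1).range = (ph C (jj a) l'.1).range := h
      rw [← h2]
      exact t.2)
    exact h1
  have q3 : ∀ (x : (rho C.dec.hπ (jj a)).range) (l : {l : Fin m // c l = c a}), ∃ j : {l : Fin m // c l = c a},
      (ph C (jj a) j.1).range = ((ph C (jj a) l.1).range).map (MulAut.conj x).toMonoidHom := by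
    rintro ⟨_, x0, rfl⟩ l
    refine ⟨⟨hf.perm x0 l.1, ?_⟩, C.conj_range x0⟩
    rw [← C.jiff, ← C.jperm, (C.jiff l.1 a).2 l.2]
    exact x0.2
  have q4 : ∀ (l : {l : Fin m // c l = c a}) (x y : {x : X // π x = jj a}),
      ∃ t ∈ (⨆ j : {j : {l : Fin m // c l = c a} // j ≠ l}, (ph C (jj a) j.1.1).range), t • x = y := by
    intro l x y
    obtain ⟨s, hs, rfl⟩ := hFtr l x
    obtain ⟨t, ht, rfl⟩ := hFtr l y
    exact ⟨t * s⁻¹, mul_mem ht (inv_mem hs), by rw [mul_smul, inv_smul_smul]⟩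
  have q5 : ∀ (l : {l : Fin m // c l = c a}),
      ∀ t ∈ (⨆ j : {j : {l : Fin m // c l = c a} // j ≠ l}, (ph C (jj a) j.1.1).range),
      ∀ x : {x : X // π x = jj a}, t • x = x → t = 1 := by
    intro l t ht x htx
    obtain ⟨s, hs, rfl⟩ := hFtr l x
    have h1 : (s⁻¹ * t * s) • δ = δ := by
      rw [mul_smul, mul_smul, htx, inv_smul_smul]
    have h2 := mul_mem (mul_mem (inv_mem hs) ht) hs
    obtain ⟨n1, hn1, hn2⟩ := (C.mem_iSup a l _).1 h2
    rw [← hn2] at h1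
    have h3 : (n1 : G) • ev ω (jj a) = ev ω (jj a) := by
      rw [← hδ]
      exact congrArg Subtype.val h1
    have h4 := C.dec.eq (n1 : G) ω (jj a)
    rw [C.smul_I, h3] at h4
    obtain ⟨n', hn', h5⟩ := (C.eviff a ω ((n1 : G) • ω)).1 h4.symm
    have h6 : ((n'⁻¹ * n1 : N) : G) ∈ stabilizer G ω := by
      show ((n' : G)⁻¹ * (n1 : G)) • ω = ω
      rw [mul_smul, h5, inv_smul_smul]
    rw [hmem] at h6
    have h7 : ∀ b, c b = c a → e (n'⁻¹ * n1) b = e n1 b := by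
      intro b hb
      rw [map_mul, map_inv, Pi.mul_apply, Pi.inv_apply, hn' b hb, inv_one, one_mul]
    have h8 : ∀ b, c b = c a → e n1 b = φ b (e n1 (c b)) := by
      intro b hb
      rw [← h7 b hb, h6 b, h7 (c b) (by rw [hcc, hb])]
    have h9 : e n1 (c l.1) = 1 := by
      have h10 := h8 l.1 l.2
      rw [hn1 l.1 (Or.inr rfl)] at h10
      exact (map_eq_one_iff _ (φ l.1).injective).1 h10.symm
    have h10 : ∀ b, b = c l.1 → e n1 b = 1 := by
      rintro _ rfl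
      exact h9
    have h11 : n1 = 1 := by
      apply e.injective
      rw [map_one]
      funext b
      by_cases hb : c b = c a
      · rw [h8 b hb, h10 (c b) (by rw [hb, l.2]), map_one]
        rfl
      · exact hn1 b (Or.inl hb)
    rw [h11, map_one] at hn2
    have h12 : t = s * (s⁻¹ * t * s) * s⁻¹ := by group
    rw [h12, ← hn2]
    group
  obtain ⟨x, hx⟩ := hD (rho C.dec.hπ (jj a)).range {x : X // π x = jj a} {l : Fin m // c l = c a} q1
    (fun l => (ph C (jj a) l.1).range) (fun l => C.simple l.2) (fun l => C.nonab l.2) q2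
    (fun l l' hl => C.commute (jj a) (fun h => hl (Subtype.ext h))) q3 q4 q5
    ⟨rho C.dec.hπ (jj a) ⟨g ^ n, hin⟩, _, rfl⟩
  exact Crd.regP_of C.dec hin x fun k hk => congrArg Subtype.val (hx k (by exact hk))

end Cfsg.Agent.H660.RR
end

-- part: H384/RR/Affine
section
/-!
# S3509, affine case (helper384): every element of a primitive group with an abelian normal subgroup `≠ 1`
has a regular cycle
-/

set_option autoImplicit false

namespace Cfsg.Agent.H384.RR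

open MulAction Cfsg.Agent.H106.RC

theorem affine {G Ω : Type*} [Group G] [Finite G] [MulAction G Ω] [FaithfulSMul G Ω] [Finite Ω]
    (hp : IsPreprimitive G Ω) (N : Subgroup G) [hNn : N.Normal] (hN : N ≠ ⊥)
    (hab : ∀ x ∈ N, ∀ y ∈ N, Commute x y) (g : G) :
    ∃ ω : Ω, MulAction.stabilizer (Subgroup.zpowers g) ω = ⊥ := by
  classical
  -- a prime
  obtain ⟨p, hpp, hdvd⟩ := Nat.exists_prime_and_dvd (n := Nat.card N)
    (fun h => hN (Subgroup.card_eq_one.1 h))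
  have hpf : Fact p.Prime := ⟨hpp⟩
  let U : Subgroup G :=
    { carrier := {x | x ∈ N ∧ x ^ p = 1}
      mul_mem' := by
        rintro a b ⟨ha, ha'⟩ ⟨hb, hb'⟩
        exact ⟨mul_mem ha hb, by rw [(hab a ha b hb).mul_pow, ha', hb', one_mul]⟩
      one_mem' := ⟨one_mem _, one_pow _⟩
      inv_mem' := by
        rintro a ⟨ha, ha'⟩
        exact ⟨inv_mem ha, by rw [inv_pow, ha', inv_one]⟩ }
  have hUmem : ∀ x, x ∈ U ↔ x ∈ N ∧ x ^ p = 1 := fun x => Iff.rfl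
  have hUn : U.Normal := by
    constructor
    rintro a ⟨ha, ha'⟩ b
    refine ⟨hNn.conj_mem a ha b, ?_⟩
    rw [conj_pow, ha', mul_one, mul_inv_cancel]
  have hU : U ≠ ⊥ := by
    obtain ⟨x, hx⟩ := exists_prime_orderOf_dvd_card' p hdvd
    intro h
    have h1 : (x : G) ∈ U := by
      refine ⟨x.2, ?_⟩
      rw [← Subgroup.coe_pow, ← hx, pow_orderOf_eq_one, Subgroup.coe_one]
    rw [h, Subgroup.mem_bot] at h1
    have h2 : x = 1 := Subtype.ext h1
    rw [h2, orderOf_one] at hx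
    exact hpp.one_lt.ne hx
  obtain ⟨htr, -, -⟩ := Cfsg.Agent.H893.prim_normal hp U hU
  have hpg : IsPGroup p U := by
    rintro ⟨x, hx⟩
    exact ⟨1, Subtype.ext (by rw [pow_one]; exact hx.2)⟩
  by_contra hno
  push Not at hno
  have hno' : ∀ ω : Ω, ¬ RegPt g ω := by
    intro ω h
    apply hno ω
    rw [eq_bot_iff]
    rintro ⟨z, hz⟩ hz'
    rw [Subgroup.mem_bot]
    exact Subtype.ext (h z hz hz')
  obtain ⟨ι, hι, x, r, hPF, hcov, -, -⟩ := exists_cover hno'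
  -- a point
  have hne : Nonempty Ω := by
    by_contra he
    rw [not_nonempty_iff] at he
    apply hU
    rw [eq_bot_iff]
    intro y _
    rw [Subgroup.mem_bot]
    exact FaithfulSMul.eq_of_smul_eq_smul (α := Ω) fun ω => he.elim ω
  obtain ⟨ω⟩ := hne
  obtain ⟨n, hn⟩ := IsPGroup.iff_card.1 hpg
  have key : ∀ i, ¬ (r i).Coprime (Nat.card U) → r i = p := by
    intro i hi
    by_contra hne
    apply hi
    rw [hn]
    exact Nat.Coprime.pow_right _ ((Nat.coprime_primes (hPF.prime i) hpp).2 hne)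
  obtain ⟨i, hi⟩ := Cfsg.Agent.H380.RC.cover_loc (U := U) (ω := ω) hPF.prime hPF.pow hPF.comm
    (fun u _ => hcov (u • ω)) (fun i u hu => hUn.conj_mem u hu (x i))
    (Or.inl ⟨fun u hu v hv => hab u hu.1 v hv.1, fun i j hi hj => hPF.inj ((key i hi).trans (key j hj).symm)⟩)
  apply hPF.ne i
  apply FaithfulSMul.eq_of_smul_eq_smul (α := Ω)
  intro ω'
  obtain ⟨u, hu⟩ := exists_smul_eq U ω ω'
  rw [one_smul, ← hu]
  exact hi u u.2

end Cfsg.Agent.H384.RR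
end

-- part: H660/RR/Final
section
/-!
# S3509: assembly (helper660)

* `ExDec` : the statement of the coordinates (helper716);
* `main_zero` : the theorem for groups and sets in `Type`;
* `asrow_all` : `ASRow` from `RC` for the groups which are not alternating and the alternating row;
* `main` : the theorem in all universes.
-/

set_option autoImplicit false

namespace Cfsg.Agent.H660.RR

open Subgroup MulAction Cfsg.Agent.H893 Cfsg.Agent.H893.Fac

/-- the coordinates for a partition of the factors -/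
def ExDec : Prop :=
  ∀ {G Ω : Type} [Group G] [Finite G] [MulAction G Ω] [Finite Ω] {N : Subgroup G} [N.Normal] {m : ℕ}
    {T : Fin m → Subgroup G} {e : N ≃* (∀ i, T i)} (hf : Fac N m T e) {ω : Ω}, (∀ w : Ω, ∃ n : N, w = (n : G) • ω) →
    ∀ c : Fin m → Fin m, (∀ i, c (c i) = c i) → (∀ (x : G) i j, c i = c j → c (hf.perm x i) = c (hf.perm x j)) →
    (∀ n : N, (n : G) • ω = ω ↔ ∀ j, ((e.symm (fun i => if c i = j then e n i else 1) : N) : G) • ω = ω) →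
    ∃ (I X : Type) (_ : MulAction G I) (_ : MulAction G X) (_ : Finite X) (π : X → I) (ev : Ω → I → X) (jj : Fin m → I),
      Crd hf c π ev jj

/-- `ASRow` from `RC` and the alternating row -/
theorem asrow_all (h1 : ∀ (S : Type) [Group S] [Finite S], H873.RG.NSA S → H106.RC.RC S)
    (h2 : ASRow (fun T _ => ∃ n, 5 ≤ n ∧ Nonempty (T ≃* alternatingGroup (Fin n)))) : ASRow (fun _ _ => True) := by
  intro G Ω _ _ _ _ _ hp T _ hT hna hC _ g
  by_cases ha : ∃ n, 5 ≤ n ∧ Nonempty (T ≃* alternatingGroup (Fin n))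
  · exact h2 G Ω hp T hT hna hC ha g
  · left
    by_contra hno
    push Not at hno
    refine H106.RC.no_rc_of_noreg T hT hC g hno (h1 T ⟨hT, ?_, ha⟩)
    intro h
    obtain ⟨a, b, hab⟩ := hna
    exact hab (h.is_comm.comm a b)

/-- the empty set -/
theorem palt_empty {G Ω : Type*} [Group G] [MulAction G Ω] [IsEmpty Ω] : PAlt G Ω := by
  have h1 : IsEmpty {s : Finset (Fin 5) // s.card = 6} := by
    refine ⟨fun s => ?_⟩
    have h2 := Finset.card_le_univ s.1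
    rw [s.2, Fintype.card_fin] at h2
    omega
  refine ⟨5, 6, 1, le_rfl, by norm_num, le_rfl, Equiv.equivOfIsEmpty _ _, fun x => ⟨1, fun _ => 1, fun ω => ?_⟩,
    fun τ _ => ⟨1, fun ω => ?_⟩⟩
  · exact isEmptyElim ω
  · exact isEmptyElim ω

theorem main_zero (hD : DiagReg) (hE : ExDec) (hAS : ASRow (fun _ _ => True)) {G Ω : Type} [Group G] [Finite G]
    [MulAction G Ω] [FaithfulSMul G Ω] [Finite Ω] (hp : IsPreprimitive G Ω) (g : G) :
    (∃ ω : Ω, stabilizer (zpowers g) ω = ⊥) ∨ PAlt G Ω := by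
  rcases isEmpty_or_nonempty Ω with he | hne
  · exact Or.inr palt_empty
  rcases subsingleton_or_nontrivial G with hs | hnt
  · left
    obtain ⟨ω⟩ := hne
    exact ⟨ω, Subsingleton.elim _ _⟩
  obtain ⟨N, hNn, hN, hmin⟩ := exists_min_normal' (G := G)
  by_cases hab : ∀ x ∈ N, ∀ y ∈ N, Commute x y
  · exact Or.inl (H384.RR.affine hp N hN hab g)
  obtain ⟨htr, hKN, hNK⟩ := prim_normal hp N hN
  obtain ⟨ω⟩ := hne
  have hntΩ : Nontrivial Ω := by
    by_contra h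
    rw [not_nontrivial_iff_subsingleton] at h
    exact hNK ω fun x _ => Subsingleton.elim _ _
  obtain ⟨m, T, e, hf⟩ := exists_fac N hmin hab
  have htr' : ∀ w v : Ω, ∃ n : N, v = (n : G) • w := by
    intro w v
    obtain ⟨n, hn⟩ := htr.exists_smul_eq w v
    exact ⟨n, hn.symm⟩
  rcases H112.B57.scott' hf (stabilizer G ω) (hKN ω) (hNK ω)
    (fun X hX hKX hinv => prim_max_inv hp N ω X hX hKX hinv) with h | ⟨c, φ, hcc, hc2, hcK, hφ, hsur⟩
  · -- product case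
    obtain ⟨I, X, i1, i2, i3, π, ev, jj, C⟩ := hE hf (ω := ω) (htr' ω) id (fun _ => rfl)
      (fun x i j hij => by
        have hij' : i = j := hij
        rw [hij']) (fun n => by
        have h1 := h n
        simp only [mem_stabilizer_iff] at h1
        rw [h1]
        refine forall_congr' fun j => ?_
        have h2 : (fun i => if id i = j then e n i else 1) = Pi.mulSingle j (e n j) := by
          funext i
          show (if i = j then e n i else 1) = _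
          by_cases hij : i = j
          · subst hij
            rw [if_pos rfl, Pi.mulSingle_eq_same]
          · rw [if_neg hij, Pi.mulSingle_eq_of_ne hij]
        rw [h2, hf.single])
    have hΩ : Nonempty Ω := ⟨ω⟩
    exact product_case C hp htr' C.hne hAS g
  · -- diagonal case
    left
    have hmem := diag_mem hφ hsur
    obtain ⟨I, X, i1, i2, i3, π, ev, jj, C⟩ := hE hf (ω := ω) (htr' ω) c hcc
      (fun x i j hij => by
        obtain ⟨n, hn, hxn⟩ := hKN ω x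
        have h1 := hcK _ hxn i j hij
        have h2 : hf.perm n = 1 := hf.le_ker_perm hn
        rwa [map_mul, h2, mul_one] at h1) (fun n => diag_prod hcc hmem n)
    exact diag_case hD hc2 hcc hφ hsur C htr' g

/-- **the theorem in all universes** -/
theorem main (hD : DiagReg) (hE : ExDec) (hAS : ASRow (fun _ _ => True)) {G : Type*} [Group G] [Finite G] {Ω : Type*}
    [Fintype Ω] [MulAction G Ω] [FaithfulSMul G Ω] (hprim : IsPreprimitive G Ω) (g : G) :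
    (∃ ω : Ω, stabilizer (zpowers g) ω = ⊥) ∨ PAlt G Ω := by
  classical
  let ε : Ω ≃ Fin (Fintype.card Ω) := Fintype.equivFin Ω
  let Θ : G →* Equiv.Perm (Fin (Fintype.card Ω)) := ε.permCongrHom.toMonoidHom.comp (MulAction.toPermHom G Ω)
  have hΘ : ∀ (x : G) (w : Ω), Θ x (ε w) = ε (x • w) := by
    intro x w
    show ε (x • ε.symm (ε w)) = _
    rw [Equiv.symm_apply_apply]
  let f : Ω →ₑ[(Θ.rangeRestrict : G → Θ.range)] Fin (Fintype.card Ω) := ⟨ε, fun x w => (hΘ x w).symm⟩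
  have hprim0 : IsPreprimitive Θ.range (Fin (Fintype.card Ω)) :=
    IsPreprimitive.of_surjective (f := f) ε.surjective
  have hinj : ∀ x : G, Θ x = 1 → x = 1 := by
    intro x hx
    apply FaithfulSMul.eq_of_smul_eq_smul (α := Ω)
    intro w
    apply ε.injective
    rw [← hΘ, hx, one_smul]
    rfl
  rcases main_zero hD hE hAS hprim0 (Θ.rangeRestrict g) with h | ⟨m, k, r, hm, hk, hr, e, h1, h2⟩
  · left
    rw [reg_iff] at h ⊢
    obtain ⟨w, hw⟩ := h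
    refine ⟨ε.symm w, fun k hk => ?_⟩
    apply hinj
    have h3 := hw k (by
      rw [← map_zpow]
      show Θ (g ^ k) w = w
      have h4 := hΘ (g ^ k) (ε.symm w)
      rw [hk, Equiv.apply_symm_apply] at h4
      exact h4)
    rw [← map_zpow] at h3
    exact congrArg Subtype.val h3
  · right
    refine ⟨m, k, r, hm, hk, hr, ε.trans e, fun x => ?_, fun τ hτ => ?_⟩
    · obtain ⟨π, τ, h3⟩ := h1 (Θ.rangeRestrict x)
      refine ⟨π, τ, fun w i => ?_⟩
      have h4 := h3 (ε w) i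
      have h5 : Θ.rangeRestrict x • ε w = ε (x • w) := hΘ x w
      rw [h5] at h4
      exact h4
    · obtain ⟨⟨_, x, rfl⟩, h3⟩ := h2 τ hτ
      refine ⟨x, fun w i => ?_⟩
      have h4 := h3 (ε w) i
      have h5 : (⟨Θ x, x, rfl⟩ : Θ.range) • ε w = ε (x • w) := hΘ x w
      rw [h5] at h4
      exact h4

end Cfsg.Agent.H660.RR
end

-- part: H660/RR/Coord
section
/-!
# S3509: coordinates for a partition of the simple factors (helper660)

`exDec` : the coordinate sets are the orbits of the subgroups of `N` without components in a class (compare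
`H855/B57/ProdCase.lean`).
-/

set_option autoImplicit false

namespace Cfsg.Agent.H660.RR

open Subgroup MulAction Cfsg.Agent.H893 Cfsg.Agent.H893.Fac

section Coord

variable {G Ω : Type*} [Group G] [MulAction G Ω] {N : Subgroup G} {m : ℕ} {T : Fin m → Subgroup G}

/-- `(j, w)` and `(j, n w)` are equivalent if `n ∈ N` has no components in the class `j` -/
def cSetoid (e : N ≃* (∀ i, T i)) (c : Fin m → Fin m) (Ω : Type*) [MulAction G Ω] :
    Setoid ({j : Fin m // c j = j} × Ω) where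
  r p q := p.1 = q.1 ∧ ∃ n : N, (∀ l, c l = p.1.1 → e n l = 1) ∧ q.2 = (n : G) • p.2
  iseqv :=
    { refl := fun p => ⟨rfl, 1, fun l _ => by rw [map_one]; rfl, by simp⟩
      symm := by
        rintro ⟨i, w⟩ ⟨j, v⟩ ⟨hij, n, hn, hv⟩
        change i = j at hij
        change v = (n : G) • w at hv
        subst hij
        refine ⟨rfl, n⁻¹, fun l hl => ?_, ?_⟩
        · rw [map_inv, Pi.inv_apply, hn l hl, inv_one]
        · change w = ((n⁻¹ : N) : G) • v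
          rw [hv, InvMemClass.coe_inv, inv_smul_smul]
      trans := by
        rintro ⟨i, w⟩ ⟨j, v⟩ ⟨k, u⟩ ⟨hij, n, hn, hv⟩ ⟨hjk, n', hn', hu⟩
        change i = j at hij
        change j = k at hjk
        subst hij hjk
        change v = (n : G) • w at hv
        change u = (n' : G) • v at hu
        refine ⟨rfl, n' * n, fun l hl => ?_, ?_⟩
        · rw [map_mul, Pi.mul_apply, hn l hl, hn' l hl, one_mul]
        · change u = ((n' * n : N) : G) • w
          rw [hu, hv, Subgroup.coe_mul, mul_smul] }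

/-- the disjoint union of the coordinate sets -/
def CPt (e : N ≃* (∀ i, T i)) (c : Fin m → Fin m) (Ω : Type*) [MulAction G Ω] : Type _ := Quotient (cSetoid e c Ω)

variable {e : N ≃* (∀ i, T i)} {c : Fin m → Fin m}

/-- the coordinate of a point -/
def cpt (e : N ≃* (∀ i, T i)) (c : Fin m → Fin m) (j : {j : Fin m // c j = j}) (w : Ω) : CPt e c Ω :=
  Quotient.mk (cSetoid e c Ω) (j, w)

theorem cpt_eq {j : {j : Fin m // c j = j}} {w v : Ω} :
    cpt e c j w = cpt e c j v ↔ ∃ n : N, (∀ l, c l = j.1 → e n l = 1) ∧ v = (n : G) • w := by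
  constructor
  · intro h
    have h1 : (cSetoid e c Ω) (j, w) (j, v) := Quotient.exact h
    exact h1.2
  · intro h
    exact Quotient.sound ⟨rfl, h⟩

/-- the projection -/
def cprj (x : CPt e c Ω) : {j : Fin m // c j = j} :=
  Quotient.lift (s := cSetoid e c Ω) (fun p : {j : Fin m // c j = j} × Ω => p.1) (fun _ _ h => h.1) x

theorem exists_cpt (x : CPt e c Ω) : ∃ w : Ω, x = cpt e c (cprj x) w := by
  induction x using Quotient.inductionOn with
  | h p => exact ⟨p.2, rfl⟩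

instance [Finite Ω] : Finite (CPt e c Ω) := by
  unfold CPt
  infer_instance

variable (hf : Fac N m T e)

/-- the action on the classes -/
@[reducible] noncomputable def actI (hcc : ∀ i, c (c i) = c i)
    (hcG : ∀ (x : G) i j, c i = c j → c (hf.perm x i) = c (hf.perm x j)) : MulAction G {j : Fin m // c j = j} where
  smul x j := ⟨c (hf.perm x j.1), hcc _⟩
  one_smul j := by
    apply Subtype.ext
    show c (hf.perm 1 j.1) = j.1
    rw [map_one]
    exact j.2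
  mul_smul x y j := by
    apply Subtype.ext
    show c (hf.perm (x * y) j.1) = c (hf.perm x (c (hf.perm y j.1)))
    rw [map_mul]
    exact hcG x _ _ (hcc _).symm

variable [N.Normal]

/-- `g • (j, w) = (g j, g w)`. -/
noncomputable def csmul (hcc : ∀ i, c (c i) = c i)
    (hcG : ∀ (x : G) i j, c i = c j → c (hf.perm x i) = c (hf.perm x j)) (g : G) (x : CPt e c Ω) : CPt e c Ω :=
  Quotient.lift (s := cSetoid e c Ω) (fun p : {j : Fin m // c j = j} × Ω =>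
    cpt e c ((actI hf hcc hcG).smul g p.1) (g • p.2)) (by
    rintro ⟨i, w⟩ ⟨j, v⟩ ⟨hij, n, hn, hv⟩
    change i = j at hij
    subst hij
    change v = (n : G) • w at hv
    change cpt e c ((actI hf hcc hcG).smul g i) (g • w) = cpt e c ((actI hf hcc hcG).smul g i) (g • v)
    rw [cpt_eq]
    refine ⟨Fac.cj N g n, fun l hl => ?_, ?_⟩
    · have h1 : hf.perm g (hf.perm g⁻¹ l) = l := by
        rw [← Equiv.Perm.mul_apply, ← map_mul, mul_inv_cancel, map_one]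
        rfl
      have h2 : c (hf.perm g⁻¹ l) = i.1 := by
        have h3 := hcG g⁻¹ l (hf.perm g i.1) (by
          have h4 : c l = c (hf.perm g i.1) := hl
          exact h4)
        rw [h3, ← Equiv.Perm.mul_apply, ← map_mul, inv_mul_cancel, map_one]
        exact i.2
      have h3 := hf.cj_eq_one g (hf.perm g⁻¹ l) l (by
        have h4 := hf.perm_spec g (hf.perm g⁻¹ l)
        rwa [h1] at h4) n
      rw [h3]
      exact hn _ h2
    · change g • v = (g * (n : G) * g⁻¹) • g • w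
      rw [hv, smul_smul, smul_smul]
      congr 1
      group) x

/-- the action on the coordinate sets -/
@[reducible] noncomputable def actX (hcc : ∀ i, c (c i) = c i)
    (hcG : ∀ (x : G) i j, c i = c j → c (hf.perm x i) = c (hf.perm x j)) : MulAction G (CPt e c Ω) where
  smul := csmul hf hcc hcG
  one_smul x := by
    obtain ⟨w, hw⟩ := exists_cpt x
    rw [hw]
    change cpt e c ((actI hf hcc hcG).smul 1 (cprj x)) ((1 : G) • w) = cpt e c (cprj x) w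
    rw [one_smul]
    congr 1
    exact (actI hf hcc hcG).one_smul _
  mul_smul a b x := by
    obtain ⟨w, hw⟩ := exists_cpt x
    rw [hw]
    change cpt e c ((actI hf hcc hcG).smul (a * b) (cprj x)) ((a * b) • w) =
      cpt e c ((actI hf hcc hcG).smul a ((actI hf hcc hcG).smul b (cprj x))) (a • b • w)
    rw [mul_smul]
    congr 1
    exact (actI hf hcc hcG).mul_smul _ _ _

end Coord

/-- **The coordinates.** -/
theorem exDec : ExDec := by
  intro G Ω _ _ _ _ N _ m T e hf ω htr c hcc hcG hprod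
  classical
  refine ⟨{j : Fin m // c j = j}, CPt e c Ω, actI hf hcc hcG, actX hf hcc hcG, inferInstance, cprj,
    fun w j => cpt e c j w, fun i => ⟨c i, hcc i⟩, ?_⟩
  letI aI := actI hf hcc hcG
  letI aX : MulAction G (CPt e c Ω) := actX hf hcc hcG
  refine { dec := ?_, jsurj := ?_, jiff := ?_, jperm := ?_, eviff := ?_ }
  · refine { hπ := ?_, hev := fun w i => rfl, surj := ?_, inj := ?_, eq := fun g w i => rfl }
    · intro g x
      obtain ⟨w, hw⟩ := exists_cpt x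
      rw [hw]
      rfl
    · intro s hs
      have h1 : ∀ j, ∃ n : N, s j = cpt e c j ((n : G) • ω) := by
        intro j
        obtain ⟨w, hw⟩ := exists_cpt (s j)
        rw [hs] at hw
        obtain ⟨n, rfl⟩ := htr w
        exact ⟨n, hw⟩
      choose n hn using h1
      obtain ⟨n0, hn0⟩ : ∃ n0 : N, ∀ l, e n0 l = e (n ⟨c l, hcc l⟩) l :=
        ⟨e.symm (fun l => e (n ⟨c l, hcc l⟩) l), fun l => by rw [MulEquiv.apply_symm_apply]⟩
      refine ⟨(n0 : G) • ω, ?_⟩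
      funext j
      show cpt e c j ((n0 : G) • ω) = s j
      rw [hn j, cpt_eq]
      refine ⟨n j * n0⁻¹, fun l hl => ?_, ?_⟩
      · rw [map_mul, map_inv, Pi.mul_apply, Pi.inv_apply, hn0]
        have h2 : (⟨c l, hcc l⟩ : {j : Fin m // c j = j}) = j := Subtype.ext hl
        rw [h2, mul_inv_cancel]
      · rw [Subgroup.coe_mul, InvMemClass.coe_inv, mul_smul, inv_smul_smul]
    · intro w v h
      obtain ⟨u, rfl⟩ := htr w
      obtain ⟨s, rfl⟩ := htr v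
      have h1 : ((u⁻¹ * s : N) : G) • ω = ω := by
        rw [hprod]
        intro j
        by_cases hj : c j = j
        · have h2 : cpt e c ⟨j, hj⟩ ((u : G) • ω) = cpt e c ⟨j, hj⟩ ((s : G) • ω) := congrFun h ⟨j, hj⟩
          obtain ⟨n, hn, h3⟩ := cpt_eq.1 h2
          have h4 : ((u⁻¹ * n⁻¹ * s : N) : G) • ω = ω := by
            show ((u : G)⁻¹ * (n : G)⁻¹ * (s : G)) • ω = ω
            rw [mul_smul, mul_smul, h3, inv_smul_smul, inv_smul_smul]
          rw [hprod] at h4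
          have h5 := h4 j
          have h6 : (fun i => if c i = j then e (u⁻¹ * n⁻¹ * s) i else 1) =
              (fun i => if c i = j then e (u⁻¹ * s) i else 1) := by
            funext i
            by_cases hi : c i = j
            · rw [if_pos hi, if_pos hi, map_mul, map_mul, map_mul, map_inv, map_inv, Pi.mul_apply, Pi.mul_apply,
                Pi.mul_apply, Pi.inv_apply, Pi.inv_apply, hn i hi, inv_one, mul_one]
            · rw [if_neg hi, if_neg hi]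
          rwa [h6] at h5
        · have h6 : (fun i => if c i = j then e (u⁻¹ * s) i else 1) = 1 := by
            funext i
            rw [if_neg]
            · rfl
            · intro hi
              apply hj
              rw [← hi, hcc]
          rw [h6, map_one, OneMemClass.coe_one, one_smul]
      have h2 : ((u : G)⁻¹ * (s : G)) • ω = ω := h1
      rw [mul_smul, inv_smul_eq_iff] at h2
      exact h2.symm
  · intro j
    exact ⟨j.1, Subtype.ext j.2⟩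
  · intro i j
    exact ⟨fun h => congrArg Subtype.val h, fun h => Subtype.ext h⟩
  · intro x i
    apply Subtype.ext
    show c (hf.perm x (c i)) = c (hf.perm x i)
    exact hcG x _ _ (hcc i)
  · intro i w v
    exact cpt_eq

end Cfsg.Agent.H660.RR
end

-- part: H344/RR/DiagA
section
/-!
# S3509, the diagonal block (helper344): coordinates

A family of commuting simple nonabelian subgroups `T i` of `L`, permuted by `L`, such that for every `i` the product of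
the `T j`, `j ≠ i`, is regular on `Δ`.
-/

set_option autoImplicit false
set_option linter.unusedSectionVars false

namespace Cfsg.Agent.H344.RR

open Subgroup

universe u v w

variable {L : Type u} {Δ : Type v} {ι : Type w} [Group L] [MulAction L Δ] [Fintype ι] [DecidableEq ι]

/-- the hypotheses -/
structure DB (Δ : Type v) [MulAction L Δ] (T : ι → Subgroup L) : Prop where
  hs : ∀ i, IsSimpleGroup (T i)
  hna : ∀ i, ∃ a b : T i, a * b ≠ b * a
  hinj : Function.Injective T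
  hcomm : ∀ i j : ι, i ≠ j → ∀ a ∈ T i, ∀ b ∈ T j, Commute a b
  hconj : ∀ (x : L) (i : ι), ∃ j, T j = (T i).map (MulAut.conj x).toMonoidHom
  htr : ∀ (i : ι) (x y : Δ), ∃ t ∈ (⨆ j : {j // j ≠ i}, T j), t • x = y
  hreg : ∀ i : ι, ∀ t ∈ (⨆ j : {j // j ≠ i}, T j), ∀ x : Δ, t • x = x → t = 1

namespace DB

variable {T : ι → Subgroup L} (h : DB Δ T)
include h

theorem pair : Pairwise fun i j : ι => ∀ x y : L, x ∈ T i → y ∈ T j → Commute x y :=
  fun i j hij x y hx hy => h.hcomm i j hij x hx y hy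

omit h in
/-- the product -/
noncomputable def φ (h : DB Δ T) : (∀ i, T i) →* L := Subgroup.noncommPiCoprod h.pair

theorem φ_single (i : ι) (y : T i) : h.φ (Pi.mulSingle i y) = y := Subgroup.noncommPiCoprod_mulSingle i y

theorem φ_mem {m : ∀ i, T i} {i : ι} (hm : m i = 1) : h.φ m ∈ (⨆ j : {j // j ≠ i}, T j) := by
  unfold φ
  rw [Subgroup.noncommPiCoprod_apply]
  refine Subgroup.noncommProd_mem _ _ fun c _ => ?_
  by_cases hc : c = i
  · subst hc
    rw [hm]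
    exact one_mem _
  · exact (le_iSup (fun j : {j // j ≠ i} => T j) ⟨c, hc⟩) (m c).2

theorem exists_φ {t : L} {i : ι} (ht : t ∈ (⨆ j : {j // j ≠ i}, T j)) : ∃ m : ∀ i, T i, m i = 1 ∧ h.φ m = t := by
  have h1 : (⨆ j : {j // j ≠ i}, T j) ≤ ((Pi.evalMonoidHom (fun i => T i) i).ker).map h.φ := by
    refine iSup_le fun j => ?_
    intro y hy
    refine ⟨Pi.mulSingle (j : ι) ⟨y, hy⟩, ?_, h.φ_single _ _⟩
    exact Pi.mulSingle_eq_of_ne (Ne.symm j.2) _
  obtain ⟨m, hm, rfl⟩ := h1 ht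
  exact ⟨m, hm, rfl⟩

theorem center_T {i : ι} {a : L} (ha : a ∈ T i) (hc : ∀ b ∈ T i, Commute a b) : a = 1 := by
  haveI := h.hs i
  have h1 : (⟨a, ha⟩ : T i) ∈ center (T i) := by
    rw [mem_center_iff]
    intro b
    exact Subtype.ext (hc b b.2).eq.symm
  rcases (inferInstance : (center (T i)).Normal).eq_bot_or_eq_top with h2 | h2
  · rw [h2, mem_bot] at h1
    exact congrArg Subtype.val h1
  · exfalso
    obtain ⟨x, y, hxy⟩ := h.hna i
    apply hxy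
    have : x ∈ center (T i) := by rw [h2]; exact mem_top x
    exact (mem_center_iff.1 this y).symm

theorem comm_sup {i : ι} {a t : L} (ha : a ∈ T i) (ht : t ∈ (⨆ j : {j // j ≠ i}, T j)) : Commute a t := by
  have h1 : (⨆ j : {j // j ≠ i}, T j) ≤ centralizer ({a} : Set L) := by
    refine iSup_le fun j => ?_
    intro y hy
    rw [mem_centralizer_singleton_iff]
    exact (h.hcomm j i j.2 y hy a ha).eq
  exact (mem_centralizer_singleton_iff.1 (h1 ht)).symm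

theorem φ_inj : Function.Injective h.φ := by
  refine Subgroup.injective_noncommPiCoprod_of_iSupIndep ?_
  intro i
  rw [disjoint_iff]
  rw [eq_bot_iff]
  rintro a ⟨ha, ha'⟩
  rw [iSup_subtype'] at ha'
  rw [mem_bot]
  refine h.center_T ha fun b hb => (h.comm_sup hb ha').symm

/-- the stabilizer of a point meets the partial products trivially -/
theorem eq_one_of_fix {m : ∀ i, T i} {i : ι} (hm : m i = 1) {ω : Δ} (hω : h.φ m • ω = ω) : m = 1 := by
  have h1 := h.hreg i _ (h.φ_mem hm) ω hω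
  exact h.φ_inj (by rw [h1, map_one])

theorem eq_of_fix {m n : ∀ i, T i} {i : ι} (hmn : m i = n i) {ω : Δ} (h1 : h.φ m • ω = ω) (h2 : h.φ n • ω = ω) :
    m = n := by
  have h3 : h.φ (m⁻¹ * n) • ω = ω := by
    rw [map_mul, map_inv, mul_smul, h2, inv_smul_eq_iff, h1]
  have h4 := h.eq_one_of_fix (m := m⁻¹ * n) (i := i) (by rw [Pi.mul_apply, Pi.inv_apply, hmn, inv_mul_cancel]) h3
  exact inv_mul_eq_one.1 h4

/-- the bijection `m ↦ (m i, m ω)` -/
theorem bij (i : ι) (ω : Δ) : Function.Bijective (fun m : ∀ i, T i => (m i, h.φ m • ω)) := by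
  constructor
  · intro m n hmn
    have h1 : m i = n i := congrArg Prod.fst hmn
    have h2 : h.φ m • ω = h.φ n • ω := congrArg Prod.snd hmn
    have h3 : h.φ (n⁻¹ * m) • ω = ω := by rw [map_mul, map_inv, mul_smul, h2, inv_smul_smul]
    have h4 := h.eq_one_of_fix (m := n⁻¹ * m) (i := i) (by rw [Pi.mul_apply, Pi.inv_apply, h1, inv_mul_cancel]) h3
    exact (inv_mul_eq_one.1 h4).symm
  · rintro ⟨a, δ⟩
    obtain ⟨t, ht, ht'⟩ := h.htr i ω ((a : L)⁻¹ • δ)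
    obtain ⟨m, hm, rfl⟩ := h.exists_φ ht
    refine ⟨Pi.mulSingle i a * m, ?_⟩
    rw [Prod.mk.injEq]
    refine ⟨?_, ?_⟩
    · rw [Pi.mul_apply, Pi.mulSingle_eq_same, hm, mul_one]
    · rw [map_mul, h.φ_single, mul_smul, ht', smul_inv_smul]

theorem exists_coord (i : ι) (ω δ : Δ) : ∃ m : ∀ i, T i, m i = 1 ∧ h.φ m • ω = δ := by
  obtain ⟨t, ht, ht'⟩ := h.htr i ω δ
  obtain ⟨m, hm, rfl⟩ := h.exists_φ ht
  exact ⟨m, hm, ht'⟩

theorem card_mul [Finite L] [Finite Δ] [Nonempty Δ] (i : ι) :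
    Nat.card (T i) * Nat.card Δ = ∏ j, Nat.card (T j) := by
  obtain ⟨ω⟩ := ‹Nonempty Δ›
  rw [← Nat.card_prod, ← Nat.card_pi]
  exact (Nat.card_congr (Equiv.ofBijective _ (h.bij i ω))).symm

theorem card_eq [Finite L] [Finite Δ] [Nonempty Δ] (i j : ι) : Nat.card (T i) = Nat.card (T j) := by
  have h1 := h.card_mul i
  rw [← h.card_mul j] at h1
  exact Nat.eq_of_mul_eq_mul_right Nat.card_pos h1

theorem card_pow [Finite L] [Finite Δ] [Nonempty Δ] (i : ι) :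
    Nat.card (T i) * Nat.card Δ = Nat.card (T i) ^ Fintype.card ι := by
  rw [h.card_mul i, Finset.prod_congr rfl fun j _ => h.card_eq j i, Finset.prod_const, Finset.card_univ]

/-! ### conjugation -/

omit h in
/-- the permutation of the indices, as a function -/
noncomputable def sf (h : DB Δ T) (x : L) (i : ι) : ι := (h.hconj x i).choose

theorem sf_spec (x : L) (i : ι) : T (h.sf x i) = (T i).map (MulAut.conj x).toMonoidHom := (h.hconj x i).choose_spec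

theorem sf_inj (x : L) : Function.Injective (h.sf x) := by
  intro i j hij
  apply h.hinj
  have h1 := h.sf_spec x i
  rw [hij, h.sf_spec x j] at h1
  exact (Subgroup.map_injective (MulAut.conj x).injective h1).symm

omit h in
/-- the permutation of the indices -/
noncomputable def σ (h : DB Δ T) (x : L) : Equiv.Perm ι :=
  Equiv.ofBijective (h.sf x) (Finite.injective_iff_bijective.1 (h.sf_inj x))

theorem σ_spec (x : L) (i : ι) : T (h.σ x i) = (T i).map (MulAut.conj x).toMonoidHom := h.sf_spec x i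

theorem σ_eq {x : L} {i j : ι} (hj : T j = (T i).map (MulAut.conj x).toMonoidHom) : h.σ x i = j :=
  h.hinj (by rw [h.σ_spec, hj])

theorem σ_mul (x y : L) : h.σ (x * y) = h.σ x * h.σ y := by
  ext i
  apply h.σ_eq
  rw [Equiv.Perm.mul_apply, h.σ_spec, h.σ_spec, Subgroup.map_map]
  congr 1
  ext a
  simp [mul_assoc]

theorem σ_one : h.σ 1 = 1 := by
  have := h.σ_mul 1 1
  rw [one_mul] at this
  exact (mul_eq_right.1 this.symm)

theorem σ_pow (x : L) (n : ℕ) : h.σ (x ^ n) = h.σ x ^ n := by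
  induction n with
  | zero => rw [pow_zero, pow_zero, h.σ_one]
  | succ n ih => rw [pow_succ, h.σ_mul, ih, pow_succ]

theorem conj_mem (x : L) {i : ι} {a : L} (ha : a ∈ T i) : x * a * x⁻¹ ∈ T (h.σ x i) := by
  rw [h.σ_spec]
  exact ⟨a, ha, rfl⟩

omit h in
/-- conjugation on the coordinates -/
noncomputable def ψ (h : DB Δ T) (x : L) : (∀ i, T i) →* (∀ i, T i) where
  toFun m i := ⟨x * m ((h.σ x).symm i) * x⁻¹, by
    have := h.conj_mem x (m ((h.σ x).symm i)).2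
    rwa [Equiv.apply_symm_apply] at this⟩
  map_one' := by
    funext i
    apply Subtype.ext
    show x * ((1 : ∀ i, T i) ((h.σ x).symm i) : L) * x⁻¹ = 1
    rw [Pi.one_apply, Subgroup.coe_one, mul_one, mul_inv_cancel]
  map_mul' m n := by
    funext i
    apply Subtype.ext
    show x * ((m * n) ((h.σ x).symm i) : L) * x⁻¹ = x * m ((h.σ x).symm i) * x⁻¹ * (x * n ((h.σ x).symm i) * x⁻¹)
    rw [Pi.mul_apply, Subgroup.coe_mul]
    group

theorem ψ_apply (x : L) (m : ∀ i, T i) (i : ι) : ((h.ψ x m i : T i) : L) = x * m ((h.σ x).symm i) * x⁻¹ := rfl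

theorem ψ_σ (x : L) (m : ∀ i, T i) (i : ι) : ((h.ψ x m (h.σ x i) : T (h.σ x i)) : L) = x * m i * x⁻¹ := by
  rw [h.ψ_apply, Equiv.symm_apply_apply]

theorem φ_ψ (x : L) (m : ∀ i, T i) : h.φ (h.ψ x m) = x * h.φ m * x⁻¹ := by
  have h1 : h.φ.comp (h.ψ x) = (MulAut.conj x).toMonoidHom.comp h.φ := by
    refine MonoidHom.pi_ext fun i a => ?_
    show h.φ (h.ψ x (Pi.mulSingle i a)) = x * h.φ (Pi.mulSingle i a) * x⁻¹
    have h2 : h.ψ x (Pi.mulSingle i a) = Pi.mulSingle (h.σ x i) ⟨x * a * x⁻¹, h.conj_mem x a.2⟩ := by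
      funext j
      apply Subtype.ext
      by_cases hj : j = h.σ x i
      · subst hj
        rw [h.ψ_σ, Pi.mulSingle_eq_same, Pi.mulSingle_eq_same]
      · rw [Pi.mulSingle_eq_of_ne hj, h.ψ_apply, Pi.mulSingle_eq_of_ne, Subgroup.coe_one, mul_one, mul_inv_cancel,
          Subgroup.coe_one]
        intro e
        apply hj
        rw [← e, Equiv.apply_symm_apply]
    rw [h2, h.φ_single, h.φ_single]
  exact DFunLike.congr_fun h1 m

theorem smul_φ {x : L} {ω : Δ} (hω : x • ω = ω) (m : ∀ i, T i) : x • h.φ m • ω = h.φ (h.ψ x m) • ω := by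
  rw [h.φ_ψ, mul_smul, mul_smul, inv_smul_eq_iff.2 hω.symm]

/-- the defect of a fixed point -/
theorem defect {x : L} {ω : Δ} (hω : x • ω = ω) {m : ∀ i, T i} (hm : x • h.φ m • ω = h.φ m • ω) :
    h.φ (m⁻¹ * h.ψ x m) • ω = ω := by
  rw [map_mul, mul_smul, ← h.smul_φ hω, hm, map_inv, inv_smul_smul]

theorem ψ_fix {x : L} {ω : Δ} (hω : x • ω = ω) {k : ∀ i, T i} (hk : h.φ k • ω = ω) : h.φ (h.ψ x k) • ω = ω := by
  rw [← h.smul_φ hω, hk, hω]

end DB

end Cfsg.Agent.H344.RR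
end

-- part: H344/RR/DiagB
section
/-!
# S3509, the diagonal block (helper344): the number of fixed points
-/

set_option autoImplicit false
set_option linter.unusedSectionVars false
set_option linter.style.haveILetI false

namespace Cfsg.Agent.H344.RR

open Subgroup

universe u v w

/-! ### an abstract lemma -/

section abs

/-- **the class lemma** -/
theorem class_lemma {L : Type u} [Group L] [Finite L] {S : Subgroup L} [hs : IsSimpleGroup S] {a x : L} {p : ℕ}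
    (hp : p.Prime) (hxp : x ^ p = 1) (hxS : ∀ s ∈ S, x * s * x⁻¹ ∈ S) (hax : a * x = x * a)
    (hx : ¬ ∀ s ∈ S, x * s = s * x) (ha : ¬ ∀ s ∈ S, a * s = s * a) :
    p + 1 ≤ ((centralizer ({a} : Set L)).subgroupOf S).index := by
  classical
  set C := (centralizer ({a} : Set L)).subgroupOf S with hC
  have memC : ∀ s : S, s ∈ C ↔ (s : L) * a = a * s := fun s => by
    rw [hC, mem_subgroupOf, mem_centralizer_singleton_iff]
  let c : S →* S :=
    { toFun := fun s => ⟨x * s * x⁻¹, hxS s s.2⟩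
      map_one' := Subtype.ext (by show x * ((1 : S) : L) * x⁻¹ = 1; rw [coe_one, mul_one, mul_inv_cancel])
      map_mul' := fun s t => Subtype.ext (by
        show x * ((s * t : S) : L) * x⁻¹ = x * s * x⁻¹ * (x * t * x⁻¹)
        rw [coe_mul]; group) }
  have hc : ∀ s : S, ((c s : S) : L) = x * s * x⁻¹ := fun s => rfl
  have hax' : a * x⁻¹ = x⁻¹ * a := (show Commute a x from hax).inv_right.eq
  have cC : ∀ s ∈ C, c s ∈ C := by
    intro s hs'
    rw [memC] at hs' ⊢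
    rw [hc]
    calc x * s * x⁻¹ * a = x * s * (x⁻¹ * a) := by group
      _ = x * (s * a) * x⁻¹ := by rw [← hax']; group
      _ = x * a * s * x⁻¹ := by rw [hs']; group
      _ = a * (x * s * x⁻¹) := by rw [← hax]; group
  let f : S ⧸ C → S ⧸ C := Quotient.map' c (by
    intro s t hst
    rw [QuotientGroup.leftRel_apply] at hst ⊢
    rw [← map_inv, ← map_mul]
    exact cC _ hst)
  have hf : ∀ s : S, f (s : S ⧸ C) = ((c s : S) : S ⧸ C) := fun s => rfl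
  have hfn : ∀ (n : ℕ) (s : S), f^[n] (s : S ⧸ C) = ((c^[n] s : S) : S ⧸ C) := by
    intro n
    induction n with
    | zero => intro s; rfl
    | succ n ih => intro s; rw [Function.iterate_succ_apply, Function.iterate_succ_apply, hf, ih]
  have hcn : ∀ (n : ℕ) (s : S), ((c^[n] s : S) : L) = x ^ n * s * (x ^ n)⁻¹ := by
    intro n
    induction n with
    | zero => intro s; simp
    | succ n ih => intro s; rw [Function.iterate_succ_apply, ih, hc, pow_succ]; group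
  have hfp : ∀ q : S ⧸ C, f^[p] q = q := by
    intro q
    obtain ⟨s, rfl⟩ := QuotientGroup.mk_surjective q
    rw [hfn]
    congr 1
    apply Subtype.ext
    rw [hcn, hxp]
    group
  have hq0 : f ((1 : S) : S ⧸ C) = ((1 : S) : S ⧸ C) := by rw [hf, map_one]
  -- a moved coset
  obtain ⟨q, hq⟩ : ∃ q, f q ≠ q := by
    by_contra hno
    push Not at hno
    let W : Set S := Set.range fun s : S => s⁻¹ * c s
    have hWC : closure W ≤ C := by
      rw [closure_le]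
      rintro _ ⟨s, rfl⟩
      have h1 := hno (s : S ⧸ C)
      rw [hf] at h1
      exact QuotientGroup.eq.1 h1.symm
    have hWn : (closure W).Normal := by
      constructor
      intro y hy t
      refine Subgroup.closure_induction (p := fun y _ => t * y * t⁻¹ ∈ closure W) ?_ ?_ ?_ ?_ hy
      · rintro _ ⟨s, rfl⟩
        have h1 : t * (s⁻¹ * c s) * t⁻¹ = ((s * t⁻¹)⁻¹ * c (s * t⁻¹)) * ((t⁻¹)⁻¹ * c t⁻¹)⁻¹ := by
          rw [map_mul]; group
        show t * (s⁻¹ * c s) * t⁻¹ ∈ closure W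
        rw [h1]
        exact mul_mem (subset_closure ⟨_, rfl⟩) (inv_mem (subset_closure ⟨_, rfl⟩))
      · rw [mul_one, mul_inv_cancel]; exact one_mem _
      · intro y z _ _ h1 h2
        have : t * (y * z) * t⁻¹ = (t * y * t⁻¹) * (t * z * t⁻¹) := by group
        rw [this]; exact mul_mem h1 h2
      · intro y _ h1
        have : t * y⁻¹ * t⁻¹ = (t * y * t⁻¹)⁻¹ := by group
        rw [this]; exact inv_mem h1
    rcases hWn.eq_bot_or_eq_top with h1 | h1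
    · apply hx
      intro s hs'
      have h2 : (⟨s, hs'⟩ : S)⁻¹ * c ⟨s, hs'⟩ ∈ closure W := subset_closure ⟨_, rfl⟩
      rw [h1, mem_bot] at h2
      have h3 := congrArg Subtype.val (inv_mul_eq_one.1 h2)
      have h4 : s = x * s * x⁻¹ := h3
      exact (mul_inv_eq_iff_eq_mul.1 h4.symm)
    · apply ha
      intro s hs'
      have h2 : (⟨s, hs'⟩ : S) ∈ C := hWC (by rw [h1]; exact mem_top _)
      exact ((memC _).1 h2).symm
  have hmp : Function.minimalPeriod f q = p := by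
    have h1 : Function.minimalPeriod f q ∣ p := Function.IsPeriodicPt.minimalPeriod_dvd (hfp q)
    rcases (Nat.dvd_prime hp).1 h1 with h2 | h2
    · exact absurd (Function.minimalPeriod_eq_one_iff_isFixedPt.1 h2) hq
    · exact h2
  have hinj := Function.iterate_injOn_Iio_minimalPeriod (f := f) (x := q)
  rw [hmp] at hinj
  have hne : ∀ k < p, f^[k] q ≠ ((1 : S) : S ⧸ C) := by
    intro k hk h1
    apply hq
    have h2 : f^[p - k] (f^[k] q) = q := by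
      rw [← Function.iterate_add_apply, Nat.sub_add_cancel hk.le, hfp]
    have h3 : ∀ n, f^[n] ((1 : S) : S ⧸ C) = ((1 : S) : S ⧸ C) := by
      intro n
      exact Function.iterate_fixed hq0 n
    rw [h1, h3] at h2
    rw [← h2, hq0]
  have hfin : Finite (S ⧸ C) := inferInstance
  have := Fintype.ofFinite (S ⧸ C)
  rw [Subgroup.index_eq_card, Nat.card_eq_fintype_card]
  have h5 : (insert ((1 : S) : S ⧸ C) ((Finset.range p).image (fun k => f^[k] q))).card = p + 1 := by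
    rw [Finset.card_insert_of_notMem, Finset.card_image_of_injOn, Finset.card_range]
    · intro a ha b hb hab
      exact hinj (Finset.mem_range.1 ha) (Finset.mem_range.1 hb) hab
    · rw [Finset.mem_image]
      rintro ⟨k, hk, hk'⟩
      exact hne k (Finset.mem_range.1 hk) hk'
  rw [← h5]
  exact Finset.card_le_univ _

/-- elements inverted by an automorphism -/
theorem three_fifths {S : Type u} [Group S] [Finite S] (A : Set S) (hA : ∀ s ∈ A, ∀ t ∈ A, s * t ∈ A → s * t = t * s)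
    (h2 : 2 ≤ Nat.card S) (hC : ∀ s : S, s ≠ 1 → 5 * Nat.card (centralizer ({s} : Set S)) ≤ Nat.card S) :
    5 * Nat.card A ≤ 3 * Nat.card S := by
  classical
  have := Fintype.ofFinite S
  by_cases h : ∃ s ∈ A, s ≠ 1
  · obtain ⟨s, hs, hs1⟩ := h
    have h1 := hC s hs1
    let B : Finset S := A.toFinset
    have hB : B.card = Nat.card A := by
      rw [Nat.card_eq_fintype_card, ← Set.toFinset_card]
    have h3 : (B ∩ B.image (fun t => s⁻¹ * t)).card ≤ Nat.card (centralizer ({s} : Set S)) := by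
      have e1 : Nat.card (centralizer ({s} : Set S)) = ((centralizer ({s} : Set S) : Set S).toFinset).card := by
        rw [Set.toFinset_card, ← Nat.card_eq_fintype_card]; rfl
      rw [e1]
      apply Finset.card_le_card
      intro t ht
      rw [Finset.mem_inter, Finset.mem_image] at ht
      obtain ⟨ht1, t', ht2, rfl⟩ := ht
      rw [Set.mem_toFinset] at ht1 ht2
      rw [Set.mem_toFinset, SetLike.mem_coe, mem_centralizer_singleton_iff]
      exact (hA s hs _ ht1 (by rw [mul_inv_cancel_left]; exact ht2)).symm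
    have h4 : (B ∪ B.image (fun t => s⁻¹ * t)).card ≤ Nat.card S := by
      rw [Nat.card_eq_fintype_card]; exact Finset.card_le_univ _
    have h5 := Finset.card_union_add_card_inter B (B.image (fun t => s⁻¹ * t))
    rw [Finset.card_image_of_injective _ (mul_right_injective s⁻¹), hB] at h5
    omega
  · push Not at h
    have h3 : Nat.card A ≤ 1 := by
      rw [Finite.card_le_one_iff_subsingleton]
      exact ⟨fun a b => Subtype.ext ((h a a.2).trans (h b b.2).symm)⟩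
    omega

/-- the permutation lemma for an orbit of prime length -/
theorem comb_p {ι : Type w} [Fintype ι] [DecidableEq ι] {σ : Equiv.Perm ι} {p : ℕ} (hp : p.Prime) (hσ : σ ^ p = 1)
    {i₀ : ι} (h0 : σ i₀ ≠ i₀) : ∃ S : Finset ι, σ i₀ ∈ S ∧
      (∀ A : Set ι, (∀ i ∈ A, σ i ∈ A) → i₀ ∈ A → (∀ s ∈ S, s ∈ A) → ∀ i, i ∈ A) ∧
      S.card + (p - 1) = Fintype.card ι := by
  have hfp : ∀ q : ι, (σ : ι → ι)^[p] q = q := by
    intro q
    rw [← Equiv.Perm.coe_pow, hσ]; rfl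
  have hmp : Function.minimalPeriod (σ : ι → ι) i₀ = p := by
    have h1 : Function.minimalPeriod (σ : ι → ι) i₀ ∣ p := Function.IsPeriodicPt.minimalPeriod_dvd (hfp i₀)
    rcases (Nat.dvd_prime hp).1 h1 with h2 | h2
    · exact absurd (Function.minimalPeriod_eq_one_iff_isFixedPt.1 h2) h0
    · exact h2
  have hinj := Function.iterate_injOn_Iio_minimalPeriod (f := (σ : ι → ι)) (x := i₀)
  rw [hmp] at hinj
  let R : Finset ι := ((Finset.range p).erase 1).image (fun k => (σ : ι → ι)^[k] i₀)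
  have hR : R.card = p - 1 := by
    rw [Finset.card_image_of_injOn, Finset.card_erase_of_mem (Finset.mem_range.2 hp.one_lt), Finset.card_range]
    intro a ha b hb hab
    exact hinj (Finset.mem_range.1 (Finset.mem_of_mem_erase ha)) (Finset.mem_range.1 (Finset.mem_of_mem_erase hb)) hab
  refine ⟨Rᶜ, ?_, ?_, ?_⟩
  · rw [Finset.mem_compl, Finset.mem_image]
    rintro ⟨k, hk, hk'⟩
    rw [Finset.mem_erase] at hk
    exact hk.1 (hinj (Finset.mem_range.1 hk.2) (show 1 < p from hp.one_lt) (by simpa using hk'))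
  · intro A h1 h2 h3 i
    by_cases hi : i ∈ R
    · obtain ⟨k, -, rfl⟩ := Finset.mem_image.1 hi
      have h4 : ∀ k : ℕ, (σ : ι → ι)^[k] i₀ ∈ A := by
        intro k
        induction k with
        | zero => exact h2
        | succ k ih => rw [Function.iterate_succ_apply']; exact h1 _ ih
      exact h4 k
    · exact h3 i (Finset.mem_compl.2 hi)
  · rw [Finset.card_compl, hR]
    have : R.card ≤ Fintype.card ι := Finset.card_le_univ _
    omega

/-- the permutation lemma for involutions -/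
theorem comb_two {ι : Type w} [Fintype ι] [DecidableEq ι] {σ : Equiv.Perm ι} (hσ : σ ^ 2 = 1) (h1 : σ ≠ 1)
    (hl : 3 ≤ Fintype.card ι) : ∃ (i₀ : ι) (S : Finset ι), (σ i₀ = i₀ ∨ σ i₀ ∈ S) ∧
      (∀ A : Set ι, (∀ i ∈ A, σ i ∈ A) → i₀ ∈ A → (∀ s ∈ S, s ∈ A) → ∀ i, i ∈ A) ∧
      S.card + 2 = Fintype.card ι := by
  have hs : ∀ i, σ (σ i) = i := by
    intro i
    have := congrArg (fun τ : Equiv.Perm ι => τ i) hσ
    simpa [pow_two] using this
  have key : ∀ (i₀ a : ι), i₀ ≠ σ a → a ≠ i₀ → σ a ≠ a → (σ i₀ = i₀ ∨ σ i₀ ≠ σ a ∧ σ i₀ ≠ i₀) →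
      ∃ (i₀ : ι) (S : Finset ι), (σ i₀ = i₀ ∨ σ i₀ ∈ S) ∧
      (∀ A : Set ι, (∀ i ∈ A, σ i ∈ A) → i₀ ∈ A → (∀ s ∈ S, s ∈ A) → ∀ i, i ∈ A) ∧
      S.card + 2 = Fintype.card ι := by
    intro i₀ a h2 h3 h4 h5
    refine ⟨i₀, ({i₀, σ a} : Finset ι)ᶜ, ?_, ?_, ?_⟩
    · rcases h5 with h5 | h5
      · exact Or.inl h5
      · right
        simp only [Finset.mem_compl, Finset.mem_insert, Finset.mem_singleton, not_or]
        exact ⟨h5.2, h5.1⟩
    · intro A g1 g2 g3 i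
      have ha : a ∈ A := g3 a (by
        simp only [Finset.mem_compl, Finset.mem_insert, Finset.mem_singleton, not_or]
        exact ⟨h3, fun e => h4 e.symm⟩)
      by_cases hi : i ∈ ({i₀, σ a} : Finset ι)
      · rw [Finset.mem_insert, Finset.mem_singleton] at hi
        rcases hi with rfl | rfl
        · exact g2
        · exact g1 a ha
      · exact g3 i (Finset.mem_compl.2 hi)
    · rw [Finset.card_compl, Finset.card_pair h2]
      omega
  by_cases hfix : ∃ j, σ j = j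
  · obtain ⟨j, hj⟩ := hfix
    obtain ⟨a, ha⟩ : ∃ a, σ a ≠ a := by
      by_contra hno
      push Not at hno
      exact h1 (Equiv.ext hno)
    refine key j a ?_ ?_ ha (Or.inl hj)
    · intro e
      apply ha
      have h2 : σ j = a := by rw [e, hs]
      rw [← h2, hj, hj]
    · rintro rfl
      exact ha hj
  · push Not at hfix
    obtain ⟨i₀⟩ : Nonempty ι := Fintype.card_pos_iff.1 (by omega)
    obtain ⟨a, ha⟩ : ∃ a, a ∉ ({i₀, σ i₀} : Finset ι) := by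
      by_contra hno
      push Not at hno
      have h2 : Fintype.card ι ≤ ({i₀, σ i₀} : Finset ι).card := by
        rw [← Finset.card_univ]
        exact Finset.card_le_card fun i _ => hno i
      have h3 := Finset.card_le_two (a := i₀) (b := σ i₀)
      omega
    rw [Finset.mem_insert, Finset.mem_singleton, not_or] at ha
    refine key i₀ a ?_ ha.1 (hfix a) (Or.inr ⟨?_, hfix i₀⟩)
    · intro e
      apply ha.2
      rw [e, hs]
    · intro e
      exact ha.1 (σ.injective e).symm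

end abs

variable {L : Type u} {Δ : Type v} {ι : Type w} [Group L] [MulAction L Δ] [Fintype ι] [DecidableEq ι]
variable {T : ι → Subgroup L}

/-- the fixed points -/
def Fx (Δ : Type v) [MulAction L Δ] (x : L) : Set Δ := {δ | x • δ = δ}

/-- the centralizer of `x` in `T j` -/
def Cx (T : ι → Subgroup L) (x : L) (j : ι) : Subgroup (T j) := (centralizer ({x} : Set L)).subgroupOf (T j)

theorem mem_Cx {x : L} {j : ι} {a : T j} : a ∈ Cx T x j ↔ (a : L) * x = x * a := by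
  unfold Cx
  rw [mem_subgroupOf, mem_centralizer_singleton_iff]

namespace DB

variable (h : DB Δ T) [Finite L] [Finite Δ] [Nonempty Δ]
include h

/-- **fixed points, general** -/
theorem card_fix_le {x : L} {ω : Δ} (hω : x • ω = ω) (i₀ : ι) (S : Finset ι)
    (hS : h.σ x i₀ = i₀ ∨ h.σ x i₀ ∈ S)
    (hcl : ∀ A : Set ι, (∀ i ∈ A, h.σ x i ∈ A) → i₀ ∈ A → (∀ s ∈ S, s ∈ A) → ∀ i, i ∈ A) :
    Nat.card (Fx Δ x) ≤ Nat.card (T i₀) ^ S.card := by
  classical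
  have hex : ∀ δ : Fx Δ x, ∃ m : ∀ i, T i, m i₀ = 1 ∧ h.φ m • ω = δ := fun δ => h.exists_coord i₀ ω δ
  choose c hc1 hc2 using hex
  have hfix : ∀ δ : Fx Δ x, x • h.φ (c δ) • ω = h.φ (c δ) • ω := fun δ => by rw [hc2]; exact δ.2
  let f : Fx Δ x → (∀ s : S, T s) := fun δ s => c δ s
  have hf : Function.Injective f := by
    intro δ ε hδε
    have hd1 := h.defect hω (hfix δ)
    have hd2 := h.defect hω (hfix ε)
    have h1 : c δ (h.σ x i₀) = c ε (h.σ x i₀) := by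
      rcases hS with hS | hS
      · rw [hS, hc1, hc1]
      · exact congrFun hδε ⟨_, hS⟩
    have h2 : (c δ)⁻¹ * h.ψ x (c δ) = (c ε)⁻¹ * h.ψ x (c ε) := by
      refine h.eq_of_fix (i := h.σ x i₀) ?_ hd1 hd2
      rw [Pi.mul_apply, Pi.mul_apply, Pi.inv_apply, Pi.inv_apply, h1]
      congr 1
      apply Subtype.ext
      rw [h.ψ_σ, h.ψ_σ, hc1, hc1]
    have h3 : ∀ i, i ∈ {i | c δ i = c ε i} := by
      refine hcl _ ?_ ?_ ?_
      · intro i hi
        have hi : c δ i = c ε i := hi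
        have h4 : h.ψ x (c δ) (h.σ x i) = h.ψ x (c ε) (h.σ x i) := by
          apply Subtype.ext
          rw [h.ψ_σ, h.ψ_σ, hi]
        have h5 := congrFun h2 (h.σ x i)
        rw [Pi.mul_apply, Pi.mul_apply, Pi.inv_apply, Pi.inv_apply, h4] at h5
        exact inv_injective (mul_right_cancel h5)
      · show c δ i₀ = c ε i₀
        rw [hc1, hc1]
      · intro s hs
        exact congrFun hδε ⟨s, hs⟩
    apply Subtype.ext
    rw [← hc2 δ, ← hc2 ε]
    congr 2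
    funext i
    exact h3 i
  have h4 := Nat.card_le_card_of_injective f hf
  rw [Nat.card_pi, Finset.prod_congr rfl fun (s : S) _ => h.card_eq (s : ι) i₀, Finset.prod_const, Finset.card_univ,
    Fintype.card_coe] at h4
  exact h4

/-- an element of prime order moving a factor -/
theorem card_fix_moved {x : L} {ω : Δ} (hω : x • ω = ω) {p : ℕ} (hp : p.Prime) (hx : x ^ p = 1) {i : ι}
    (hi : h.σ x i ≠ i) : Nat.card (Fx Δ x) * Nat.card (T i) ^ (p - 1) ≤ Nat.card (T i) * Nat.card Δ ∧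
      p ≤ Fintype.card ι := by
  have h1 : h.σ x ^ p = 1 := by rw [← h.σ_pow, hx, h.σ_one]
  obtain ⟨S, h2, h3, h4⟩ := comb_p hp h1 hi
  have h5 := h.card_fix_le hω i S (Or.inr h2) h3
  have hS : 0 < S.card := Finset.card_pos.2 ⟨_, h2⟩
  refine ⟨?_, by have := hp.two_le; omega⟩
  rw [h.card_pow i, ← h4, pow_add]
  exact Nat.mul_le_mul_right _ h5

/-- an involution moving a factor -/
theorem card_fix_two {x : L} {ω : Δ} (hω : x • ω = ω) (hx : x ^ 2 = 1) (hi : h.σ x ≠ 1) (hl : 3 ≤ Fintype.card ι)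
    (i : ι) : Nat.card (Fx Δ x) * Nat.card (T i) ≤ Nat.card Δ := by
  have h1 : h.σ x ^ 2 = 1 := by rw [← h.σ_pow, hx, h.σ_one]
  obtain ⟨j, S, h2, h3, h4⟩ := comb_two h1 hi hl
  have h5 := h.card_fix_le hω j S h2 h3
  rw [h.card_eq j i] at h5
  have h6 := h.card_pow i
  rw [← h4, pow_add, pow_two] at h6
  have h7 : Nat.card (T i) * (Nat.card (Fx Δ x) * Nat.card (T i)) ≤ Nat.card (T i) * Nat.card Δ := by
    rw [h6]
    calc Nat.card (T i) * (Nat.card (Fx Δ x) * Nat.card (T i)) =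
        Nat.card (Fx Δ x) * (Nat.card (T i) * Nat.card (T i)) := by ring
      _ ≤ _ := Nat.mul_le_mul_right _ h5
  exact Nat.le_of_mul_le_mul_left h7 Nat.card_pos

/-- **fixed points, no factor moved** -/
theorem card_fix_id {x : L} {ω : Δ} (hω : x • ω = ω) (hσ : h.σ x = 1) (i₀ : ι) :
    Nat.card (Fx Δ x) * ∏ j ∈ Finset.univ.erase i₀, (Cx T x j).index ≤ Nat.card Δ := by
  classical
  have hex : ∀ δ : Fx Δ x, ∃ m : ∀ i, T i, m i₀ = 1 ∧ h.φ m • ω = δ := fun δ => h.exists_coord i₀ ω δ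
  choose c hc1 hc2 using hex
  have hfix : ∀ δ : Fx Δ x, x • h.φ (c δ) • ω = h.φ (c δ) • ω := fun δ => by rw [hc2]; exact δ.2
  have hσi : ∀ i, h.σ x i = i := fun i => by rw [hσ]; rfl
  have hψ : ∀ (m : ∀ i, T i) (i : ι), ((h.ψ x m i : T i) : L) = x * m i * x⁻¹ := by
    intro m i
    rw [h.ψ_apply, hσ]; rfl
  have hcc : ∀ (δ : Fx Δ x) (i : ι), c δ i ∈ Cx T x i := by
    intro δ i
    have hd := h.defect hω (hfix δ)
    have h1 := h.eq_one_of_fix (i := i₀) (by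
      rw [Pi.mul_apply, Pi.inv_apply, hc1, inv_one, one_mul]
      apply Subtype.ext
      rw [hψ, hc1, coe_one, mul_one, mul_inv_cancel]) hd
    have h2 : h.ψ x (c δ) = c δ := (inv_mul_eq_one.1 h1).symm
    have h3 : x * c δ i * x⁻¹ = c δ i := by rw [← hψ, h2]
    rw [mem_Cx]
    exact (mul_inv_eq_iff_eq_mul.1 h3).symm
  let f : Fx Δ x → (∀ s : (Finset.univ.erase i₀ : Finset ι), Cx T x s) := fun δ s => ⟨c δ s, hcc δ s⟩
  have hf : Function.Injective f := by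
    intro δ ε hδε
    apply Subtype.ext
    rw [← hc2 δ, ← hc2 ε]
    congr 2
    funext i
    by_cases hi : i = i₀
    · subst hi
      rw [hc1, hc1]
    · exact congrArg Subtype.val (congrFun hδε ⟨i, Finset.mem_erase.2 ⟨hi, Finset.mem_univ i⟩⟩)
  have h4 := Nat.card_le_card_of_injective f hf
  rw [Nat.card_pi, Finset.prod_coe_sort (Finset.univ.erase i₀) (fun s => Nat.card (Cx T x s))] at h4
  have h5 : Nat.card Δ = ∏ j ∈ Finset.univ.erase i₀, Nat.card (T j) := by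
    have h6 := h.card_mul i₀
    rw [← Finset.mul_prod_erase Finset.univ (fun j => Nat.card (T j)) (Finset.mem_univ i₀)] at h6
    exact Nat.eq_of_mul_eq_mul_left Nat.card_pos h6
  rw [h5, Finset.prod_congr rfl fun j _ => ((Cx T x j).card_mul_index).symm, Finset.prod_mul_distrib]
  exact Nat.mul_le_mul_right _ h4

/-- an element with a fixed point centralises no factor -/
theorem not_cent [FaithfulSMul L Δ] {x : L} {ω : Δ} (hω : x • ω = ω) (hx : x ≠ 1) (hσ : h.σ x = 1) (j : ι) :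
    ¬ ∀ s ∈ T j, x * s = s * x := by
  intro hj
  have hψ : ∀ (m : ∀ i, T i) (i : ι), ((h.ψ x m i : T i) : L) = x * m i * x⁻¹ := by
    intro m i
    rw [h.ψ_apply, hσ]; rfl
  -- `x` centralises the stabiliser
  have hK : ∀ k : ∀ i, T i, h.φ k • ω = ω → h.ψ x k = k := by
    intro k hk
    refine h.eq_of_fix (i := j) ?_ (h.ψ_fix hω hk) hk
    apply Subtype.ext
    rw [hψ, hj _ (k j).2]; group
  apply hx
  apply FaithfulSMul.eq_of_smul_eq_smul (α := Δ)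
  intro δ
  obtain ⟨m, -, rfl⟩ := h.exists_coord j ω δ
  rw [one_smul, h.smul_φ hω]
  congr 2
  -- all elements of the factors commute with `x`
  funext i
  apply Subtype.ext
  rw [hψ]
  obtain ⟨m', hm1, hm2⟩ := h.exists_coord i ω (h.φ (Pi.mulSingle i (m i)) • ω)
  have h1 : h.φ (m'⁻¹ * Pi.mulSingle i (m i)) • ω = ω := by
    rw [map_mul, map_inv, mul_smul, ← hm2, inv_smul_smul]
  have h2 := congrArg (fun k : ∀ i, T i => (k i : L)) (hK _ h1)
  simp only [hψ] at h2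
  rw [Pi.mul_apply, Pi.inv_apply, hm1, Pi.mulSingle_eq_same, inv_one, one_mul] at h2
  exact h2

theorem not_comm (j : ι) : ¬ IsMulCommutative (T j) := by
  intro hc
  obtain ⟨a, b, hab⟩ := h.hna j
  exact hab (hc.is_comm.comm a b)

/-- the index of the centralizer -/
theorem five_le [FaithfulSMul L Δ] {x : L} {ω : Δ} (hω : x • ω = ω) (hx : x ≠ 1) (hσ : h.σ x = 1) (j : ι) :
    5 ≤ (Cx T x j).index := by
  haveI := h.hs j
  refine Cfsg.Agent.SmallSimple.Embed.five_le_index (h.not_comm j) _ fun hT => h.not_cent hω hx hσ j fun s hs => ?_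
  have : (⟨s, hs⟩ : T j) ∈ Cx T x j := by rw [hT]; exact mem_top _
  exact (mem_Cx.1 this).symm

/-- the class lemma in the block -/
theorem succ_le [FaithfulSMul L Δ] {x a : L} {ω ω' : Δ} (hω : x • ω = ω) (hx : x ≠ 1) (hσ : h.σ x = 1)
    (hω' : a • ω' = ω') (ha : a ≠ 1) (hσ' : h.σ a = 1) (hax : a * x = x * a) {p : ℕ} (hp : p.Prime) (hxp : x ^ p = 1)
    (j : ι) : p + 1 ≤ (Cx T a j).index := by
  haveI := h.hs j
  refine class_lemma hp hxp ?_ hax (h.not_cent hω hx hσ j) (h.not_cent hω' ha hσ' j)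
  intro s hs
  have h1 := h.conj_mem x hs
  rwa [hσ] at h1

/-- the swap of two factors -/
theorem card_fix_swap {x : L} {ω : Δ} (hω : x • ω = ω) {i₀ : ι} (h0 : h.σ x i₀ ≠ i₀) (h2 : Fintype.card ι = 2) :
    5 * Nat.card (Fx Δ x) ≤ 3 * Nat.card Δ := by
  classical
  set i₁ := h.σ x i₀ with hi₁
  have hcov : ∀ i, i = i₀ ∨ i = i₁ := by
    intro i
    by_contra hno
    push Not at hno
    have h3 : ({i, i₀, i₁} : Finset ι).card = 3 := by
      rw [Finset.card_eq_three]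
      exact ⟨i, i₀, i₁, hno.1, hno.2, Ne.symm h0, rfl⟩
    have h4 := Finset.card_le_univ ({i, i₀, i₁} : Finset ι)
    omega
  have h10 : h.σ x i₁ = i₀ := by
    rcases hcov (h.σ x i₁) with h3 | h3
    · exact h3
    · exact absurd ((h.σ x).injective (h3.trans hi₁)) h0
  let A : Set (T i₁) := {u | ∃ k : ∀ i, T i, h.φ k • ω = ω ∧ (k i₁ : L) = (u : L)⁻¹ ∧ (k i₀ : L) = x * u * x⁻¹}
  have hA : ∀ s ∈ A, ∀ t ∈ A, s * t ∈ A → s * t = t * s := by
    rintro s ⟨k, hk, hk1, hk0⟩ t ⟨l, hl, hl1, hl0⟩ ⟨n, hn, hn1, hn0⟩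
    have h3 : k * l = n := by
      refine h.eq_of_fix (i := i₀) ?_ (by rw [map_mul, mul_smul, hl, hk]) hn
      apply Subtype.ext
      rw [Pi.mul_apply, coe_mul, hk0, hl0, hn0, coe_mul]
      group
    have h4 : ((k * l) i₁ : L) = (n i₁ : L) := by rw [h3]
    rw [Pi.mul_apply, coe_mul, hk1, hl1, hn1, coe_mul, mul_inv_rev] at h4
    apply Subtype.ext
    rw [coe_mul, coe_mul]
    have h5 := congrArg (fun z : L => z⁻¹) h4
    simp only [mul_inv_rev, inv_inv] at h5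
    exact h5.symm
  haveI := h.hs i₁
  have hT := h.card_mul i₀
  have h3 : Nat.card Δ = Nat.card (T i₁) := by
    have h4 := h.card_pow i₀
    rw [h2, pow_two] at h4
    rw [Nat.eq_of_mul_eq_mul_left Nat.card_pos h4, h.card_eq i₀ i₁]
  have h5 : 5 * Nat.card A ≤ 3 * Nat.card (T i₁) := by
    refine three_fifths A hA ?_ ?_
    · haveI : Nontrivial (T i₁) := IsSimpleGroup.toNontrivial
      exact Finite.one_lt_card
    · intro s hs
      rw [← (centralizer ({s} : Set (T i₁))).card_mul_index, mul_comm]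
      refine Nat.mul_le_mul_left _ ?_
      refine Cfsg.Agent.SmallSimple.Embed.five_le_index (h.not_comm i₁) _ fun hT => hs ?_
      apply Subtype.ext
      refine h.center_T s.2 fun b hb => ?_
      have h6 : (⟨b, hb⟩ : T i₁) ∈ centralizer ({s} : Set (T i₁)) := by rw [hT]; exact mem_top _
      rw [mem_centralizer_singleton_iff] at h6
      exact (congrArg Subtype.val h6).symm
  rw [h3]
  refine le_trans (Nat.mul_le_mul_left 5 ?_) h5
  have hex : ∀ δ : Fx Δ x, ∃ m : ∀ i, T i, m i₀ = 1 ∧ h.φ m • ω = δ := fun δ => h.exists_coord i₀ ω δ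
  choose c hc1 hc2 using hex
  have hfix : ∀ δ : Fx Δ x, x • h.φ (c δ) • ω = h.φ (c δ) • ω := fun δ => by rw [hc2]; exact δ.2
  let f : Fx Δ x → A := fun δ => ⟨c δ i₁, (c δ)⁻¹ * h.ψ x (c δ), h.defect hω (hfix δ), by
    rw [Pi.mul_apply, coe_mul, Pi.inv_apply, coe_inv, h.ψ_σ, hc1, coe_one, mul_one, mul_inv_cancel, mul_one], by
    have h6 : ((h.ψ x (c δ) i₀ : T i₀) : L) = x * c δ i₁ * x⁻¹ := by
      have h7 := h.ψ_σ x (c δ) i₁
      have h8 : ((h.ψ x (c δ) (h.σ x i₁) : T (h.σ x i₁)) : L) = ((h.ψ x (c δ) i₀ : T i₀) : L) := by rw [h10]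
      rw [← h8, h7]
    rw [Pi.mul_apply, coe_mul, Pi.inv_apply, coe_inv, hc1, h6, coe_one, inv_one, one_mul]⟩
  refine Nat.card_le_card_of_injective f ?_
  intro δ ε hδε
  apply Subtype.ext
  rw [← hc2 δ, ← hc2 ε]
  congr 2
  funext i
  rcases hcov i with rfl | rfl
  · rw [hc1, hc1]
  · exact congrArg Subtype.val hδε

end DB

end Cfsg.Agent.H344.RR
end

-- part: H344/RR/Diag
section
/-!
# S3509, the diagonal block (helper344): every element has a regular point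
-/

set_option autoImplicit false
set_option linter.unusedSectionVars false
set_option linter.style.haveILetI false

namespace Cfsg.Agent.H344.RR

open Subgroup

universe u v w

/-! ### arithmetic -/

theorem odd_primes {A : Finset ℕ} {M : ℕ} (hM : 5 ≤ M) (hA : ∀ p ∈ A, p.Prime ∧ p ≠ 2 ∧ p < M) :
    5 * A.card < 2 * M := by
  classical
  by_cases h10 : M ≤ 10
  · have h1 : A ⊆ (Finset.range M).filter (fun p => p = 3 ∨ p = 5 ∨ p = 7) := by
      intro p hp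
      obtain ⟨h2, h3, h4⟩ := hA p hp
      rw [Finset.mem_filter, Finset.mem_range]
      refine ⟨h4, ?_⟩
      have h5 : p < 10 := by omega
      interval_cases p <;> first | omega | (exfalso; revert h2; decide)
    have h2 := Finset.card_le_card h1
    interval_cases M
    · have : ((Finset.range 5).filter (fun p => p = 3 ∨ p = 5 ∨ p = 7)).card = 1 := by decide
      omega
    · have : ((Finset.range 6).filter (fun p => p = 3 ∨ p = 5 ∨ p = 7)).card = 2 := by decide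
      omega
    · have : ((Finset.range 7).filter (fun p => p = 3 ∨ p = 5 ∨ p = 7)).card = 2 := by decide
      omega
    · have : ((Finset.range 8).filter (fun p => p = 3 ∨ p = 5 ∨ p = 7)).card = 3 := by decide
      omega
    · have : ((Finset.range 9).filter (fun p => p = 3 ∨ p = 5 ∨ p = 7)).card = 3 := by decide
      omega
    · have : ((Finset.range 10).filter (fun p => p = 3 ∨ p = 5 ∨ p = 7)).card = 3 := by decide
      omega
  · have h1 : (A.erase 3).card ≤ ((Finset.Icc 1 ((M - 1) / 3))).card := by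
      refine Finset.card_le_card_of_injOn (fun p => p / 3) ?_ ?_
      · intro p hp
        have hp := Finset.mem_coe.1 hp
        rw [Finset.mem_erase] at hp
        obtain ⟨h2, h3, h4⟩ := hA p hp.2
        have h5 := h2.two_le
        show p / 3 ∈ (Finset.Icc 1 ((M - 1) / 3) : Set ℕ)
        rw [Finset.coe_Icc, Set.mem_Icc]
        have := hp.1
        omega
      · have key : ∀ p : ℕ, p.Prime → p ≠ 2 → p ≠ 3 → p % 2 = 1 ∧ p % 3 ≠ 0 := by
          intro p hp h2 h3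
          refine ⟨?_, ?_⟩
          · rcases hp.eq_two_or_odd with h | h
            · exact absurd h h2
            · exact h
          · intro h
            have := (Nat.prime_dvd_prime_iff_eq Nat.prime_three hp).1 (Nat.dvd_of_mod_eq_zero h)
            exact h3 this.symm
        intro p hp q hq hpq
        have hp := Finset.mem_erase.1 (Finset.mem_coe.1 hp)
        have hq := Finset.mem_erase.1 (Finset.mem_coe.1 hq)
        have h1 := key p (hA p hp.2).1 (hA p hp.2).2.1 hp.1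
        have h2 := key q (hA q hq.2).1 (hA q hq.2).2.1 hq.1
        have hpq : p / 3 = q / 3 := hpq
        omega
    rw [Nat.card_Icc] at h1
    have h3 : A.card ≤ (A.erase 3).card + 1 := by
      have := Finset.pred_card_le_card_erase (s := A) (a := 3)
      omega
    omega

theorem geom_two (B : Finset ℕ) (hB : ∀ p ∈ B, 2 ≤ p) : ∑ p ∈ B, (1 / 2 : ℚ) ^ p ≤ 1 / 2 := by
  have h1 : ∀ n : ℕ, ∑ i ∈ Finset.range n, (1 / 2 : ℚ) ^ (i + 2) = 1 / 2 - (1 / 2) ^ (n + 1) := by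
    intro n
    induction n with
    | zero => simp
    | succ n ih => rw [Finset.sum_range_succ, ih]; ring
  obtain ⟨N, hN⟩ : ∃ N, ∀ p ∈ B, p < N := ⟨B.sup id + 1, fun p hp => Nat.lt_succ_of_le (Finset.le_sup (f := id) hp)⟩
  have h2 : ∑ p ∈ B, (1 / 2 : ℚ) ^ p ≤ ∑ p ∈ (Finset.range N).image (· + 2), (1 / 2 : ℚ) ^ p := by
    refine Finset.sum_le_sum_of_subset_of_nonneg ?_ fun _ _ _ => by positivity
    intro p hp
    rw [Finset.mem_image]
    have := hB p hp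
    have := hN p hp
    exact ⟨p - 2, Finset.mem_range.2 (by omega), by omega⟩
  rw [Finset.sum_image (by intro a _ b _ hab; exact Nat.add_right_cancel hab), h1] at h2
  have h3 : (0 : ℚ) ≤ (1 / 2) ^ (N + 1) := by positivity
  linarith

/-- the point is fixed by an element of prime order -/
theorem exists_prime_fix {L : Type u} {Δ : Type v} [Group L] [Finite L] [MulAction L Δ] {g : L} {δ : Δ} {k : ℤ}
    (hk : g ^ k • δ = δ) (hk1 : g ^ k ≠ 1) :
    ∃ p ∈ (orderOf g).primeFactors, g ^ (orderOf g / p) • δ = δ := by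
  set n := orderOf g with hn
  have hn0 : 0 < n := orderOf_pos g
  set d := Int.gcd k n with hd
  have hKd : g ^ d ∈ MulAction.stabilizer L δ := by
    have h1 : g ^ k ∈ MulAction.stabilizer L δ := hk
    have h2 : g ^ (n : ℤ) ∈ MulAction.stabilizer L δ := by
      rw [zpow_natCast, hn, pow_orderOf_eq_one]; exact one_mem _
    have h3 : g ^ (d : ℤ) = (g ^ k) ^ (Int.gcdA k n) * (g ^ (n : ℤ)) ^ (Int.gcdB k n) := by
      rw [← zpow_mul, ← zpow_mul, ← zpow_add, hd, Int.gcd_eq_gcd_ab]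
    rw [← zpow_natCast, h3]
    exact mul_mem (zpow_mem h1 _) (zpow_mem h2 _)
  have hdn : d ∣ n := by
    have := Int.gcd_dvd_right k (n : ℤ)
    exact_mod_cast this
  have hdne : d ≠ n := by
    intro e
    apply hk1
    have h1 : (d : ℤ) ∣ k := Int.gcd_dvd_left k n
    rw [e] at h1
    exact orderOf_dvd_iff_zpow_eq_one.1 (by rw [← hn]; exact h1)
  obtain ⟨m, hm⟩ := hdn
  have hm1 : m ≠ 1 := by
    rintro rfl
    exact hdne (by rw [hm, mul_one])
  have hm0 : m ≠ 0 := by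
    rintro rfl
    rw [mul_zero] at hm
    omega
  have hp := Nat.minFac_prime hm1
  obtain ⟨m', hm'⟩ := Nat.minFac_dvd m
  set p := m.minFac with hpd
  have h4 : n = p * (d * m') := by
    rw [hm]
    conv_lhs => rw [hm']
    ring
  refine ⟨p, Nat.mem_primeFactors.2 ⟨hp, ⟨_, h4⟩, hn0.ne'⟩, ?_⟩
  have h5 : n / p = d * m' := by
    rw [h4]
    exact Nat.mul_div_cancel_left _ hp.pos
  rw [h5, pow_mul]
  exact pow_mem hKd m'

variable {L : Type u} {Δ : Type v} {ι : Type w} [Group L] [MulAction L Δ] [Fintype ι] [DecidableEq ι]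
variable {T : ι → Subgroup L}

namespace DB

variable (h : DB Δ T) [Finite L] [Finite Δ] [Nonempty Δ]
include h

theorem ten_le (i : ι) : 10 ≤ Nat.card (T i) := by
  haveI := h.hs i
  haveI : Nontrivial (T i) := IsSimpleGroup.toNontrivial
  obtain ⟨s, hs⟩ := exists_ne (1 : T i)
  have h5 : 5 ≤ (centralizer ({s} : Set (T i))).index := by
    refine Cfsg.Agent.SmallSimple.Embed.five_le_index (h.not_comm i) _ fun hT => hs ?_
    apply Subtype.ext
    refine h.center_T s.2 fun b hb => ?_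
    have h6 : (⟨b, hb⟩ : T i) ∈ centralizer ({s} : Set (T i)) := by rw [hT]; exact mem_top _
    rw [mem_centralizer_singleton_iff] at h6
    exact (congrArg Subtype.val h6).symm
  have h2 : 2 ≤ Nat.card (centralizer ({s} : Set (T i))) := by
    haveI : Nontrivial (centralizer ({s} : Set (T i))) :=
      ⟨⟨⟨s, mem_centralizer_singleton_iff.2 rfl⟩, 1, fun e => hs (congrArg Subtype.val e)⟩⟩
    exact Finite.one_lt_card
  rw [← (centralizer ({s} : Set (T i))).card_mul_index]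
  calc 10 = 2 * 5 := by norm_num
    _ ≤ _ := Nat.mul_le_mul h2 h5

/-- the common bound -/
theorem exists_M [FaithfulSMul L Δ] {A : Finset ℕ} {X : ℕ → L}
    (hX : ∀ p ∈ A, p.Prime ∧ X p ^ p = 1 ∧ X p ≠ 1 ∧ h.σ (X p) = 1 ∧ ∃ ω : Δ, X p • ω = ω)
    (hc : ∀ p q, X p * X q = X q * X p) (j : ι) :
    ∃ M, 5 ≤ M ∧ ∀ p ∈ A, p < M ∧ M ≤ (Cx T (X p) j).index := by
  rcases A.eq_empty_or_nonempty with rfl | hA
  · exact ⟨5, le_rfl, fun p hp => absurd hp (Finset.notMem_empty p)⟩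
  · obtain ⟨q, hq, hmin⟩ := Finset.exists_min_image A (fun p => (Cx T (X p) j).index) hA
    obtain ⟨hq1, hq2, hq3, hq4, ω, hω⟩ := hX q hq
    refine ⟨(Cx T (X q) j).index, h.five_le hω hq3 hq4 j, fun p hp => ⟨?_, hmin p hp⟩⟩
    obtain ⟨hp1, hp2, hp3, hp4, ω', hω'⟩ := hX p hp
    exact h.succ_le hω' hp3 hp4 hω hq3 hq4 (hc q p) hp1 hp2 j

/-- the elements moving a factor, at least three factors -/
theorem moved_le {x : L} {ω : Δ} (hω : x • ω = ω) {p : ℕ} (hp : p.Prime) (hx : x ^ p = 1) (hσ : h.σ x ≠ 1)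
    (hl : 3 ≤ Fintype.card ι) : Nat.card (Fx Δ x) * 2 ^ p ≤ Nat.card Δ := by
  obtain ⟨i, hi⟩ : ∃ i, h.σ x i ≠ i := by
    by_contra hno
    push Not at hno
    exact hσ (Equiv.ext hno)
  have h10 := h.ten_le i
  rcases hp.eq_two_or_odd with rfl | hodd
  · have h1 := h.card_fix_two hω hx hσ hl i
    refine le_trans (Nat.mul_le_mul_left _ ?_) h1
    omega
  · have h1 := (h.card_fix_moved hω hp hx hi).1
    have hp3 : 3 ≤ p := by
      have := hp.two_le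
      omega
    obtain ⟨k, rfl⟩ := Nat.exists_eq_add_of_le hp3
    have h2 : Nat.card (T i) ^ (3 + k - 1) = Nat.card (T i) * Nat.card (T i) ^ (k + 1) := by
      rw [show 3 + k - 1 = (k + 1) + 1 by omega, pow_succ (Nat.card (T i)) (k + 1)]; ring
    rw [h2] at h1
    have h3 : Nat.card (Fx Δ x) * Nat.card (T i) ^ (k + 1) ≤ Nat.card Δ := by
      have h4 : Nat.card (T i) * (Nat.card (Fx Δ x) * Nat.card (T i) ^ (k + 1)) ≤ Nat.card (T i) * Nat.card Δ := by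
        calc _ = Nat.card (Fx Δ x) * (Nat.card (T i) * Nat.card (T i) ^ (k + 1)) := by ring
          _ ≤ _ := h1
      exact Nat.le_of_mul_le_mul_left h4 (Nat.card_pos (α := T i))
    refine le_trans (Nat.mul_le_mul_left _ ?_) h3
    calc 2 ^ (3 + k) = 8 * 2 ^ k := by ring
      _ ≤ Nat.card (T i) * Nat.card (T i) ^ k := Nat.mul_le_mul (by omega) (Nat.pow_le_pow_left (by omega) k)
      _ = _ := by ring

/-- **every element has a regular point** -/
theorem main [FaithfulSMul L Δ] (hι : 2 ≤ Fintype.card ι) (g : L) :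
    ∃ x : Δ, ∀ k : ℤ, g ^ k • x = x → g ^ k = 1 := by
  classical
  by_contra hno
  push Not at hno
  haveI := Fintype.ofFinite Δ
  set n := orderOf g with hn
  have hn0 : 0 < n := orderOf_pos g
  let X : ℕ → L := fun p => g ^ (n / p)
  have hX1 : ∀ p ∈ n.primeFactors, X p ^ p = 1 := by
    intro p hp
    show (g ^ (n / p)) ^ p = 1
    rw [← pow_mul, Nat.div_mul_cancel (Nat.dvd_of_mem_primeFactors hp), hn, pow_orderOf_eq_one]
  have hX2 : ∀ p ∈ n.primeFactors, X p ≠ 1 := by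
    intro p hp e
    have h1 : n ∣ n / p := orderOf_dvd_of_pow_eq_one e
    have h2 := (Nat.prime_of_mem_primeFactors hp).two_le
    have h3 : n / p < n := Nat.div_lt_self hn0 h2
    have h4 : 0 < n / p := Nat.div_pos (Nat.le_of_dvd hn0 (Nat.dvd_of_mem_primeFactors hp)) (by omega)
    exact absurd (Nat.le_of_dvd h4 h1) (by omega)
  have hXc : ∀ p q, X p * X q = X q * X p := fun p q => by
    show g ^ (n / p) * g ^ (n / q) = g ^ (n / q) * g ^ (n / p)
    rw [← pow_add, ← pow_add, add_comm]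
  set P := n.primeFactors.filter (fun p => ∃ ω : Δ, X p • ω = ω) with hP
  have hcov : ∀ δ : Δ, ∃ p ∈ P, X p • δ = δ := by
    intro δ
    obtain ⟨k, hk, hk1⟩ := hno δ
    obtain ⟨p, hp, hpδ⟩ := exists_prime_fix hk hk1
    exact ⟨p, Finset.mem_filter.2 ⟨hp, δ, hpδ⟩, hpδ⟩
  have hsum : Nat.card Δ ≤ ∑ p ∈ P, Nat.card (Fx Δ (X p)) := by
    have h1 : (Finset.univ : Finset Δ) ⊆ P.biUnion fun p => (Fx Δ (X p)).toFinset := by
      intro δ _
      obtain ⟨p, hp, hδ⟩ := hcov δ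
      rw [Finset.mem_biUnion]
      exact ⟨p, hp, Set.mem_toFinset.2 hδ⟩
    have h2 := (Finset.card_le_card h1).trans Finset.card_biUnion_le
    rw [Finset.card_univ, ← Nat.card_eq_fintype_card] at h2
    refine h2.trans (le_of_eq (Finset.sum_congr rfl fun p _ => ?_))
    rw [Set.toFinset_card, Nat.card_eq_fintype_card]
  set A := P.filter (fun p => h.σ (X p) = 1) with hA
  set B := P.filter (fun p => ¬ h.σ (X p) = 1) with hB
  have hsplit : ∑ p ∈ P, Nat.card (Fx Δ (X p)) =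
      ∑ p ∈ A, Nat.card (Fx Δ (X p)) + ∑ p ∈ B, Nat.card (Fx Δ (X p)) :=
    (Finset.sum_filter_add_sum_filter_not P _ _).symm
  have hPp : ∀ p ∈ P, p ∈ n.primeFactors ∧ ∃ ω : Δ, X p • ω = ω := fun p hp => Finset.mem_filter.1 hp
  have hAX : ∀ p ∈ A, p.Prime ∧ X p ^ p = 1 ∧ X p ≠ 1 ∧ h.σ (X p) = 1 ∧ ∃ ω : Δ, X p • ω = ω := by
    intro p hp
    have h1 := Finset.mem_filter.1 hp
    have h2 := hPp p h1.1
    exact ⟨Nat.prime_of_mem_primeFactors h2.1, hX1 p h2.1, hX2 p h2.1, h1.2, h2.2⟩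
  have hBX : ∀ p ∈ B, p.Prime ∧ X p ^ p = 1 ∧ h.σ (X p) ≠ 1 ∧ ∃ ω : Δ, X p • ω = ω := by
    intro p hp
    have h1 := Finset.mem_filter.1 hp
    have h2 := hPp p h1.1
    exact ⟨Nat.prime_of_mem_primeFactors h2.1, hX1 p h2.1, h1.2, h2.2⟩
  obtain ⟨i₀, j, hij⟩ : ∃ i₀ j : ι, i₀ ≠ j := by
    haveI : Nontrivial ι := Fintype.one_lt_card_iff_nontrivial.1 (by omega)
    exact exists_pair_ne ι
  obtain ⟨M, hM5, hM⟩ := h.exists_M hAX hXc j
  have hAM : A.card < M := by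
    have h1 : A ⊆ (Finset.range M).erase 0 := by
      intro p hp
      rw [Finset.mem_erase, Finset.mem_range]
      exact ⟨(hAX p hp).1.ne_zero, (hM p hp).1⟩
    have h2 := Finset.card_le_card h1
    rw [Finset.card_erase_of_mem (Finset.mem_range.2 (by omega)), Finset.card_range] at h2
    omega
  have hΔ : 0 < Nat.card Δ := Nat.card_pos
  have hpos : ∀ p ∈ A, ∀ i, 1 ≤ (Cx T (X p) i).index := fun p _ i =>
    Nat.one_le_iff_ne_zero.2 (Subgroup.index_ne_zero_of_finite)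
  rcases Nat.lt_or_ge (Fintype.card ι) 3 with hl | hl
  · -- two factors
    have hl2 : Fintype.card ι = 2 := by omega
    have hAF : ∀ p ∈ A, Nat.card (Fx Δ (X p)) * M ≤ Nat.card Δ := by
      intro p hp
      obtain ⟨h1, h2, h3, h4, ω, hω⟩ := hAX p hp
      refine le_trans (Nat.mul_le_mul_left _ ?_) (h.card_fix_id hω h4 i₀)
      rw [← Finset.mul_prod_erase _ _ (Finset.mem_erase.2 ⟨hij.symm, Finset.mem_univ j⟩)]
      calc M = M * 1 := (mul_one M).symm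
        _ ≤ _ := Nat.mul_le_mul (hM p hp).2 (Finset.one_le_prod' fun i _ => hpos p hp i)
    have hSA : (∑ p ∈ A, Nat.card (Fx Δ (X p))) * M ≤ A.card * Nat.card Δ := by
      rw [Finset.sum_mul, ← smul_eq_mul (A.card), ← Finset.sum_const]
      exact Finset.sum_le_sum hAF
    have hB2 : ∀ p ∈ B, p = 2 ∧ 5 * Nat.card (Fx Δ (X p)) ≤ 3 * Nat.card Δ := by
      intro p hp
      obtain ⟨h1, h2, h3, ω, hω⟩ := hBX p hp
      obtain ⟨i, hi⟩ : ∃ i, h.σ (X p) i ≠ i := by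
        by_contra hno'
        push Not at hno'
        exact h3 (Equiv.ext hno')
      have h4 := (h.card_fix_moved hω h1 h2 hi).2
      have h5 := h1.two_le
      exact ⟨by omega, h.card_fix_swap hω hi hl2⟩
    rcases B.eq_empty_or_nonempty with hBe | ⟨q, hq⟩
    · rw [hsplit, hBe, Finset.sum_empty, add_zero] at hsum
      have h1 : Nat.card Δ * M ≤ A.card * Nat.card Δ := (Nat.mul_le_mul_right M hsum).trans hSA
      rw [mul_comm] at h1
      exact absurd (Nat.le_of_mul_le_mul_right h1 hΔ) (by omega)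
    · have hq2 := hB2 q hq
      have hBq : B = {q} := by
        ext p
        rw [Finset.mem_singleton]
        refine ⟨fun hp => ?_, fun e => e ▸ hq⟩
        rw [(hB2 p hp).1, hq2.1]
      rw [hsplit, hBq, Finset.sum_singleton] at hsum
      have h5 : 5 * A.card < 2 * M := by
        refine odd_primes hM5 fun p hp => ⟨(hAX p hp).1, ?_, (hM p hp).1⟩
        intro e
        have h6 : p ∈ B := by rw [e, ← hq2.1]; exact hq
        exact (hBX p h6).2.2.1 (hAX p hp).2.2.2.1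
      -- 5 M |Δ| ≤ 5 M ΣA + 5 M F ≤ 5 |A| |Δ| + 3 M |Δ| < 5 M |Δ|
      set a := ∑ p ∈ A, Nat.card (Fx Δ (X p)) with ha
      set f := Nat.card (Fx Δ (X q)) with hf
      set D := Nat.card Δ with hD
      have h7 : 5 * M * D ≤ 5 * (a * M) + M * (5 * f) := by
        calc 5 * M * D ≤ 5 * M * (a + f) := Nat.mul_le_mul_left _ hsum
          _ = _ := by ring
      have h8 : 5 * M * D ≤ 5 * (A.card * D) + M * (3 * D) :=
        h7.trans (Nat.add_le_add (Nat.mul_le_mul_left 5 hSA) (Nat.mul_le_mul_left M hq2.2))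
      have h9 : (5 * M) * D ≤ (5 * A.card + 3 * M) * D := by
        calc _ ≤ _ := h8
          _ = _ := by ring
      exact absurd (Nat.le_of_mul_le_mul_right h9 hΔ) (by omega)
  · -- at least three factors
    obtain ⟨j', hj'⟩ : ∃ j', j' ∉ ({i₀, j} : Finset ι) := by
      by_contra hno'
      push Not at hno'
      have h2 : Fintype.card ι ≤ ({i₀, j} : Finset ι).card := by
        rw [← Finset.card_univ]
        exact Finset.card_le_card fun i _ => hno' i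
      have h3 := Finset.card_le_two (a := i₀) (b := j)
      omega
    rw [Finset.mem_insert, Finset.mem_singleton, not_or] at hj'
    have hAF : ∀ p ∈ A, Nat.card (Fx Δ (X p)) * (5 * M) ≤ Nat.card Δ := by
      intro p hp
      obtain ⟨h1, h2, h3, h4, ω, hω⟩ := hAX p hp
      refine le_trans (Nat.mul_le_mul_left _ ?_) (h.card_fix_id hω h4 i₀)
      rw [← Finset.mul_prod_erase _ _ (Finset.mem_erase.2 ⟨hij.symm, Finset.mem_univ j⟩),
        ← Finset.mul_prod_erase _ _ (Finset.mem_erase.2 ⟨hj'.2, Finset.mem_erase.2 ⟨hj'.1, Finset.mem_univ j'⟩⟩)]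
      calc 5 * M = M * (5 * 1) := by ring
        _ ≤ _ := Nat.mul_le_mul (hM p hp).2 (Nat.mul_le_mul (h.five_le hω h3 h4 j')
          (Finset.one_le_prod' fun i _ => hpos p hp i))
    have hSA : (∑ p ∈ A, Nat.card (Fx Δ (X p))) * (5 * M) ≤ A.card * Nat.card Δ := by
      rw [Finset.sum_mul, ← smul_eq_mul (A.card), ← Finset.sum_const]
      exact Finset.sum_le_sum hAF
    have hSA' : 5 * ∑ p ∈ A, Nat.card (Fx Δ (X p)) ≤ Nat.card Δ := by
      have hM0 : 0 < M := by omega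
      have h1 : (5 * ∑ p ∈ A, Nat.card (Fx Δ (X p))) * M ≤ Nat.card Δ * M := by
        calc _ = (∑ p ∈ A, Nat.card (Fx Δ (X p))) * (5 * M) := by ring
          _ ≤ A.card * Nat.card Δ := hSA
          _ ≤ M * Nat.card Δ := Nat.mul_le_mul_right _ hAM.le
          _ = _ := by ring
      exact Nat.le_of_mul_le_mul_right h1 hM0
    have hSB : 2 * ∑ p ∈ B, Nat.card (Fx Δ (X p)) ≤ Nat.card Δ := by
      have h1 : ∀ p ∈ B, (Nat.card (Fx Δ (X p)) : ℚ) ≤ (1 / 2) ^ p * Nat.card Δ := by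
        intro p hp
        obtain ⟨h1, h2, h3, ω, hω⟩ := hBX p hp
        have h4 := h.moved_le hω h1 h2 h3 hl
        have h5 : (Nat.card (Fx Δ (X p)) : ℚ) * 2 ^ p ≤ Nat.card Δ := by exact_mod_cast h4
        rw [one_div, inv_pow, ← div_eq_inv_mul, le_div_iff₀ (by positivity)]
        exact h5
      have h2 : ((∑ p ∈ B, Nat.card (Fx Δ (X p)) : ℕ) : ℚ) ≤ 1 / 2 * Nat.card Δ := by
        rw [Nat.cast_sum]
        calc _ ≤ ∑ p ∈ B, (1 / 2 : ℚ) ^ p * Nat.card Δ := Finset.sum_le_sum h1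
          _ = (∑ p ∈ B, (1 / 2 : ℚ) ^ p) * Nat.card Δ := by rw [Finset.sum_mul]
          _ ≤ _ := mul_le_mul_of_nonneg_right (geom_two B fun p hp => (hBX p hp).1.two_le) (by positivity)
      have h3 : (2 : ℚ) * ((∑ p ∈ B, Nat.card (Fx Δ (X p)) : ℕ) : ℚ) ≤ Nat.card Δ := by linarith
      exact_mod_cast h3
    rw [hsplit] at hsum
    omega

end DB

/-- **S3509, box B3**: the diagonal block -/
theorem diag_reg {L Δ : Type*} [Group L] [Finite L] [MulAction L Δ] [FaithfulSMul L Δ] [Finite Δ] [Nonempty Δ]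
    {ι : Type*} [Fintype ι] [DecidableEq ι] (hι : 2 ≤ Fintype.card ι) (T : ι → Subgroup L)
    (hs : ∀ i, IsSimpleGroup (T i)) (hna : ∀ i, ∃ a b : T i, a * b ≠ b * a) (hinj : Function.Injective T)
    (hcomm : ∀ i j, i ≠ j → ∀ a ∈ T i, ∀ b ∈ T j, Commute a b)
    (hconj : ∀ (x : L) (i : ι), ∃ j, T j = (T i).map (MulAut.conj x).toMonoidHom)
    (htr : ∀ (i : ι) (x y : Δ), ∃ t ∈ (⨆ j : {j // j ≠ i}, T j), t • x = y)
    (hreg : ∀ i : ι, ∀ t ∈ (⨆ j : {j // j ≠ i}, T j), ∀ x : Δ, t • x = x → t = 1) (g : L) :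
    ∃ x : Δ, ∀ k : ℤ, g ^ k • x = x → g ^ k = 1 :=
  DB.main (T := T) ⟨hs, hna, hinj, hcomm, hconj, htr, hreg⟩ hι g

end Cfsg.Agent.H344.RR
end

-- part: H660/RR/Done
section
/-!
# S3509: the reduction to almost simple groups (helper660)

* `diagReg` (helper344), `exDec`;
* `s3509_of` : **`S3509` from `RC` for the simple groups which are not alternating and the alternating row.**
-/

set_option autoImplicit false

namespace Cfsg.Agent.H660.RR

open Subgroup MulAction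

theorem diagReg : DiagReg := by
  intro L Δ _ _ _ _ _ _ ι _ _ hι T hs hna hinj hcomm hconj htr hreg g
  exact H344.RR.diag_reg hι T hs hna hinj hcomm hconj htr hreg g

/-- **`S3509` from the almost simple groups** -/
theorem s3509_of (hRC : ∀ (S : Type) [Group S] [Finite S], H873.RG.NSA S → H106.RC.RC S)
    (hAlt : ASRow (fun T _ => ∃ n, 5 ≤ n ∧ Nonempty (T ≃* alternatingGroup (Fin n))))
    {G : Type*} [Group G] [Finite G] {Ω : Type*} [Fintype Ω] [MulAction G Ω] [FaithfulSMul G Ω]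
    (hprim : MulAction.IsPreprimitive G Ω) (g : G) :
    (∃ ω : Ω, MulAction.stabilizer (Subgroup.zpowers g) ω = ⊥) ∨
    (∃ (m k r : ℕ), 5 ≤ m ∧ 1 ≤ k ∧ 1 ≤ r ∧
      ∃ e : Ω ≃ (Fin r → {s : Finset (Fin m) // s.card = k}),
        (∀ x : G, ∃ (π : Equiv.Perm (Fin r)) (τ : Fin r → Equiv.Perm (Fin m)),
            ∀ (ω : Ω) (i : Fin r), ((e (x • ω) i : {s : Finset (Fin m) // s.card = k}) : Finset (Fin m)) =
              (((e ω) (π.symm i) : {s : Finset (Fin m) // s.card = k}) : Finset (Fin m)).map (τ i).toEmbedding) ∧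
        (∀ τ : Fin r → Equiv.Perm (Fin m), (∀ i, τ i ∈ alternatingGroup (Fin m)) →
            ∃ x : G, ∀ (ω : Ω) (i : Fin r), ((e (x • ω) i : {s : Finset (Fin m) // s.card = k}) : Finset (Fin m)) =
              (((e ω) i : {s : Finset (Fin m) // s.card = k}) : Finset (Fin m)).map (τ i).toEmbedding)) :=
  main diagReg exDec (asrow_all hRC hAlt) hprim g

end Cfsg.Agent.H660.RR
end

private theorem dce_ac7ee2203432 : _root_.True := by
  try have : _root_.True := by simp only [_root_.Cfsg.Agent.H344.RR.DB.σ.congr_simp]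
  try have : _root_.True := by simp only [_root_.Cfsg.Agent.H344.RR.DB.ψ.congr_simp]
  exact _root_.True.intro
end

-- part: H86/RG/Fi24Inst
section
prune_inst 0x400000
set_option linter.all false
open scoped Cfsg.Agent.FastGrp

-- part: H86/RG/Fi24Base
section
/-!
# S3509, row `Fi24'`: covers commuting with a transposition (helper86)

`TT` : the transpositions of `Fi24`.
* `fin24`, `odd_mem` : elements of odd order are in `Fi24'`;
* **`dead`** : a cover of a `Fi24'`-set by commuting elements of `Fi24'` commuting with a transposition of `Fi24`;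
* `cyc` : an odd cover all of whose members but one, of order 3, commute with `d`, where `d, xdx⁻¹, x²dx⁻²` commute.
-/

set_option autoImplicit false
open Cfsg

namespace Cfsg.Agent.H86.RG

open MulAction Subgroup Cfsg.Agent.H106.RC Cfsg.Agent.H873.RG
open Cfsg.Agent.R08
open Cfsg.Spor (Fi24 Fi24' Fi23)

/-- the transpositions of `Fi24` -/
abbrev TT : Set Fi24 := FiTwentyFour.L

theorem fin24 : Finite Fi24 := FiTwentyFour.finite_Fi24

/-- the members of the family commute with a transposition of `Fi24` -/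
def CD {ι : Type*} (x : ι → Fi24') : Prop := ∃ d ∈ TT, ∀ i, Commute ((x i : Fi24') : Fi24) d

/-- **a cover commuting with a transposition** -/
theorem dead (hIH : IHx (Nat.card Fi24')) {Ω ι : Type} [Nonempty Ω] [Finite ι] [MulAction Fi24' Ω]
    (hE : Env Fi24' Ω (⊤ : Subgroup Fi24')) {x : ι → Fi24'} {r : ι → ℕ} (hx : PF x r) (hc : Cov Ω x) (hd : CD x) :
    False := by
  have := fin24
  obtain ⟨d, hd, hxd⟩ := hd
  let M : Subgroup Fi24' := (centralizer ({d} : Set Fi24)).subgroupOf (commutator Fi24)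
  have hM : ∀ k : Fi24', k ∈ M ↔ Commute (k : Fi24) d := by
    intro k
    rw [show M = (centralizer ({d} : Set Fi24)).subgroupOf (commutator Fi24) from rfl, mem_subgroupOf,
      mem_centralizer_singleton_iff]
    exact Iff.rfl
  obtain ⟨e⟩ := Cfsg.Agent.H842.RadTwo.equiv_cent hd M hM
  have hs23 : IsSimpleGroup Fi23 := Fischer.Fi23Simple.isFi23.1
  have hf23 : Finite Fi23 := Finite.of_equiv _ e.symm.toEquiv
  have hsM : IsSimpleGroup M := (MulEquiv.isSimpleGroup_congr e).1 hs23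
  have hnc : ¬ IsMulCommutative Fi23 := fun h => Fischer.Fi23Class.z0_ncomm (h.is_comm.comm _ _)
  have hcM : ∀ m ∈ M, (∀ k ∈ M, m * k = k * m) → m = 1 := by
    intro m hm hk
    have h1 : (⟨m, hm⟩ : M) ∈ center M := by
      rw [mem_center_iff]
      intro g
      exact Subtype.ext (hk g g.2).symm
    rcases hsM.eq_bot_or_eq_top_of_normal (center M) inferInstance with h2 | h2
    · rw [h2, mem_bot] at h1
      exact congrArg Subtype.val h1
    · exfalso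
      apply hnc
      constructor; constructor
      intro a b
      apply e.injective
      rw [map_mul, map_mul]
      have : e b ∈ center M := by rw [h2]; trivial
      exact mem_center_iff.1 this (e a)
  have hcard23 : Nat.card Fi23 = 4089470473293004800 := Fischer.Fi23Simple.isFi23.2
  have hcardM : Nat.card M = 4089470473293004800 := by rw [← Nat.card_congr e.toEquiv, hcard23]
  have hne : M ≠ (⊤ : Subgroup Fi24') := by
    intro h
    have h1 : Nat.card M = Nat.card Fi24' := by rw [h, Nat.card_congr Subgroup.topEquiv.toEquiv]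
    rw [hcardM, show Nat.card Fi24' = 1255205709190661721292800 from FiTwentyFour.card_commutator] at h1
    exact absurd h1 (by norm_num)
  have hperf : ⁅M, M⁆ = M := by
    have h1 : commutator M = ⊤ := by
      rcases hsM.eq_bot_or_eq_top_of_normal (commutator M) inferInstance with h2 | h2
      · exfalso
        rw [commutator_eq_bot_iff_center_eq_top] at h2
        apply hnc
        constructor; constructor
        intro a b
        apply e.injective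
        rw [map_mul, map_mul]
        have : e b ∈ center M := by rw [h2]; trivial
        exact mem_center_iff.1 this (e a)
      · exact h2
    exact comm_of_perfect ⟨h1⟩
  have hxM : ∀ i, x i ∈ M := fun i => (hM _).2 (hxd i)
  have key : ∀ ω : Ω, M ≤ stabilizer Fi24' ω := by
    intro ω
    rcases mrule_IHx hIH (Subgroup.topEquiv : (⊤ : Subgroup Fi24') ≃* Fi24') (M := M) le_top hne hperf
      (e.symm : M →* Fi23) e.symm.surjective (by
        intro a ha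
        rw [MonoidHom.mem_ker] at ha
        have : a = 1 := e.symm.injective (by rw [map_one]; exact ha)
        rw [this]; exact one_mem _)
      ⟨hs23, hnc, not_alt (k := 20) (by rw [hcard23]; decide) (by rw [hcard23]; decide)⟩ hx hc
      (fun i => le_normalizer (hxM i)) ω with h | ⟨j, hj, -⟩
    · exact h
    · exact absurd (hcM _ (hxM j) hj) (hx.ne j)
  obtain ⟨ω⟩ := (inferInstance : Nonempty Ω)
  obtain ⟨i, -⟩ := hc ω
  exact hx.ne i (hE.single fun ω => key ω (hxM i))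

/-! ### Elements -/

/-- a member of the family in `Fi24` -/
theorem coe_comm {ι : Type*} {x : ι → Fi24'} {r : ι → ℕ} (hx : PF x r) (i j : ι) :
    Commute ((x i : Fi24') : Fi24) (x j) := congrArg Subtype.val (hx.comm i j)

theorem coe_pow {ι : Type*} {x : ι → Fi24'} {r : ι → ℕ} (hx : PF x r) (i : ι) : ((x i : Fi24') : Fi24) ^ r i = 1 := by
  rw [← Subgroup.coe_pow, hx.pow]; rfl

theorem coe_ne {ι : Type*} {x : ι → Fi24'} {r : ι → ℕ} (hx : PF x r) (i : ι) : ((x i : Fi24') : Fi24) ≠ 1 := fun h =>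
  hx.ne i (Subtype.ext h)

theorem coe_order {ι : Type*} {x : ι → Fi24'} {r : ι → ℕ} (hx : PF x r) (i : ι) :
    orderOf ((x i : Fi24') : Fi24) = r i := by
  have : Fact (r i).Prime := ⟨hx.prime i⟩
  exact orderOf_eq_prime (coe_pow hx i) (coe_ne hx i)

theorem gp_conj_mul {G : Type*} [Group G] (g a b : G) : g * (a * b) * g⁻¹ = (g * a * g⁻¹) * (g * b * g⁻¹) := by group

theorem gp_conj_three {G : Type*} [Group G] (g d : G) :
    g * (g * (g * d * g⁻¹) * g⁻¹) * g⁻¹ = g ^ 3 * d * (g ^ 3)⁻¹ := by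
  rw [show g ^ 3 = g * g * g by rw [pow_succ, pow_two], mul_inv_rev, mul_inv_rev]
  simp only [mul_assoc]

theorem gp_reassoc {G : Type*} [Group G] (d e g a : G) : d * e * g * a * g⁻¹ = d * e * (g * a * g⁻¹) := by group

/-- **the cyclic case**: `x i` of order 3 moves `d` to commuting transpositions, the others commute with `d` -/
theorem cyc (hIH : IHx (Nat.card Fi24')) {Ω ι : Type} [Nonempty Ω] [Finite ι] [MulAction Fi24' Ω]
    (hE : Env Fi24' Ω (⊤ : Subgroup Fi24')) {x : ι → Fi24'} {r : ι → ℕ} (hx : PF x r) (hc : Cov Ω x) {i : ι}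
    (hi : r i = 3) (h2 : ∀ j, r j ≠ 2) {d : Fi24} (hd : d ∈ TT) (hdj : ∀ j, j ≠ i → Commute ((x j : Fi24') : Fi24) d)
    (hd1 : Commute d ((x i : Fi24) * d * (x i : Fi24)⁻¹))
    (hd2 : Commute d ((x i : Fi24) * ((x i : Fi24) * d * (x i : Fi24)⁻¹) * (x i : Fi24)⁻¹)) : False := by
  classical
  set g : Fi24 := (x i : Fi24) with hg
  set e : Fi24 := g * d * g⁻¹ with he
  set f : Fi24 := g * e * g⁻¹ with hf
  have h3 : g ^ 3 = 1 := by rw [hg, ← hi]; exact coe_pow hx i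
  by_cases hfix : Commute g d
  · refine dead hIH hE hx hc ⟨d, hd, fun j => ?_⟩
    by_cases hj : j = i
    · subst hj; exact hfix
    · exact hdj j hj
  have heT : e ∈ TT := FiTwentyFour.conj hd g
  have hfT : f ∈ TT := FiTwentyFour.conj heT g
  have hgf : g * f * g⁻¹ = d := by
    have e1 : g * f * g⁻¹ = g ^ 3 * d * (g ^ 3)⁻¹ := gp_conj_three g d
    rw [e1, h3, one_mul, inv_one, mul_one]
  have hef : Commute e f := by
    have h4 := hd1.map (MulAut.conj g).toMonoidHom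
    exact h4
  -- c = d e
  let c : Fi24' := ⟨d * e, FiTwentyFour.even hd heT⟩
  have hdd : d * d = 1 := FiTwentyFour.sq hd
  have hee : e * e = 1 := FiTwentyFour.sq heT
  have hff : f * f = 1 := FiTwentyFour.sq hfT
  have hy : ((c * x i * c⁻¹ * (x i)⁻¹ : Fi24') : Fi24) = d * f := by
    have hci : (c : Fi24)⁻¹ = e * d := by
      rw [show (c : Fi24) = d * e from rfl, mul_inv_rev, inv_eq_of_mul_eq_one_left hee, inv_eq_of_mul_eq_one_left hdd]
    have e1 : ((c * x i * c⁻¹ * (x i)⁻¹ : Fi24') : Fi24) = d * e * (g * (e * d) * g⁻¹) := by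
      rw [Subgroup.coe_mul, Subgroup.coe_mul, Subgroup.coe_mul, Subgroup.coe_inv, Subgroup.coe_inv, hci]
      exact gp_reassoc d e g (e * d)
    have e2 : g * (e * d) * g⁻¹ = f * e := by
      calc g * (e * d) * g⁻¹ = (g * e * g⁻¹) * (g * d * g⁻¹) := gp_conj_mul g e d
        _ = f * e := rfl
    rw [e1, e2, mul_assoc d e, ← mul_assoc e f, hef.eq, mul_assoc f e e, hee, mul_one]
  have hxd : ∀ j, j ≠ i → Commute ((x j : Fi24') : Fi24) e := by
    intro j hj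
    have h4 : Commute ((x j : Fi24') : Fi24) g := coe_comm hx j i
    exact (h4.mul_right (hdj j hj)).mul_right h4.inv_right
  have hcj : ∀ j, j ≠ i → c * x j = x j * c := fun j hj => Subtype.ext
    (show Commute (d * e) ((x j : Fi24') : Fi24) from ((hdj j hj).symm.mul_left (hxd j hj).symm)).eq
  have hdf : Commute d f := hd2
  have hne : d ≠ f := by
    intro h
    apply hfix
    have h4 : g * d * g⁻¹ = d := by
      conv_lhs => rw [h]
      exact hgf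
    exact (mul_inv_eq_iff_eq_mul.1 h4)
  refine dead hIH hE (pf_update hx i Nat.prime_two (fun j _ => h2 j) (y := c * x i * c⁻¹ * (x i)⁻¹) ?_ ?_
    fun j hj => comm_cm (hcj j hj) (hx.comm i j)) (by convert hc.mv_comm i hcj) ⟨d, hd, fun j => ?_⟩
  · apply Subtype.ext
    rw [Subgroup.coe_pow, hy, hdf.mul_pow, pow_two, pow_two, hdd, hff, mul_one]; rfl
  · intro h
    have h4 := congrArg (Subtype.val) h
    rw [hy] at h4
    apply hne
    calc d = d * f * f := by rw [mul_assoc, hff, mul_one]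
      _ = f := by rw [h4]; exact one_mul f
  · by_cases hj : j = i
    · subst hj
      rw [Function.update_self, hy]
      exact (Commute.refl d).mul_left hdf.symm
    · rw [Function.update_of_ne hj]
      exact hdj j hj

end Cfsg.Agent.H86.RG
end

-- part: H86/RG/Fi24Perm
section
/-!
# S3509, row `Fi24'`: odd covers with a member of order 5 or 7, `C(y) = ⟨y⟩ × Sₙ` (helper86)

* `three_cyc`, `fix2`, `fix_odd` : permutations;
* `PM n y f` : `C(y) = ⟨y⟩ × f(Sₙ)`, the swaps are transpositions;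
* `pm_case` : no odd cover with a member `y` with `PM n y f`, when the primes up to `n` are 2, `r i`, 3, `n - 2`.
-/

set_option autoImplicit false
open Cfsg

namespace Cfsg.Agent.H86.RG

open MulAction Subgroup Cfsg.Agent.H106.RC Cfsg.Agent.H873.RG
open Cfsg.Agent.R08
open Cfsg.Spor (Fi24 Fi24' Fi23)
open Equiv Equiv.Perm

/-! ### Permutations -/

theorem three_cyc {n : ℕ} (hn : 5 ≤ n) (x : Perm (Fin n)) :
    (∃ a b : Fin n, a ≠ b ∧ x a = a ∧ x b = b) ∨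
    ∃ a b : Fin n, a ≠ b ∧ Commute (swap a b) (x * swap a b * x⁻¹) ∧
      (x ^ 3 = 1 → Commute (swap a b) (x * (x * swap a b * x⁻¹) * x⁻¹)) := by
  by_cases hf : ∃ a b : Fin n, a ≠ b ∧ x a = a ∧ x b = b
  · exact Or.inl hf
  right
  push Not at hf
  have hsup : n ≤ x.support.card + 1 := by
    have h1 : (x.supportᶜ).card ≤ 1 := by
      rw [Finset.card_le_one]
      intro a ha b hb
      by_contra hab
      rw [Finset.mem_compl, mem_support, not_not] at ha hb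
      exact hf a b hab ha hb
    have h2 := Finset.card_add_card_compl x.support
    rw [Fintype.card_fin] at h2
    omega
  obtain ⟨a, ha⟩ : x.support.Nonempty := by
    rw [← Finset.card_pos]; omega
  obtain ⟨b, hb⟩ : (x.support \ {a, x a, x⁻¹ a}).Nonempty := by
    rw [← Finset.card_pos]
    have h1 := Finset.le_card_sdiff ({a, x a, x⁻¹ a} : Finset (Fin n)) x.support
    have h2 : ({a, x a, x⁻¹ a} : Finset (Fin n)).card ≤ 3 := Finset.card_le_three
    omega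
  rw [Finset.mem_sdiff, mem_support] at hb
  simp only [Finset.mem_insert, Finset.mem_singleton, not_or] at hb
  obtain ⟨hb1, hb2, hb3, hb4⟩ := hb
  rw [mem_support] at ha
  have hxb : x b ≠ a := fun h => hb4 (by rw [← h]; simp)
  have dis : ∀ c e : Fin n, c ≠ e → c ≠ a → c ≠ b → e ≠ a → e ≠ b → Commute (swap a b) (swap c e) := by
    intro c e hce hca hcb hea heb
    apply Disjoint.commute
    rw [Equiv.Perm.disjoint_iff_disjoint_support, support_swap (Ne.symm hb2), support_swap hce, Finset.disjoint_left]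
    intro k hk
    simp only [Finset.mem_insert, Finset.mem_singleton] at hk ⊢
    rcases hk with rfl | rfl
    · rintro (h | h)
      · exact hca h.symm
      · exact hea h.symm
    · rintro (h | h)
      · exact hcb h.symm
      · exact heb h.symm
  refine ⟨a, b, Ne.symm hb2, ?_, fun h3 => ?_⟩
  · rw [Prm.swap_conj]
    exact dis _ _ (fun h => hb2 (x.injective h).symm) ha (fun h => hb3 h.symm) hxb hb1
  · rw [Prm.swap_conj, Prm.swap_conj]
    have h4 : ∀ c, x (x c) = x⁻¹ c := by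
      intro c
      rw [Equiv.Perm.eq_inv_iff_eq]
      have := congrArg (fun f : Perm (Fin n) => f c) h3
      simpa [pow_succ, pow_two] using this
    rw [h4, h4]
    refine dis _ _ (fun h => hb2 (x⁻¹.injective h).symm) ?_ ?_ ?_ ?_
    · intro h; rw [Equiv.Perm.inv_eq_iff_eq] at h; exact ha h.symm
    · intro h; exact hb4 h.symm
    · intro h; rw [Equiv.Perm.inv_eq_iff_eq] at h; exact hb3 h
    · intro h; rw [Equiv.Perm.inv_eq_iff_eq] at h; exact hb1 h.symm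

theorem fix2 {n r : ℕ} (hr : r.Prime) (hr3 : 3 ≤ r) (hn : r + 2 = n) {σ : Perm (Fin n)} (h : σ ^ r = 1) (h1 : σ ≠ 1) :
    ∃ p q : Fin n, p ≠ q ∧ ∀ c, σ c = c ↔ c = p ∨ c = q := by
  have : Fact r.Prime := ⟨hr⟩
  have h2 := Equiv.Perm.card_compl_support_modEq (p := r) (n := 1) (σ := σ) (by rw [pow_one]; exact h)
  rw [Fintype.card_fin] at h2
  replace h2 : σ.supportᶜ.card ≡ r + 2 [MOD r] := by
    have e : n ≡ r + 2 [MOD r] := by rw [hn]
    exact h2.trans e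
  have h3 := Finset.card_add_card_compl σ.support
  rw [Fintype.card_fin] at h3
  have h4 : 2 ≤ σ.support.card := by
    have h5 : σ.support.card ≠ 0 := by
      rw [Ne, card_support_eq_zero]; exact h1
    have h6 : σ.support.card ≠ 1 := card_support_ne_one σ
    omega
  have h5 : (σ.supportᶜ).card = 2 := by
    have h6 : (σ.supportᶜ).card ≤ r := by omega
    have h7 : (σ.supportᶜ).card ≡ 2 [MOD r] := h2.trans (by simp [Nat.ModEq])
    rcases h6.lt_or_eq with h8 | h8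
    · have h9 := h7
      unfold Nat.ModEq at h9
      rw [Nat.mod_eq_of_lt h8, Nat.mod_eq_of_lt (by omega)] at h9
      exact h9
    · exfalso
      rw [h8] at h7
      unfold Nat.ModEq at h7
      rw [Nat.mod_self, Nat.mod_eq_of_lt (by omega)] at h7
      omega
  obtain ⟨p, q, hpq, hs⟩ := Finset.card_eq_two.1 h5
  refine ⟨p, q, hpq, fun c => ?_⟩
  have h6 : c ∈ σ.supportᶜ ↔ σ c = c := by rw [Finset.mem_compl, mem_support, not_not]
  rw [← h6, hs, Finset.mem_insert, Finset.mem_singleton]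

theorem fix_odd {n m : ℕ} (hm : Odd m) {σ τ : Perm (Fin n)} (hc : σ * τ = τ * σ) (ht : τ ^ m = 1) {p q : Fin n}
    (hpq : p ≠ q) (h : ∀ c, σ c = c ↔ c = p ∨ c = q) : τ p = p ∧ τ q = q := by
  have h1 : ∀ c, c = p ∨ c = q → τ c = p ∨ τ c = q := by
    intro c hcpq
    rw [← h] at hcpq ⊢
    have : σ (τ c) = τ (σ c) := congrArg (fun f : Perm (Fin n) => f c) hc
    rw [this, hcpq]
  obtain ⟨k, rfl⟩ := hm
  have h2 : τ = (τ ^ 2) ^ (k + 1) := by
    rw [← pow_mul, show 2 * (k + 1) = (2 * k + 1) + 1 by ring, pow_succ, ht, one_mul]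
  have key : ∀ a b : Fin n, a ≠ b → (τ a = a ∨ τ a = b) → (τ b = a ∨ τ b = b) → τ a = a := by
    intro a b hab ha hb
    have h3 : (τ ^ 2) a = a := by
      rw [pow_two, mul_apply]
      rcases ha with ha | ha
      · rw [ha, ha]
      · rw [ha]
        rcases hb with hb | hb
        · exact hb
        · exact absurd (τ.injective (ha.trans hb.symm)) hab
    rw [h2]
    exact pow_apply_eq_self_of_apply_eq_self h3 _
  have hp := h1 p (Or.inl rfl)
  have hq := h1 q (Or.inr rfl)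
  exact ⟨key p q hpq hp hq, key q p hpq.symm hq.symm hp.symm⟩

theorem perm_center {n : ℕ} (hn : 3 ≤ n) {σ : Perm (Fin n)} (h : ∀ τ, σ * τ = τ * σ) : σ = 1 := by
  apply Equiv.ext
  intro a
  by_contra ha
  have ha' : σ a ≠ a := ha
  obtain ⟨c, hc⟩ : ∃ c, c ∉ ({a, σ a} : Finset (Fin n)) := by
    by_contra h1
    push Not at h1
    have h2 : (Finset.univ : Finset (Fin n)) ⊆ {a, σ a} := fun x _ => h1 x
    have h3 := Finset.card_le_card h2
    rw [Finset.card_univ, Fintype.card_fin] at h3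
    have h4 : ({a, σ a} : Finset (Fin n)).card ≤ 2 := Finset.card_le_two
    omega
  simp only [Finset.mem_insert, Finset.mem_singleton, not_or] at hc
  have h1 := congrArg (fun f : Perm (Fin n) => f a) (h (swap (σ a) c))
  simp only [mul_apply, swap_apply_left] at h1
  rw [swap_apply_of_ne_of_ne ha'.symm (Ne.symm hc.1)] at h1
  exact hc.2 h1.symm

/-! ### The model -/

/-- `C(y) = ⟨y⟩ × f(Sₙ)` -/
structure PM (n : ℕ) (y : Fi24) (f : Perm (Fin n) →* Fi24) : Prop where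
  inj : Function.Injective f
  sw : ∀ i j, i ≠ j → f (swap i j) ∈ TT
  com : ∀ σ, Commute (f σ) y
  ex : ∀ z, Commute z y → ∃ k : ℤ, ∃ σ, z = y ^ k * f σ

theorem PM.conj {n : ℕ} {y : Fi24} {f : Perm (Fin n) →* Fi24} (h : PM n y f) (g : Fi24) :
    PM n (g * y * g⁻¹) ((MulAut.conj g).toMonoidHom.comp f) where
  inj := (MulAut.conj g).injective.comp h.inj
  sw i j hij := FiTwentyFour.conj (h.sw i j hij) g
  com σ := (h.com σ).map (MulAut.conj g).toMonoidHom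
  ex z hz := by
    have h1 : Commute (g⁻¹ * z * g) y := by
      have h2 := hz.map (MulAut.conj g⁻¹).toMonoidHom
      have e1 : (MulAut.conj g⁻¹).toMonoidHom (g * y * g⁻¹) = y := by
        show g⁻¹ * (g * y * g⁻¹) * g⁻¹⁻¹ = y
        group
      have e2 : (MulAut.conj g⁻¹).toMonoidHom z = g⁻¹ * z * g := by
        show g⁻¹ * z * g⁻¹⁻¹ = _
        rw [inv_inv]
      rwa [e1, e2] at h2
    obtain ⟨k, σ, h2⟩ := h.ex _ h1
    refine ⟨k, σ, ?_⟩
    have h3 : z = g * (g⁻¹ * z * g) * g⁻¹ := by group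
    rw [h3, h2, gp_conj_mul, ← conj_zpow]
    rfl

theorem PM.of_zpowers {n : ℕ} {y y' : Fi24} {f : Perm (Fin n) →* Fi24} (h : PM n y f) (h1 : y' ∈ zpowers y)
    (h2 : y ∈ zpowers y') : PM n y' f where
  inj := h.inj
  sw := h.sw
  com σ := by
    obtain ⟨k, rfl⟩ := h1
    exact (h.com σ).zpow_right k
  ex z hz := by
    have h3 : Commute z y := by
      obtain ⟨k, rfl⟩ := h2
      exact hz.zpow_right k
    obtain ⟨k, σ, h4⟩ := h.ex z h3
    obtain ⟨m, rfl⟩ := h2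
    exact ⟨m * k, σ, by rw [zpow_mul]; exact h4⟩

theorem PM.others {n p q : ℕ} {y : Fi24} {f : Perm (Fin n) →* Fi24} (h : PM n y f) (hn : 3 ≤ n) (hp : p.Prime)
    (hq : q.Prime) (hqp : q ≠ p) (hy : y ^ p = 1) {z : Fi24} (hz : z ^ q = 1) (hzy : Commute z y) : ∃ σ, z = f σ := by
  obtain ⟨k, σ, rfl⟩ := h.ex z hzy
  have hcm : Commute (y ^ k) (f σ) := (h.com σ).symm.zpow_left k
  rw [hcm.mul_pow] at hz
  have h1 : σ ^ q = 1 := by
    apply perm_center hn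
    intro τ
    apply h.inj
    rw [map_mul, map_mul, map_pow]
    have h2 : f σ ^ q = ((y ^ k) ^ q)⁻¹ := by rw [eq_inv_iff_mul_eq_one, ← (hcm.pow_pow q q).eq]; exact hz
    rw [h2]
    exact ((((h.com τ).zpow_right k).pow_right q).inv_right).symm.eq
  have h2 : (y ^ k) ^ q = 1 := by
    rw [← map_pow, h1, map_one, mul_one] at hz
    exact hz
  have h3 : (y ^ k) ^ p = 1 := by
    rw [← zpow_natCast (y ^ k), ← zpow_mul, mul_comm, zpow_mul, zpow_natCast, hy, one_zpow]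
  have h4 : y ^ k = 1 := by
    have h5 := orderOf_dvd_of_pow_eq_one h2
    have h6 := orderOf_dvd_of_pow_eq_one h3
    have h7 : orderOf (y ^ k) ∣ 1 := by
      rw [← (Nat.coprime_primes hq hp).2 hqp]
      exact Nat.dvd_gcd h5 h6
    rw [← pow_orderOf_eq_one (y ^ k), Nat.dvd_one.1 h7, pow_one]
  exact ⟨σ, by rw [h4, one_mul]⟩

/-- **no odd cover with a member `y`, `C(y) = ⟨y⟩ × Sₙ`** -/
theorem pm_case (hIH : IHx (Nat.card Fi24')) {Ω ι : Type} [Nonempty Ω] [Finite ι] [MulAction Fi24' Ω]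
    (hE : Env Fi24' Ω (⊤ : Subgroup Fi24')) {x : ι → Fi24'} {r : ι → ℕ} (hx : PF x r) (hc : Cov Ω x)
    (h2 : ∀ j, r j ≠ 2) (i : ι) {n : ℕ} (hn : 5 ≤ n) {f : Perm (Fin n) →* Fi24} (hf : PM n (x i : Fi24) f)
    (hpr : ∀ q, q.Prime → q ≤ n → q ≠ 2 → q ≠ r i → q = 3 ∨ q + 2 = n) : False := by
  classical
  have hex : ∀ j, ∃ σ : Perm (Fin n), j ≠ i → ((x j : Fi24') : Fi24) = f σ := by
    intro j
    by_cases hj : j = i
    · exact ⟨1, fun h => absurd hj h⟩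
    · obtain ⟨σ, hσ⟩ := hf.others (by omega) (hx.prime i) (hx.prime j) (fun h => hj (hx.inj h)) (coe_pow hx i)
        (coe_pow hx j) (coe_comm hx j i)
      exact ⟨σ, fun _ => hσ⟩
  choose σ hσ using hex
  have hpow : ∀ j, j ≠ i → σ j ^ r j = 1 := fun j hj => hf.inj (by rw [map_pow, ← hσ j hj, coe_pow hx j, map_one])
  have hne : ∀ j, j ≠ i → σ j ≠ 1 := fun j hj h => coe_ne hx j (by rw [hσ j hj, h, map_one])
  have hcm : ∀ j k, j ≠ i → k ≠ i → σ j * σ k = σ k * σ j := fun j k hj hk => hf.inj (by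
    rw [map_mul, map_mul, ← hσ j hj, ← hσ k hk]; exact coe_comm hx j k)
  have hr : ∀ j, j ≠ i → r j = 3 ∨ r j + 2 = n := by
    intro j hj
    refine hpr _ (hx.prime j) ?_ (h2 j) (fun h => hj (hx.inj h))
    have : Fact (r j).Prime := ⟨hx.prime j⟩
    have h3 := orderOf_dvd_natCard (σ j)
    rw [orderOf_eq_prime (hpow j hj) (hne j hj), Nat.card_perm, Nat.card_fin] at h3
    exact ((hx.prime j).dvd_factorial).1 h3
  -- a swap commuting with all the `σ j` kills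
  have kill : ∀ a b : Fin n, a ≠ b → (∀ j, j ≠ i → swap a b * σ j = σ j * swap a b) → False := by
    intro a b hab h
    refine dead hIH hE hx hc ⟨f (swap a b), hf.sw a b hab, fun j => ?_⟩
    by_cases hj : j = i
    · subst hj; exact (hf.com _).symm
    · rw [hσ j hj]
      show f (σ j) * f (swap a b) = f (swap a b) * f (σ j)
      rw [← map_mul, ← h j hj, map_mul]
  by_cases hb : ∃ j, j ≠ i ∧ r j ≠ 3
  · obtain ⟨j, hj, hj3⟩ := hb
    have hjn : r j + 2 = n := (hr j hj).resolve_left hj3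
    have hj2 := h2 j
    have hpj := (hx.prime j).two_le
    obtain ⟨p, q, hpq, hfx⟩ := fix2 (hx.prime j) (by omega) hjn (hpow j hj) (hne j hj)
    refine kill p q hpq fun k hk => ?_
    obtain ⟨h3, h4⟩ := fix_odd ((hx.prime k).odd_of_ne_two (h2 k)) (hcm j k hj hk) (hpow k hk) hpq hfx
    exact Prm.comm_swap_of_fix h3 h4
  push Not at hb
  by_cases hj : ∃ j, j ≠ i
  · obtain ⟨j, hj⟩ := hj
    have huniq : ∀ k, k ≠ i → k = j := fun k hk => hx.inj ((hb k hk).trans (hb j hj).symm)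
    have h3 : σ j ^ 3 = 1 := by rw [← hb j hj]; exact hpow j hj
    rcases three_cyc hn (σ j) with ⟨a, b, hab, ha, hb'⟩ | ⟨a, b, hab, h4, h5⟩
    · refine kill a b hab fun k hk => ?_
      rw [huniq k hk]
      exact Prm.comm_swap_of_fix ha hb'
    · refine cyc hIH hE hx hc (i := j) (hb j hj) h2 (hf.sw a b hab) (fun k hk => ?_) ?_ ?_
      · have hki : k = i := by
          by_contra hki
          exact hk (huniq k hki)
        subst hki
        exact (hf.com _).symm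
      · have h6 := h4.map f
        rw [map_mul, map_mul, map_inv, ← hσ j hj] at h6
        exact h6
      · have h6 := (h5 h3).map f
        rw [map_mul, map_mul, map_mul, map_mul, map_inv, ← hσ j hj] at h6
        exact h6
  · push Not at hj
    exact kill ⟨0, by omega⟩ ⟨1, by omega⟩ (by simp) fun k hk => absurd (hj k) hk

end Cfsg.Agent.H86.RG
end

-- part: H86/RG/Fi24Inst
section
/-!
# S3509, row `Fi24'`: the elements of order 5 and 7 (helper86)

* `pm_five` : `C(y) = ⟨y⟩ × S₉` for `y` of order 5;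
* `pm_seven` : `y` of order 7 commutes with no transposition or `C(y) = ⟨y⟩ × S₇`.
-/

set_option autoImplicit false
open Cfsg

namespace Cfsg.Agent.H86.RG

open Subgroup
open Cfsg.Agent.R08
open Cfsg.Spor (Fi24 Fi24' Fi23)
open Cfsg.Agent.LThreeFi24.SNine Cfsg.Agent.LThreeFi24.FiveConj Cfsg.Agent.H841.Five Cfsg.Agent.H842.Seven Cfsg.Agent.H842.SevenSyl
open Equiv

theorem pm_y0 : PM 9 y0 Phi where
  inj := Phi_injective
  sw _ _ h := Phi_swap_mem_L h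
  com := Phi_comm_y0
  ex z hz := by
    obtain ⟨i, σ, -, -, h⟩ := Cfsg.Agent.H841.Five.exists_of_comm (n := z) hz.eq
    exact ⟨i, σ, by rw [zpow_natCast]; exact h⟩

theorem pm_y7 : PM 7 y7 Psi where
  inj := Psi_injective
  sw _ _ h := Psi_mem_L h
  com := y7_Psi
  ex z hz := by
    obtain ⟨i, σ, h⟩ := exists_of_comm7 (n := z) hz.eq
    exact ⟨i, σ, by rw [zpow_natCast]; exact h⟩

theorem pm_five {y : Fi24} (hy : orderOf y = 5) : ∃ f, PM 9 y f := by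
  obtain ⟨g, hg⟩ := exists_conj_five hy
  have h := pm_y0.conj g⁻¹
  have e : g⁻¹ * y0 * g⁻¹⁻¹ = y := by rw [← hg]; group
  rw [e] at h
  exact ⟨_, h⟩

theorem zpowers_of_map {g y w : Fi24} (h : (zpowers y).map (MulAut.conj g).toMonoidHom = zpowers w) :
    (g⁻¹ * w * g⁻¹⁻¹) ∈ zpowers y ∧ y ∈ zpowers (g⁻¹ * w * g⁻¹⁻¹) := by
  constructor
  · have h1 : w ∈ (zpowers y).map (MulAut.conj g).toMonoidHom := by rw [h]; exact mem_zpowers w
    obtain ⟨a, ha, rfl⟩ := h1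
    have e : g⁻¹ * (MulAut.conj g).toMonoidHom a * g⁻¹⁻¹ = a := by
      show g⁻¹ * (g * a * g⁻¹) * g⁻¹⁻¹ = a
      group
    rw [e]
    exact ha
  · have h1 : g * y * g⁻¹ ∈ zpowers w := by rw [← h]; exact ⟨y, mem_zpowers y, rfl⟩
    obtain ⟨k, hk⟩ := h1
    refine ⟨k, ?_⟩
    have hk' : w ^ k = g * y * g⁻¹ := hk
    show (g⁻¹ * w * g⁻¹⁻¹) ^ k = y
    rw [conj_zpow, hk']
    group

theorem pm_seven {y : Fi24} (hy : orderOf y = 7) : (∀ d ∈ TT, ¬ Commute y d) ∨ ∃ f, PM 7 y f := by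
  obtain ⟨g, h | h⟩ := cases7 (X := zpowers y) (by rw [Nat.card_zpowers, hy])
  · right
    obtain ⟨h1, h2⟩ := zpowers_of_map h
    exact ⟨_, (pm_y7.conj g⁻¹).of_zpowers h2 h1⟩
  · left
    intro d hd hyd
    obtain ⟨h1, h2⟩ := zpowers_of_map h
    obtain ⟨k, hk⟩ := h1
    have h3 : Commute (g⁻¹ * c * g⁻¹⁻¹) d := by
      have hk' : y ^ k = g⁻¹ * c * g⁻¹⁻¹ := hk
      rw [← hk']
      exact hyd.zpow_left k
    have h4 := h3.map (MulAut.conj g).toMonoidHom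
    have e1 : (MulAut.conj g).toMonoidHom (g⁻¹ * c * g⁻¹⁻¹) = c := by
      show g * (g⁻¹ * c * g⁻¹⁻¹) * g⁻¹ = c
      group
    rw [e1] at h4
    exact not_comm_c (FiTwentyFour.conj hd g) h4.eq

end Cfsg.Agent.H86.RG
end
end

-- part: H86/RG/Fi24Asm
section
prune_inst 0x400000
set_option linter.all false
open scoped Cfsg.Agent.FastGrp

-- part: H86/RG/Fi24Ev
section
/-!
# S3509, row `Fi24'`: a family commuting with an involution (helper86)

* `two_or_four` : an involution of `Fi24'` is the product of 2 or 4 distinct commuting transpositions;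
* `evenz` : a cover whose members commute with an involution `z`, the member of order 2 being `z`, when the 4-product
  case is excluded.
-/

set_option autoImplicit false
open Cfsg

namespace Cfsg.Agent.H86.RG

open MulAction Subgroup Cfsg.Agent.H106.RC Cfsg.Agent.H873.RG
open Cfsg.Agent.R08
open Cfsg.Spor (Fi24 Fi24' Fi23)

/-- `l` lists distinct commuting transpositions with product `z` -/
def Fac (l : List Fi24) (k : ℕ) (z : Fi24) : Prop :=
  l.Nodup ∧ l.length = k ∧ (∀ a ∈ l, a ∈ FiTwentyFour.L) ∧ (∀ a ∈ l, ∀ b ∈ l, Commute a b) ∧ l.prod = z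


theorem two_or_four {z : Fi24} (hz : z ∈ commutator Fi24) (h2 : orderOf z = 2) :
    (∃ l, Fac l 2 z) ∨ ∃ l, Fac l 4 z := by
  have := fin24
  have F := Cfsg.Agent.H831.Types.inh_of_defs Cfsg.Agent.H830.Con24.fgroup
  have h8 := Cfsg.Agent.H830.Con24.isT8
  obtain ⟨m, hm1, hm4, l, hnd, hlen, hD, hc, hp⟩ :=
    (Cfsg.Agent.H816.Prods.main_eight F h8 (Cfsg.Agent.H816.PreEight.cover F h8)).1 z h2
  have hm : m = 1 ∨ m = 2 ∨ m = 3 ∨ m = 4 := by omega
  rcases hm with rfl | rfl | rfl | rfl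
  · exfalso
    rcases l with _ | ⟨a, _ | ⟨b, l⟩⟩
    · simp at hlen
    · rw [List.prod_singleton] at hp
      exact FiTwentyFour.odd (hD a (by simp)) (by rw [hp]; exact hz)
    · simp at hlen
  · exact Or.inl ⟨l, hnd, hlen, hD, hc, hp⟩
  · exfalso
    rcases l with _ | ⟨a, _ | ⟨b, _ | ⟨c, _ | ⟨d, l⟩⟩⟩⟩
    · simp at hlen
    · simp at hlen
    · simp at hlen
    · simp only [List.prod_cons, List.prod_nil, mul_one] at hp
      have h5 := FiTwentyFour.even (hD b (by simp)) (hD c (by simp))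
      have h6 : a * (b * c) ∈ commutator Fi24 := by rw [hp]; exact hz
      exact FiTwentyFour.odd (hD a (by simp)) ((Subgroup.mul_mem_cancel_right _ h5).1 h6)
    · simp at hlen
  · exact Or.inr ⟨l, hnd, hlen, hD, hc, hp⟩

/-- an element of odd order whose square commutes with `d` commutes with `d` -/
theorem comm_of_sq {G : Type*} [Group G] {x d : G} {n : ℕ} (hn : Odd n) (hx : x ^ n = 1) (h : Commute (x ^ 2) d) :
    Commute x d := by
  obtain ⟨k, rfl⟩ := hn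
  have h1 : x = (x ^ 2) ^ (k + 1) := by
    rw [← pow_mul, show 2 * (k + 1) = (2 * k + 1) + 1 by ring, pow_succ, hx, one_mul]
  rw [h1]
  exact h.pow_left _

/-- the factors of a product of two are permuted by the centralizer -/
theorem fac_two {z x : Fi24} {l : List Fi24} (hl : Fac l 2 z) (hx : Commute x z) :
    ∃ d e, d ∈ TT ∧ e ∈ TT ∧ d ≠ e ∧ Commute d e ∧ l = [d, e] ∧ Commute (x ^ 2) d := by
  have := fin24
  obtain ⟨hnd, hlen, hD, hc, hp⟩ := hl
  rcases l with _ | ⟨d, _ | ⟨e, _ | ⟨f, l⟩⟩⟩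
  · simp at hlen
  · simp at hlen
  · have hde : d ≠ e := by simpa using hnd
    have hce : Commute d e := hc d (by simp) e (by simp)
    have hdD : d ∈ TT := hD d (by simp)
    have heD : e ∈ TT := hD e (by simp)
    refine ⟨d, e, hdD, heD, hde, hce, rfl, ?_⟩
    have hT : IsThreeTranspositionSet FiTwentyFour.L :=
      (Cfsg.Agent.Fischer160.Inherit.isThree_of_fdata
        (Cfsg.Agent.H831.Types.inh_of_defs Cfsg.Agent.H830.Con24.fgroup).fd).1
    have hN : Cfsg.Agent.H831.Short.NoRel FiTwentyFour.L (2 * 2) :=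
      (Cfsg.Agent.H831.Short.noRel_eight hT Cfsg.Agent.H830.Con24.isT8).mono (by omega)
    have hp' : d * e = z := by simpa using hp
    have hcz : x * (d * e) * x⁻¹ = d * e := by rw [hp', hx.eq, mul_inv_cancel_right]
    have hu := Cfsg.Agent.H831.Short.unique hT hN (by norm_num) [x * d * x⁻¹, x * e * x⁻¹] [d, e]
      (by simpa using fun h => hde h) hnd (by simp) (by simp)
      (by
        intro a ha
        simp only [List.mem_cons, List.not_mem_nil, or_false] at ha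
        rcases ha with rfl | rfl
        · exact FiTwentyFour.conj hdD x
        · exact FiTwentyFour.conj heD x) hD
      (by
        have h1 : Commute (x * d * x⁻¹) (x * e * x⁻¹) := hce.map (MulAut.conj x).toMonoidHom
        intro a ha b hb
        simp only [List.mem_cons, List.not_mem_nil, or_false] at ha hb
        rcases ha with rfl | rfl <;> rcases hb with rfl | rfl
        · exact Commute.refl _
        · exact h1
        · exact h1.symm
        · exact Commute.refl _) hc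
      (by
        simp only [List.prod_cons, List.prod_nil, mul_one]
        rw [← gp_conj_mul, hcz])
    have h1 := (hu (x * d * x⁻¹)).1 (by simp)
    have h2 := (hu (x * e * x⁻¹)).1 (by simp)
    simp only [List.mem_cons, List.not_mem_nil, or_false] at h1 h2
    have key : x * (x * d * x⁻¹) * x⁻¹ = d := by
      rcases h1 with h1 | h1
      · rw [h1, h1]
      · rw [h1]
        rcases h2 with h2 | h2
        · exact h2
        · exfalso
          apply hde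
          have h3 : x * d * x⁻¹ = x * e * x⁻¹ := h1.trans h2.symm
          exact mul_left_cancel (mul_right_cancel h3)
    show x ^ 2 * d = d * x ^ 2
    conv_rhs => rw [← key]
    rw [pow_two]
    simp only [mul_assoc, inv_mul_cancel_left, inv_mul_cancel, mul_one]
  · simp at hlen

/-- **a cover commuting with an involution** -/
theorem evenz (hIH : IHx (Nat.card Fi24')) {Ω ι : Type} [Nonempty Ω] [Finite ι] [MulAction Fi24' Ω]
    (hE : Env Fi24' Ω (⊤ : Subgroup Fi24')) {x : ι → Fi24'} {r : ι → ℕ} (hx : PF x r) (hc : Cov Ω x) (z : Fi24')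
    (hz2 : orderOf z = 2) (hz : ∀ i, x i * z = z * x i) (h2 : ∀ i, r i = 2 → x i = z)
    (h4 : ∀ l : List Fi24, Fac l 4 (z : Fi24) → False) : False := by
  have ho : orderOf (z : Fi24) = 2 := by rw [Subgroup.orderOf_coe]; exact hz2
  rcases two_or_four z.2 ho with ⟨l, hl⟩ | ⟨l, hl⟩
  · obtain ⟨d, e, hd, he, hde, hce, hle, -⟩ := fac_two hl (Commute.refl _)
    refine dead hIH hE hx hc ⟨d, hd, fun j => ?_⟩
    by_cases hj : r j = 2
    · rw [h2 j hj, ← hl.2.2.2.2, hle]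
      simp only [List.prod_cons, List.prod_nil, mul_one]
      exact (Commute.refl d).mul_left hce.symm
    · have hcj : Commute ((x j : Fi24') : Fi24) (z : Fi24) := congrArg Subtype.val (hz j)
      obtain ⟨d', e', -, -, -, -, hle', hsq⟩ := fac_two hl hcj
      have hdd : d' = d := by
        rw [hle] at hle'
        simp only [List.cons.injEq] at hle'
        exact hle'.1.symm
      rw [hdd] at hsq
      exact comm_of_sq ((hx.prime j).odd_of_ne_two hj) (coe_pow hx j) hsq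
  · exact h4 l hl

end Cfsg.Agent.H86.RG
end

-- part: H86/RG/Fi24Asm
section
/-!
# S3509, row `Fi24'`: no cover by elements of `Fi24'` (helper86)

`caseL_of` : from the 4-product rule, the elements of order 13, 11, 17, 23, 29 and the class `7B`.
-/

set_option autoImplicit false
open Cfsg

namespace Cfsg.Agent.H86.RG

open MulAction Subgroup Cfsg.Agent.H106.RC Cfsg.Agent.H873.RG
open Cfsg.Agent.R08
open Cfsg.Spor (Fi24 Fi24' Fi23)

/-! ### Interfaces -/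

/-- the 4-product rule -/
def Two4 : Prop := ∀ {Ω ι : Type} [Finite Ω] [Nonempty Ω] [Finite ι] [MulAction Spor.Fi24' Ω],
  Env Spor.Fi24' Ω (⊤ : Subgroup Spor.Fi24') → ∀ {x : ι → Fi24'} {r : ι → ℕ}, PF x r → Cov Ω x →
  ∀ (z : Spor.Fi24') (l : List Spor.Fi24), Fac l 4 (z : Fi24) → (∀ i, x i * z = z * x i) →
  (∀ i, r i = 2 → x i = z) → False

def Inv21 : Prop := ∀ x s : Spor.Fi24, orderOf x = 3 → orderOf s = 7 → Commute x s →
  (∀ d ∈ R08.FiTwentyFour.L, ¬ Commute s d) → ∃ z, orderOf z = 2 ∧ z ∈ commutator Spor.Fi24 ∧ Commute z x ∧ Commute z s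

def Thirteen : Prop := ∀ {y x : Spor.Fi24}, orderOf y = 13 → orderOf x = 3 → Commute x y →
  ∃ K : Subgroup Spor.Fi24, K ≤ commutator Spor.Fi24 ∧ IsSimpleGroup K ∧ y ∈ K ∧ (∀ k ∈ K, Commute x k) ∧ 2 ∣ Nat.card K

def ThirteenPrimes : Prop := ∀ {y x : Spor.Fi24} {r : ℕ}, orderOf y = 13 → r.Prime → orderOf x = r → Commute x y →
  r = 2 ∨ r = 3 ∨ r = 13

def Eleven : Prop := ∀ {y : Spor.Fi24}, orderOf y = 11 → ∃ d e f : Spor.Fi24,
  d ∈ Cfsg.Agent.R08.FiTwentyFour.L ∧ e ∈ Cfsg.Agent.R08.FiTwentyFour.L ∧ f ∈ Cfsg.Agent.R08.FiTwentyFour.L ∧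
  Commute d e ∧ Commute d f ∧ Commute e f ∧ Commute d y ∧ Commute e y ∧ Commute f y ∧
  ∀ a ∈ Cfsg.Agent.R08.FiTwentyFour.L, Commute a y → a = d ∨ a = e ∨ a = f

def SelfCent : Prop := ∀ {y x : Spor.Fi24}, orderOf y = 17 ∨ orderOf y = 23 ∨ orderOf y = 29 →
  x ∈ commutator Spor.Fi24 → Commute x y → x ∈ Subgroup.zpowers y

/-! ### Lemmas -/

theorem comm_of_pow {G : Type*} [Group G] {x d : G} {q k : ℕ} (hq : q.Prime) (hx : x ^ q = 1) (hk : ¬ q ∣ k)
    (h : Commute (x ^ k) d) : Commute x d := by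
  obtain ⟨m, -, hm⟩ := Nat.exists_mul_mod_eq_one_of_coprime ((hq.coprime_iff_not_dvd.2 hk).symm) hq.one_lt
  have h1 : x = (x ^ k) ^ m := by
    rw [← pow_mul, pow_eq_pow_mod (k * m) hx, hm, pow_one]
  rw [h1]
  exact h.pow_left _

theorem card_Fi24' : Nat.card Fi24' = 1255205709190661721292800 := FiTwentyFour.card_commutator

theorem prime_cases {q : ℕ} (hq : q.Prime) (h : q ∣ Nat.card Fi24') :
    q = 2 ∨ q = 3 ∨ q = 5 ∨ q = 7 ∨ q = 11 ∨ q = 13 ∨ q = 17 ∨ q = 23 ∨ q = 29 := by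
  rw [card_Fi24', show (1255205709190661721292800 : ℕ) =
    2 ^ 21 * (3 ^ 16 * (5 ^ 2 * (7 ^ 3 * (11 * (13 * (17 * (23 * 29))))))) by norm_num] at h
  have key : ∀ {p : ℕ}, p.Prime → q ∣ p → q = p := fun hp h => (Nat.prime_dvd_prime_iff_eq hq hp).1 h
  rcases (Nat.Prime.dvd_mul hq).1 h with h | h
  · exact Or.inl (key (by norm_num) (hq.dvd_of_dvd_pow h))
  rcases (Nat.Prime.dvd_mul hq).1 h with h | h
  · exact Or.inr (Or.inl (key (by norm_num) (hq.dvd_of_dvd_pow h)))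
  rcases (Nat.Prime.dvd_mul hq).1 h with h | h
  · exact Or.inr (Or.inr (Or.inl (key (by norm_num) (hq.dvd_of_dvd_pow h))))
  rcases (Nat.Prime.dvd_mul hq).1 h with h | h
  · exact Or.inr (Or.inr (Or.inr (Or.inl (key (by norm_num) (hq.dvd_of_dvd_pow h)))))
  rcases (Nat.Prime.dvd_mul hq).1 h with h | h
  · exact Or.inr (Or.inr (Or.inr (Or.inr (Or.inl (key (by norm_num) h)))))
  rcases (Nat.Prime.dvd_mul hq).1 h with h | h
  · exact Or.inr (Or.inr (Or.inr (Or.inr (Or.inr (Or.inl (key (by norm_num) h))))))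
  rcases (Nat.Prime.dvd_mul hq).1 h with h | h
  · exact Or.inr (Or.inr (Or.inr (Or.inr (Or.inr (Or.inr (Or.inl (key (by norm_num) h)))))))
  rcases (Nat.Prime.dvd_mul hq).1 h with h | h
  · exact Or.inr (Or.inr (Or.inr (Or.inr (Or.inr (Or.inr (Or.inr (Or.inl (key (by norm_num) h))))))))
  · exact Or.inr (Or.inr (Or.inr (Or.inr (Or.inr (Or.inr (Or.inr (Or.inr (key (by norm_num) h))))))))

section

variable {Ω ι : Type} [Nonempty Ω] [MulAction Fi24' Ω]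

/-- a cover has at least two members -/
theorem two_members (hE : Env Fi24' Ω (⊤ : Subgroup Fi24')) {x : ι → Fi24'} {r : ι → ℕ} (hx : PF x r) (hc : Cov Ω x)
    (i : ι) (h : ∀ j, j = i) : False := by
  refine hx.ne i (hE.single fun ω => ?_)
  obtain ⟨j, hj⟩ := hc ω
  rw [h j] at hj
  exact hj

/-- members of order 17, 23, 29 -/
theorem case_big (hS : SelfCent) (hE : Env Fi24' Ω (⊤ : Subgroup Fi24')) {x : ι → Fi24'} {r : ι → ℕ} (hx : PF x r)
    (hc : Cov Ω x) (i : ι) (hi : r i = 17 ∨ r i = 23 ∨ r i = 29) : False := by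
  refine two_members hE hx hc i fun j => ?_
  by_contra hj
  obtain ⟨k, hk⟩ := hS (y := (x i : Fi24)) (x := (x j : Fi24)) (by rw [coe_order hx i]; exact hi) (x j).2
    (coe_comm hx j i)
  have hk' : ((x i : Fi24') : Fi24) ^ k = x j := hk
  have h1 : ((x j : Fi24') : Fi24) ^ r i = 1 := by
    rw [← hk', ← zpow_natCast, ← zpow_mul, mul_comm, zpow_mul, zpow_natCast, coe_pow hx i, one_zpow]
  have h2 := orderOf_dvd_of_pow_eq_one h1
  rw [coe_order hx j, Nat.prime_dvd_prime_iff_eq (hx.prime j) (hx.prime i)] at h2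
  exact hj (hx.inj h2)

variable [Finite ι]

/-- a cover commuting with an involution -/
theorem even_case [Finite Ω] (hT : Two4) (hIH : IHx (Nat.card Fi24')) (hE : Env Fi24' Ω (⊤ : Subgroup Fi24'))
    {x : ι → Fi24'} {r : ι → ℕ} (hx : PF x r) (hc : Cov Ω x) (z : Fi24') (hz2 : orderOf z = 2)
    (hz : ∀ i, x i * z = z * x i) (h2 : ∀ i, r i = 2 → x i = z) : False :=
  evenz hIH hE hx hc z hz2 hz h2 fun l hl => hT hE hx hc z l hl hz h2

/-- a member of order 13 -/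
theorem case_13 [Finite Ω] (hT : Two4) (h13 : Thirteen) (h13' : ThirteenPrimes) (hIH : IHx (Nat.card Fi24'))
    (hE : Env Fi24' Ω (⊤ : Subgroup Fi24')) {x : ι → Fi24'} {r : ι → ℕ} (hx : PF x r) (hc : Cov Ω x)
    (h2 : ∀ j, r j ≠ 2) (i : ι) (hi : r i = 13) : False := by
  classical
  have hr : ∀ j, j ≠ i → r j = 3 := by
    intro j hj
    rcases h13' (y := (x i : Fi24)) (x := (x j : Fi24)) (by rw [coe_order hx i]; exact hi) (hx.prime j)
      (coe_order hx j) (coe_comm hx j i) with h | h | h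
    · exact absurd h (h2 j)
    · exact h
    · exact absurd (hx.inj (h.trans hi.symm)) hj
  by_cases hex : ∃ j, j ≠ i
  swap
  · push Not at hex
    exact two_members hE hx hc i hex
  obtain ⟨j, hj⟩ := hex
  have huniq : ∀ k, k ≠ i → k = j := fun k hk => hx.inj ((hr k hk).trans (hr j hj).symm)
  obtain ⟨K, hKL, hKs, hyK, hKc, hK2⟩ := h13 (y := (x i : Fi24)) (x := (x j : Fi24))
    (by rw [coe_order hx i]; exact hi) (by rw [coe_order hx j]; exact hr j hj) (coe_comm hx j i)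
  have := fin24
  have hfK : Finite K := inferInstance
  have : Fact (Nat.Prime 2) := ⟨Nat.prime_two⟩
  obtain ⟨z, hz⟩ := exists_prime_orderOf_dvd_card' (G := K) 2 hK2
  let z' : Fi24' := ⟨z, hKL z.2⟩
  have hz' : orderOf z' = 2 := by
    rw [← Subgroup.orderOf_coe, show ((z' : Fi24') : Fi24) = (z : Fi24) from rfl, Subgroup.orderOf_coe]
    exact hz
  let Y : Set Fi24' := {w | ∃ c : Fi24', c * x j = x j * c ∧ w = c * x i * c⁻¹}
  -- the closure is normal in K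
  let C : Subgroup K := ((closure Y).map (commutator Fi24).subtype).subgroupOf K
  have hCn : C.Normal := by
    refine ⟨fun n hn g => ?_⟩
    rw [mem_subgroupOf] at hn ⊢
    let g' : Fi24' := ⟨g, hKL g.2⟩
    have hg : g' * x j = x j * g' := Subtype.ext (hKc g g.2).symm.eq
    obtain ⟨w, hw, hwn⟩ := hn
    refine ⟨g' * w * g'⁻¹, ?_, ?_⟩
    · have h3 : (closure Y).map (MulAut.conj g').toMonoidHom ≤ closure Y := by
        rw [MonoidHom.map_closure, closure_le]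
        rintro _ ⟨_, ⟨c, hcj, rfl⟩, rfl⟩
        refine subset_closure ⟨g' * c, ?_, ?_⟩
        · rw [mul_assoc, hcj, ← mul_assoc, hg, mul_assoc]
        · show g' * (c * x i * c⁻¹) * g'⁻¹ = _
          group
      exact h3 ⟨w, hw, rfl⟩
    · show (g : Fi24) * ((w : Fi24') : Fi24) * (g : Fi24)⁻¹ = _
      have hwn' : ((w : Fi24') : Fi24) = (n : Fi24) := hwn
      rw [hwn']
      rfl
  have hyC : (⟨(x i : Fi24), hyK⟩ : K) ∈ C := by
    rw [mem_subgroupOf]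
    exact ⟨x i, subset_closure ⟨1, by rw [one_mul, mul_one], by rw [one_mul, inv_one, mul_one]⟩, rfl⟩
  have hCt : C = ⊤ := by
    rcases hKs.eq_bot_or_eq_top_of_normal C hCn with h | h
    · rw [h, mem_bot] at hyC
      exact absurd (congrArg Subtype.val hyC) (coe_ne hx i)
    · exact h
  have hzC : z' ∈ closure Y := by
    have h3 : z ∈ C := by rw [hCt]; trivial
    rw [mem_subgroupOf] at h3
    obtain ⟨w, hw, hwz⟩ := h3
    have : w = z' := Subtype.ext hwz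
    rw [← this]; exact hw
  have hpair : ∀ ω : Ω, x j • ω = ω ∨ x i • ω = ω := by
    intro ω
    obtain ⟨k, hk⟩ := hc ω
    by_cases hki : k = i
    · rw [hki] at hk; exact Or.inr hk
    · rw [huniq k hki] at hk; exact Or.inl hk
  have hpair2 := Cfsg.Agent.H867.RC.pair_mv hpair hzC
  have hzj : z' * x j = x j * z' := Subtype.ext (hKc z z.2).symm.eq
  have hPF := pf_update hx i Nat.prime_two (fun j _ => h2 j) (y := z')
    (by rw [← hz']; exact pow_orderOf_eq_one z') (by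
      intro h
      rw [h, orderOf_one] at hz'
      exact absurd hz' (by norm_num))
    (fun k hk => by rw [huniq k hk]; exact hzj)
  have hCov : Cov Ω (Function.update x i z') := by
    intro ω
    rcases hpair2 ω with h | h
    · exact ⟨j, by rw [Function.update_of_ne hj]; exact h⟩
    · exact ⟨i, by rw [Function.update_self]; exact h⟩
  refine even_case hT hIH hE hPF hCov z' hz' (fun k => ?_) fun k hk => ?_
  · by_cases hki : k = i
    · subst hki; rw [Function.update_self]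
    · rw [Function.update_of_ne hki, huniq k hki]; exact hzj.symm
  · by_cases hki : k = i
    · subst hki; rw [Function.update_self]
    · rw [Function.update_of_ne hki] at hk
      exact absurd hk (h2 k)

/-- a member of order 11 -/
theorem case_11 (h11 : Eleven) (hIH : IHx (Nat.card Fi24')) (hE : Env Fi24' Ω (⊤ : Subgroup Fi24'))
    {x : ι → Fi24'} {r : ι → ℕ} (hx : PF x r) (hc : Cov Ω x) (h2 : ∀ j, r j ≠ 2) (i : ι) (hi : r i = 11) : False := by
  obtain ⟨d, e, f, hd, he, hf, hde, hdf, hef, hdy, hey, hfy, hall⟩ := h11 (y := (x i : Fi24))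
    (by rw [coe_order hx i]; exact hi)
  -- conjugates
  have hcj : ∀ j, ∀ a, a = d ∨ a = e ∨ a = f → (x j : Fi24) * a * (x j : Fi24)⁻¹ = d ∨
      (x j : Fi24) * a * (x j : Fi24)⁻¹ = e ∨ (x j : Fi24) * a * (x j : Fi24)⁻¹ = f := by
    intro j a ha
    have haT : a ∈ TT := by rcases ha with rfl | rfl | rfl <;> assumption
    have hay : Commute a (x i : Fi24) := by rcases ha with rfl | rfl | rfl <;> assumption
    refine hall _ (FiTwentyFour.conj haT _) ?_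
    have h3 : Commute (x j : Fi24) (x i : Fi24) := coe_comm hx j i
    exact (h3.mul_left hay).mul_left h3.inv_left
  have hcd : ∀ a, a = d ∨ a = e ∨ a = f → Commute d a := by
    rintro a (rfl | rfl | rfl)
    · exact Commute.refl _
    · exact hde
    · exact hdf
  -- three times
  have h6 : ∀ j, Commute ((x j : Fi24) ^ 6) d := by
    intro j
    set g : Fi24 := (x j : Fi24) with hg
    have a1 := hcj j d (Or.inl rfl)
    have a2 := hcj j _ a1
    have a3 := hcj j _ a2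
    rw [← hg] at a1 a2 a3
    have e2 : g * (g * d * g⁻¹) * g⁻¹ = g ^ 2 * d * (g ^ 2)⁻¹ := by
      rw [pow_two, mul_inv_rev]; simp only [mul_assoc]
    have e3 : g * (g * (g * d * g⁻¹) * g⁻¹) * g⁻¹ = g ^ 3 * d * (g ^ 3)⁻¹ := gp_conj_three g d
    rw [e3] at a3
    rw [e2] at a2
    have c1 : ∀ k : ℕ, g ^ k * d * (g ^ k)⁻¹ = d → Commute (g ^ k) d := fun k hk => mul_inv_eq_iff_eq_mul.1 hk
    have c2 : ∀ k l : ℕ, g ^ (k + l) * d * (g ^ (k + l))⁻¹ = g ^ k * d * (g ^ k)⁻¹ → Commute (g ^ l) d := by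
      intro k l h
      apply c1
      have h3 : g ^ (k + l) * d * (g ^ (k + l))⁻¹ = g ^ k * (g ^ l * d * (g ^ l)⁻¹) * (g ^ k)⁻¹ := by
        rw [pow_add, mul_inv_rev]; simp only [mul_assoc]
      rw [h3] at h
      exact mul_left_cancel (mul_right_cancel h)
    have p1 : Commute (g ^ 1) d → Commute (g ^ 6) d := fun h => by
      rw [show 6 = 1 * 6 from rfl, pow_mul]; exact h.pow_left _
    have p2 : Commute (g ^ 2) d → Commute (g ^ 6) d := fun h => by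
      rw [show 6 = 2 * 3 from rfl, pow_mul]; exact h.pow_left _
    have p3 : Commute (g ^ 3) d → Commute (g ^ 6) d := fun h => by
      rw [show 6 = 3 * 2 from rfl, pow_mul]; exact h.pow_left _
    have b1 : g ^ 1 * d * (g ^ 1)⁻¹ = g * d * g⁻¹ := by rw [pow_one]
    rcases a1 with h | h
    · exact p1 (by rw [pow_one]; exact mul_inv_eq_iff_eq_mul.1 h)
    rcases a2 with h' | h'
    · exact p2 (c1 2 h')
    rcases a3 with h'' | h''
    · exact p3 (c1 3 h'')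
    -- all three in {e, f}
    have d21 : g ^ 2 * d * (g ^ 2)⁻¹ = g ^ 1 * d * (g ^ 1)⁻¹ → Commute (g ^ 6) d := fun h => p1 (c2 1 1 h)
    have d31 : g ^ 3 * d * (g ^ 3)⁻¹ = g ^ 1 * d * (g ^ 1)⁻¹ → Commute (g ^ 6) d := fun h => p2 (c2 1 2 h)
    have d32 : g ^ 3 * d * (g ^ 3)⁻¹ = g ^ 2 * d * (g ^ 2)⁻¹ → Commute (g ^ 6) d := fun h => p1 (c2 2 1 h)
    rw [b1] at d21 d31
    rcases h with h | h <;> rcases h' with h' | h' <;> rcases h'' with h'' | h''
    · exact d21 (h'.trans h.symm)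
    · exact d21 (h'.trans h.symm)
    · exact d31 (h''.trans h.symm)
    · exact d32 (h''.trans h'.symm)
    · exact d32 (h''.trans h'.symm)
    · exact d31 (h''.trans h.symm)
    · exact d21 (h'.trans h.symm)
    · exact d21 (h'.trans h.symm)
  have h5 : ∀ j, r j ≠ 3 → Commute (x j : Fi24) d := by
    intro j hj
    refine comm_of_pow (hx.prime j) (coe_pow hx j) ?_ (h6 j)
    intro h
    rw [show 6 = 2 * 3 from rfl] at h
    rcases (Nat.Prime.dvd_mul (hx.prime j)).1 h with h | h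
    · exact h2 j ((Nat.prime_dvd_prime_iff_eq (hx.prime j) Nat.prime_two).1 h)
    · exact hj ((Nat.prime_dvd_prime_iff_eq (hx.prime j) Nat.prime_three).1 h)
  by_cases hex : ∃ j, r j = 3
  · obtain ⟨j, hj⟩ := hex
    have a1 := hcj j d (Or.inl rfl)
    have a2 := hcj j _ a1
    exact cyc hIH hE hx hc hj h2 hd (fun k hk => h5 k fun h => hk (hx.inj (h.trans hj.symm))) (hcd _ a1) (hcd _ a2)
  · push Not at hex
    exact dead hIH hE hx hc ⟨d, hd, fun j => h5 j (hex j)⟩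

end

/-- **no cover by elements of `Fi24'`** -/
theorem caseL_of (hT : Two4) (h21 : Inv21) (h13 : Thirteen) (h13' : ThirteenPrimes) (h11 : Eleven) (hS : SelfCent)
    (hIH : IHx (Nat.card Spor.Fi24')) {Ω : Type} [Finite Ω] [Nonempty Ω] [MulAction Spor.Fi24' Ω]
    (hE : Env Spor.Fi24' Ω (⊤ : Subgroup Spor.Fi24')) {ι : Type} [Finite ι] {x : ι → Spor.Fi24'} {r : ι → ℕ}
    (hx : PF x r) (hc : Cov Ω x) : False := by
  have := fin24
  by_cases e2 : ∃ i, r i = 2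
  · obtain ⟨i, hi⟩ := e2
    have : Fact (Nat.Prime 2) := ⟨Nat.prime_two⟩
    refine even_case hT hIH hE hx hc (x i) (orderOf_eq_prime (by rw [← hi]; exact hx.pow i) (hx.ne i))
      (fun j => hx.comm j i) fun j hj => ?_
    rw [hx.inj (hj.trans hi.symm)]
  push Not at e2
  by_cases e17 : ∃ i, r i = 17 ∨ r i = 23 ∨ r i = 29
  · obtain ⟨i, hi⟩ := e17
    exact case_big hS hE hx hc i hi
  push Not at e17
  by_cases e13 : ∃ i, r i = 13
  · obtain ⟨i, hi⟩ := e13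
    exact case_13 hT h13 h13' hIH hE hx hc e2 i hi
  push Not at e13
  by_cases e11 : ∃ i, r i = 11
  · obtain ⟨i, hi⟩ := e11
    exact case_11 h11 hIH hE hx hc e2 i hi
  push Not at e11
  by_cases e5 : ∃ i, r i = 5
  · obtain ⟨i, hi⟩ := e5
    obtain ⟨f, hf⟩ := pm_five (y := (x i : Fi24)) (by rw [coe_order hx i]; exact hi)
    refine pm_case hIH hE hx hc e2 i (by norm_num) hf fun q hq hq9 hq2 hq5 => ?_
    rw [hi] at hq5
    interval_cases q <;> first | omega | (exfalso; revert hq; norm_num)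
  push Not at e5
  have hpr : ∀ j, r j = 3 ∨ r j = 7 := by
    intro j
    have h1 : r j ∣ Nat.card Fi24' := by
      have : Fact (r j).Prime := ⟨hx.prime j⟩
      rw [← orderOf_eq_prime (hx.pow j) (hx.ne j)]
      exact orderOf_dvd_natCard _
    have := prime_cases (hx.prime j) h1
    have a := e2 j
    have b := e17 j
    have c := e13 j
    have d := e11 j
    have e := e5 j
    tauto
  by_cases e7 : ∃ i, r i = 7
  · obtain ⟨i, hi⟩ := e7
    rcases pm_seven (y := (x i : Fi24)) (by rw [coe_order hx i]; exact hi) with h7 | ⟨f, hf⟩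
    · by_cases hex : ∃ j, j ≠ i
      swap
      · push Not at hex
        exact two_members hE hx hc i hex
      obtain ⟨j, hj⟩ := hex
      have h3 : ∀ k, k ≠ i → r k = 3 := fun k hk => (hpr k).resolve_right fun h => hk (hx.inj (h.trans hi.symm))
      have huniq : ∀ k, k ≠ i → k = j := fun k hk => hx.inj ((h3 k hk).trans (h3 j hj).symm)
      obtain ⟨z, hz2, hzL, hzx, hzs⟩ := h21 (x j : Fi24) (x i : Fi24) (by rw [coe_order hx j]; exact h3 j hj)
        (by rw [coe_order hx i]; exact hi) (coe_comm hx j i) h7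
      refine even_case hT hIH hE hx hc ⟨z, hzL⟩ (by rw [Subgroup.orderOf_mk]; exact hz2) (fun k => ?_)
        fun k hk => absurd hk (e2 k)
      by_cases hk : k = i
      · subst hk; exact Subtype.ext hzs.symm.eq
      · rw [huniq k hk]; exact Subtype.ext hzx.symm.eq
    · refine pm_case hIH hE hx hc e2 i (by norm_num) hf fun q hq hq9 hq2 hq5 => ?_
      rw [hi] at hq5
      interval_cases q <;> first | omega | (exfalso; revert hq; norm_num)
  push Not at e7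
  obtain ⟨ω⟩ := (inferInstance : Nonempty Ω)
  obtain ⟨i, -⟩ := hc ω
  refine two_members hE hx hc i fun j => hx.inj ?_
  rw [(hpr i).resolve_right (e7 i), (hpr j).resolve_right (e7 j)]

end Cfsg.Agent.H86.RG
end
end

-- part: H86/RG/Fi24Sev
section
prune_inst 0x400000
set_option linter.all false
open scoped Cfsg.Agent.FastGrp

/-!
# S3509, row `Fi24'`: elements of order 3 commuting with an element of class `7B` (helper86; plan of helper828)

* `inv21` : an involution of `Fi24'` commutes with both.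
-/

set_option autoImplicit false
set_option maxRecDepth 100000
open Cfsg

namespace Cfsg.Agent.H86.RG

open MulAction Subgroup
open Cfsg.Agent.R08
open Cfsg.Spor (Fi24 Fi24' Fi23)
open Cfsg.Agent.H713.B0R.FiSeven Cfsg.Agent.H842.Seven Cfsg.Agent.H842.SevenSyl
open Cfsg.Agent.Fischer.Fi24RepDef Cfsg.Agent.Fischer.Fi24Rep
open Cfsg.Agent.H468.K6.Fi (r0 r0_pow r0_c r0_y7)
open Cfsg.Agent.H842.ThreeCl (X)

/-- `s` commutes with no transposition -/
def NT (s : Fi24) : Prop := ∀ d ∈ TT, ¬ Commute s d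

theorem NT.conj {s : Fi24} (h : NT s) (g : Fi24) : NT (g * s * g⁻¹) := by
  intro d hd hc
  refine h (g⁻¹ * d * g) ?_ ?_
  · have h1 := FiTwentyFour.conj hd g⁻¹
    rwa [inv_inv] at h1
  · have h1 := hc.map (MulAut.conj g⁻¹).toMonoidHom
    have e1 : (MulAut.conj g⁻¹).toMonoidHom (g * s * g⁻¹) = s := by
      show g⁻¹ * (g * s * g⁻¹) * g⁻¹⁻¹ = s
      group
    have e2 : (MulAut.conj g⁻¹).toMonoidHom d = g⁻¹ * d * g := by
      show g⁻¹ * d * g⁻¹⁻¹ = _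
      rw [inv_inv]
    rwa [e1, e2] at h1

theorem nt_c : NT c := fun _ hd h => not_comm_c hd h.eq

theorem cM_zero {x s : Fi24} (hs : orderOf s = 7) (hc : Commute s x) (hT : NT s) : cM x ≡ 0 [MOD 7] := by
  have h1 := cM_mod hs hc
  have h2 : Nat.card {d : Mv x // Commute s (d : Fi24)} = 0 := by
    have : IsEmpty {d : Mv x // Commute s (d : Fi24)} := ⟨fun d => hT _ d.1.2.1 d.2⟩
    exact Nat.card_of_isEmpty
  rwa [h2] at h1

/-- `x` is in class 1 -/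
theorem cl_one {x s : Fi24} (hx : orderOf x = 3) (hs : orderOf s = 7) (hc : Commute s x) (hT : NT s) : Cl 1 x := by
  have hm := cM_zero hs hc hT
  have hx3 : x ^ 3 = 1 := by rw [← hx]; exact pow_orderOf_eq_one x
  have hx1 : x ≠ 1 := by
    intro h
    rw [h, orderOf_one] at hx
    exact absurd hx (by norm_num)
  obtain ⟨i, hi⟩ := exists_cl hx3 hx1
  -- the classes 2 and 4
  have key : (i = 2 ∨ i = 4) → False := by
    intro hi'
    rcases cl_cases hi' with h | h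
    · rw [hi.cM_eq, ← h.cM_eq, cMz] at hm
      exact absurd hm (by decide)
    · obtain ⟨g, hg⟩ := hi.conj h
      have hsw : Commute (g * s * g⁻¹) w1 := by
        have h1 : Commute (g * s * g⁻¹) (g * x * g⁻¹) := hc.map (MulAut.conj g).toMonoidHom
        rcases hg with hg | hg
        · rwa [hg] at h1
        · rw [hg] at h1
          have h2 := h1.inv_right
          rwa [inv_inv] at h2
      have h7 : Fact (Nat.Prime 7) := ⟨by norm_num⟩
      have hfin := fin24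
      have hfac : (Nat.card ↥(centralizer ({w1} : Set Fi24))).factorization 7 = 1 := by
        have hne : Nat.card ↥(centralizer ({w1} : Set Fi24)) ≠ 0 := Nat.card_pos.ne'
        have h1 : 7 ^ 1 ∣ Nat.card ↥(centralizer ({w1} : Set Fi24)) := by
          rw [pow_one]
          have := orderOf_dvd_natCard (⟨y7, mem_centralizer_singleton_iff.2 y7_w1⟩ : ↥(centralizer ({w1} : Set Fi24)))
          rwa [Subgroup.orderOf_mk, oy7] at this
        have h2 := (Nat.Prime.pow_dvd_iff_le_factorization h7.out hne).1 h1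
        have h3 : ¬ 2 ≤ (Nat.card ↥(centralizer ({w1} : Set Fi24))).factorization 7 := fun h =>
          not_49 ((Nat.Prime.pow_dvd_iff_le_factorization h7.out hne).2 h)
        omega
      have hos : orderOf (g * s * g⁻¹) = 7 := by rw [← hs]; exact MulEquiv.orderOf_eq (MulAut.conj g) _
      obtain ⟨⟨k, hk⟩, i', hi2⟩ := conj_of_card hfac (x := ⟨_, mem_centralizer_singleton_iff.2 hsw⟩)
        (y := ⟨_, mem_centralizer_singleton_iff.2 y7_w1⟩) (by rw [Subgroup.orderOf_mk]; exact hos)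
        (by rw [Subgroup.orderOf_mk]; exact oy7)
      have h2 : y7 ^ i' = k * (g * s * g⁻¹) * k⁻¹ := congrArg Subtype.val hi2
      refine (hT.conj g).conj k (gen .l) (FiTwentyFour.gen_mem_L .l) ?_
      rw [← h2]
      exact (show Commute y7 (gen .l) from y7_t 0).zpow_left i'
  fin_cases i
  · exfalso
    have h : cM x = cM (X 0) := hi.cM_eq
    rw [h, cM0] at hm
    exact absurd hm (by decide)
  · exact hi
  · exact (key (Or.inl rfl)).elim
  · exfalso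
    have h : cM x = cM (X 3) := hi.cM_eq
    rw [h, cM3] at hm
    exact absurd hm (by decide)
  · exact (key (Or.inr rfl)).elim

/-! ### Permutations of seven points -/

theorem perm_21 {σ ρ : Equiv.Perm (Fin 7)} (h7 : σ ^ 7 = 1) (hσ : σ ≠ 1) (h3 : ρ ^ 3 = 1) (hc : ρ * σ = σ * ρ) : ρ = 1 := by
  have f3 : Fact (Nat.Prime 3) := ⟨Nat.prime_three⟩
  have f7 : Fact (Nat.Prime 7) := ⟨by norm_num⟩
  -- a fixed point of ρ
  have h1 := Equiv.Perm.card_compl_support_modEq (p := 3) (n := 1) (σ := ρ) (by rw [pow_one]; exact h3)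
  rw [Fintype.card_fin] at h1
  obtain ⟨a, ha⟩ : (ρ.supportᶜ).Nonempty := by
    rw [← Finset.card_pos]
    rcases Nat.eq_zero_or_pos (ρ.supportᶜ).card with h | h
    · rw [h] at h1
      exact absurd h1 (by decide)
    · exact h
  rw [Finset.mem_compl, Equiv.Perm.mem_support, not_not] at ha
  -- σ has no fixed point
  have h2 := Equiv.Perm.card_compl_support_modEq (p := 7) (n := 1) (σ := σ) (by rw [pow_one]; exact h7)
  rw [Fintype.card_fin] at h2
  have hs0 : (σ.supportᶜ).card = 0 := by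
    have h4 := Finset.card_add_card_compl σ.support
    rw [Fintype.card_fin] at h4
    have h5 : σ.support.card ≠ 0 := by
      rw [Ne, Equiv.Perm.card_support_eq_zero]; exact hσ
    have h6 : (σ.supportᶜ).card < 7 := by omega
    unfold Nat.ModEq at h2
    rw [Nat.mod_eq_of_lt h6] at h2
    exact h2
  have hnf : ∀ b, σ b ≠ b := by
    intro b hb
    rw [Finset.card_eq_zero] at hs0
    have : b ∈ σ.supportᶜ := by rw [Finset.mem_compl, Equiv.Perm.mem_support, not_not]; exact hb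
    rw [hs0] at this
    exact absurd this (Finset.notMem_empty _)
  have hinj : Function.Injective (fun i : Fin 7 => (σ ^ (i : ℕ)) a) := by
    have key : ∀ i j : Fin 7, (i : ℕ) < j → (σ ^ (i : ℕ)) a = (σ ^ (j : ℕ)) a → False := by
      intro i j hij h
      have h4 : (σ ^ ((j : ℕ) - i)) a = a := by
        apply (σ ^ (i : ℕ)).injective
        rw [← Equiv.Perm.mul_apply, ← pow_add, h]
        congr 2
        omega
      obtain ⟨m, -, hm⟩ := Nat.exists_mul_mod_eq_one_of_coprime (k := 7) (n := (j : ℕ) - i) (by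
        refine ((f7.out.coprime_iff_not_dvd).2 fun h => ?_).symm
        have := Nat.le_of_dvd (by omega) h
        omega) (by norm_num)
      have h5 : σ = (σ ^ ((j : ℕ) - i)) ^ m := by
        rw [← pow_mul, pow_eq_pow_mod _ h7, hm, pow_one]
      apply hnf a
      rw [h5]
      exact Equiv.Perm.pow_apply_eq_self_of_apply_eq_self h4 m
    intro i j h
    rcases lt_trichotomy (i : ℕ) j with h4 | h4 | h4
    · exact (key i j h4 h).elim
    · exact Fin.ext h4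
    · exact (key j i h4 h.symm).elim
  have hsurj := Finite.injective_iff_surjective.1 hinj
  apply Equiv.ext
  intro b
  obtain ⟨i, rfl⟩ := hsurj b
  show ρ ((σ ^ (i : ℕ)) a) = (σ ^ (i : ℕ)) a
  have h4 : Commute ρ (σ ^ (i : ℕ)) := (show Commute ρ σ from hc).pow_right _
  have h5 : ρ ((σ ^ (i : ℕ)) a) = (σ ^ (i : ℕ)) (ρ a) := congrArg (fun f : Equiv.Perm (Fin 7) => f a) h4.eq
  rw [h5, ha]

/-! ### The centralizer of `r0` -/

theorem c_ord : orderOf c = 7 := by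
  have : Fact (Nat.Prime 7) := ⟨by norm_num⟩
  exact orderOf_eq_prime Cfsg.Agent.H842.SevenSyl.c_pow c_ne

theorem r0_ne : r0 ≠ 1 := by
  intro h
  have h1 := r0_y7
  rw [h, one_mul, inv_one, mul_one] at h1
  have h2 : y7 ^ 8 = 1 := by
    have h3 : y7 ^ 8 * y7 = 1 * y7 := by rw [one_mul, ← pow_succ]; exact h1.symm
    exact mul_right_cancel h3
  have h3 := orderOf_dvd_of_pow_eq_one h2
  rw [oy7] at h3
  omega

theorem r0_ord : orderOf r0 = 3 := by
  have : Fact (Nat.Prime 3) := ⟨Nat.prime_three⟩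
  exact orderOf_eq_prime r0_pow r0_ne

/-- an element of order 7 commuting with `r0`, `c` commutes with no transposition -/
theorem nt_of {k : Fi24} (hk7 : k ^ 7 = 1) (hk1 : k ≠ 1) (hkr : Commute k r0) (hkc : Commute k c) : NT k := by
  have f7 : Fact (Nat.Prime 7) := ⟨by norm_num⟩
  rcases pm_seven (orderOf_eq_prime hk7 hk1) with h | ⟨f, hf⟩
  · exact h
  exfalso
  obtain ⟨ρ, hρ⟩ := hf.others (p := 7) (q := 3) (by norm_num) (by norm_num) Nat.prime_three (by norm_num) hk7 r0_pow hkr.symm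
  obtain ⟨m, σ, hσ⟩ := hf.ex c hkc.symm
  have hcm : Commute (k ^ m) (f σ) := (hf.com σ).symm.zpow_left m
  have hkm : (k ^ m) ^ 7 = 1 := by
    rw [← zpow_natCast (k ^ m), ← zpow_mul, mul_comm, zpow_mul, zpow_natCast, hk7, one_zpow]
  have hσ7 : σ ^ 7 = 1 := by
    apply hf.inj
    have h1 := Cfsg.Agent.H842.SevenSyl.c_pow
    rw [hσ, hcm.mul_pow, hkm, one_mul] at h1
    rw [map_pow, h1, map_one]
  have hσ1 : σ ≠ 1 := by
    intro h
    rw [h, map_one, mul_one] at hσ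
    refine nt_c (f (Equiv.swap 0 1)) (hf.sw 0 1 (by decide)) ?_
    rw [hσ]
    exact ((hf.com _).symm).zpow_left m
  have hρ3 : ρ ^ 3 = 1 := hf.inj (by rw [map_pow, ← hρ, r0_pow, map_one])
  have hcr : ρ * σ = σ * ρ := by
    apply hf.inj
    rw [map_mul, map_mul, ← hρ]
    have h1 : Commute r0 c := r0_c
    rw [hσ] at h1
    have h2 : Commute r0 (k ^ m) := hkr.symm.zpow_right m
    have h3 : Commute r0 (k ^ m * f σ) := h1
    have h4 : Commute r0 ((k ^ m)⁻¹ * (k ^ m * f σ)) := h2.inv_right.mul_right h3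
    rwa [inv_mul_cancel_left] at h4
  apply r0_ne
  rw [hρ, perm_21 hσ7 hσ1 hρ3 hcr, map_one]

theorem cl_r0 : Cl 1 r0 := cl_one r0_ord c_ord (show Commute r0 c from r0_c).symm nt_c

/-- the transpositions commuting with `r0` -/
def D1 : Set Fi24 := {d | d ∈ FiTwentyFour.L ∧ Commute r0 d}

theorem ncard_D1 : D1.ncard = 378 := by
  have := fin24
  have h3 : (Mv r0 ∪ D1).ncard = (Mv r0).ncard + D1.ncard :=
    Set.ncard_union_eq (Set.disjoint_left.2 fun d h4 h5 => h4.2 h5.2)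
  have h4 : Mv r0 ∪ D1 = FiTwentyFour.L := by
    ext d
    constructor
    · rintro (h | h)
      · exact h.1
      · exact h.1
    · intro h
      by_cases hc : Commute r0 d
      · exact Or.inr ⟨h, hc⟩
      · exact Or.inl ⟨h, hc⟩
  rw [h4, FiTwentyFour.ncard_L] at h3
  have h5 : (Mv r0).ncard = 306558 := by
    have h6 : cM r0 = cM (X 1) := cl_r0.cM_eq
    rw [cM1] at h6
    exact h6
  omega

theorem not_49_r0 : ¬ 7 ^ 2 ∣ Nat.card ↥(centralizer ({r0} : Set Fi24)) := by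
  intro h
  have := fin24
  have h7 : Fact (Nat.Prime 7) := ⟨by norm_num⟩
  set H := centralizer ({r0} : Set Fi24) with hH
  have hc : c ∈ H := mem_centralizer_singleton_iff.2 (show Commute r0 c from r0_c).symm.eq
  obtain ⟨K, hK, hle⟩ := Sylow.exists_subgroup_card_pow_succ (p := 7) (n := 1) (G := H) h
    (H := zpowers (⟨c, hc⟩ : H)) (by rw [Nat.card_zpowers, Subgroup.orderOf_mk, c_ord, pow_one])
  have hcomm : ∀ a b : K, a * b = b * a := IsPGroup.commutative_of_card_eq_prime_sq hK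
  have hkr : ∀ k : K, Commute (((k : H) : Fi24)) r0 := fun k => mem_centralizer_singleton_iff.1 (k : H).2
  have hkc : ∀ k : K, Commute (((k : H) : Fi24)) c := by
    intro k
    have h2 := hcomm k ⟨⟨c, hc⟩, hle (mem_zpowers _)⟩
    exact congrArg (fun a : K => ((a : H) : Fi24)) h2
  have hnt : ∀ k : K, k ≠ 1 → NT ((k : H) : Fi24) := by
    intro k hk
    have hk1 : ((k : H) : Fi24) ≠ 1 := fun h => hk (Subtype.ext (Subtype.ext h))
    by_cases h8 : ((k : H) : Fi24) ^ 7 = 1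
    · exact nt_of h8 hk1 (hkr k) (hkc k)
    · have h49 : ((k : H) : Fi24) ^ 49 = 1 := by
        have h6 : orderOf k ∣ 49 := by
          have := orderOf_dvd_natCard k
          rw [hK] at this
          exact this
        have h7 := orderOf_dvd_iff_pow_eq_one.1 h6
        exact congrArg (fun a : K => ((a : H) : Fi24)) h7
      intro d hd hkd
      refine nt_of (k := ((k : H) : Fi24) ^ 7) ?_ h8 ((hkr k).pow_left 7) ((hkc k).pow_left 7) d hd (hkd.pow_left 7)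
      rw [← pow_mul]; exact h49
  -- the action on the 378 transpositions
  have hact : ∀ (k : K) (d : Fi24), d ∈ D1 → ((k : H) : Fi24) * d * ((k : H) : Fi24)⁻¹ ∈ D1 := by
    rintro k d ⟨h1, h2⟩
    refine ⟨FiTwentyFour.conj h1 _, ?_⟩
    exact ((hkr k).symm.mul_right h2).mul_right (hkr k).symm.inv_right
  let _ : MulAction K D1 :=
    { smul := fun k d => ⟨((k : H) : Fi24) * d * ((k : H) : Fi24)⁻¹, hact k d d.2⟩
      one_smul := fun d => Subtype.ext (by show (1 : Fi24) * d * (1 : Fi24)⁻¹ = d; group)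
      mul_smul := fun x y d => Subtype.ext (by
        show (((x : H) : Fi24) * ((y : H) : Fi24)) * d * (((x : H) : Fi24) * ((y : H) : Fi24))⁻¹ =
          ((x : H) : Fi24) * (((y : H) : Fi24) * d * ((y : H) : Fi24)⁻¹) * ((x : H) : Fi24)⁻¹
        group) }
  have hfree : ∀ d : D1, stabilizer K d = ⊥ := by
    intro d
    rw [eq_bot_iff]
    intro k hk
    rw [mem_bot]
    by_contra hk1
    have h1 : ((k : H) : Fi24) * d * ((k : H) : Fi24)⁻¹ = d := congrArg Subtype.val (mem_stabilizer_iff.1 hk)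
    exact hnt k hk1 d d.2.1 (mul_inv_eq_iff_eq_mul.1 h1)
  have h1 := Nat.card_congr (MulAction.selfEquivOrbitsQuotientProd hfree)
  rw [Nat.card_prod, hK] at h1
  have h2 : Nat.card D1 = 378 := ncard_D1
  rw [h2] at h1
  omega

/-! ### The involution -/

theorem t6_three_sq : (t6 ^ 3) ^ 2 = 1 := by rw [← pow_mul]; exact t6_pow

theorem t6_three_ne : t6 ^ 3 ≠ 1 := by
  intro h
  have h1 : t6 ^ 3 * y7 * (t6 ^ 3)⁻¹ = y7 ^ 27 := by
    rw [← gp_conj_three, t6_y7, ← conj_pow, t6_y7, ← conj_pow, ← conj_pow, t6_y7, ← pow_mul, ← pow_mul]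
  rw [h, one_mul, inv_one, mul_one] at h1
  have h2 : y7 ^ 26 = 1 := by
    have h3 : y7 ^ 26 * y7 = 1 * y7 := by rw [one_mul, ← pow_succ]; exact h1.symm
    exact mul_right_cancel h3
  have h3 := orderOf_dvd_of_pow_eq_one h2
  rw [oy7] at h3
  omega

theorem t6_mem : t6 ∈ commutator Fi24 := by
  have hs7 : LThreeFi24.SNine.s 7 ∈ FiTwentyFour.L := t_mem 5
  have e : t6 = (gen .h * gen .f) * ((gen .e * gen .d) * ((gen .f * gen .j) * (gen .g * LThreeFi24.SNine.s 7))) := by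
    unfold t6
    rw [t0_eq]
    simp only [mul_assoc]
  rw [e]
  have hg := FiTwentyFour.gen_mem_L
  exact mul_mem (FiTwentyFour.even (hg _) (hg _)) (mul_mem (FiTwentyFour.even (hg _) (hg _))
    (mul_mem (FiTwentyFour.even (hg _) (hg _)) (FiTwentyFour.even (hg _) hs7)))

/-- **an element of order 3 and an element of class `7B`** -/
theorem inv21 : Inv21 := by
  intro x s hx hs hxs hT
  have hfin := fin24
  have f2 : Fact (Nat.Prime 2) := ⟨Nat.prime_two⟩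
  have f7 : Fact (Nat.Prime 7) := ⟨by norm_num⟩
  obtain ⟨g, hg⟩ := (cl_one hx hs hxs.symm hT).conj cl_r0
  have hsr : Commute (g * s * g⁻¹) r0 := by
    have h1 : Commute (g * s * g⁻¹) (g * x * g⁻¹) := hxs.symm.map (MulAut.conj g).toMonoidHom
    rcases hg with hg | hg
    · rwa [hg] at h1
    · rw [hg] at h1
      have h2 := h1.inv_right
      rwa [inv_inv] at h2
  have hfac : (Nat.card ↥(centralizer ({r0} : Set Fi24))).factorization 7 = 1 := by
    have hne : Nat.card ↥(centralizer ({r0} : Set Fi24)) ≠ 0 := Nat.card_pos.ne'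
    have h1 : 7 ^ 1 ∣ Nat.card ↥(centralizer ({r0} : Set Fi24)) := by
      rw [pow_one]
      have := orderOf_dvd_natCard (⟨c, mem_centralizer_singleton_iff.2
        (show Commute r0 c from r0_c).symm.eq⟩ : ↥(centralizer ({r0} : Set Fi24)))
      rwa [Subgroup.orderOf_mk, c_ord] at this
    have h2 := (Nat.Prime.pow_dvd_iff_le_factorization f7.out hne).1 h1
    have h3 : ¬ 2 ≤ (Nat.card ↥(centralizer ({r0} : Set Fi24))).factorization 7 := fun h =>
      not_49_r0 ((Nat.Prime.pow_dvd_iff_le_factorization f7.out hne).2 h)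
    omega
  have hos : orderOf (g * s * g⁻¹) = 7 := by rw [← hs]; exact MulEquiv.orderOf_eq (MulAut.conj g) _
  obtain ⟨⟨k, hk⟩, i, hi⟩ := conj_of_card hfac (x := ⟨_, mem_centralizer_singleton_iff.2 hsr⟩)
    (y := ⟨_, mem_centralizer_singleton_iff.2 (show Commute r0 c from r0_c).symm.eq⟩)
    (by rw [Subgroup.orderOf_mk]; exact hos) (by rw [Subgroup.orderOf_mk]; exact c_ord)
  have h2 : c ^ i = k * (g * s * g⁻¹) * k⁻¹ := congrArg Subtype.val hi
  have hkr : Commute k r0 := mem_centralizer_singleton_iff.1 hk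
  -- conjugating back
  have back : ∀ a b : Fi24, Commute a ((k * g) * b * (k * g)⁻¹) → Commute ((k * g)⁻¹ * a * (k * g)) b := by
    intro a b h
    have h1 := h.map (MulAut.conj (k * g)⁻¹).toMonoidHom
    have e1 : (MulAut.conj (k * g)⁻¹).toMonoidHom a = (k * g)⁻¹ * a * (k * g) := by
      show (k * g)⁻¹ * a * (k * g)⁻¹⁻¹ = _
      rw [inv_inv]
    have e2 : (MulAut.conj (k * g)⁻¹).toMonoidHom ((k * g) * b * (k * g)⁻¹) = b := by
      show (k * g)⁻¹ * ((k * g) * b * (k * g)⁻¹) * (k * g)⁻¹⁻¹ = _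
      group
    rwa [e1, e2] at h1
  have ht0 : Commute t6 c := by rw [c_eq]; exact t6_Psi _
  have htc : Commute (t6 ^ 3) (c ^ i) := (ht0.pow_left 3).zpow_right i
  have htr : Commute (t6 ^ 3) r0 := by
    show Commute (t6 ^ 3) (t6 ^ 2)
    exact Commute.pow_pow_self t6 3 2
  have hmem : t6 ^ 3 ∈ commutator Fi24 := pow_mem t6_mem 3
  refine ⟨(k * g)⁻¹ * t6 ^ 3 * (k * g), ?_, ?_, back _ _ ?_, back _ _ ?_⟩
  · have h3 : orderOf (t6 ^ 3) = 2 := orderOf_eq_prime t6_three_sq t6_three_ne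
    rw [← h3]
    have := MulEquiv.orderOf_eq (MulAut.conj (k * g)⁻¹) (t6 ^ 3)
    rw [MulAut.conj_apply, inv_inv] at this
    exact this
  · have h3 := (inferInstance : (commutator Fi24).Normal).conj_mem _ hmem (k * g)⁻¹
    rwa [inv_inv] at h3
  · have e : (k * g) * x * (k * g)⁻¹ = k * (g * x * g⁻¹) * k⁻¹ := by group
    rw [e]
    rcases hg with hg | hg
    · rw [hg, hkr.eq, mul_inv_cancel_right]; exact htr
    · rw [hg, hkr.inv_right.eq, mul_inv_cancel_right]; exact htr.inv_right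
  · have e : (k * g) * s * (k * g)⁻¹ = k * (g * s * g⁻¹) * k⁻¹ := by group
    rw [e, ← h2]
    exact htc

end Cfsg.Agent.H86.RG
end

-- part: H922/RG/PhiA
section
prune_inst 0x40307c000062120000000002e2003c4694000402004b8c009c6103000c82de600d02ae201d301a1b4820808800340068135c0430c21000000a2004004025060910ab5206b358ad0414008e801806400000000000000000000000000000041000000400000
set_option linter.all false
open scoped Cfsg.Agent.FastGrp

-- part: H922/RG/PhiL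
section
/-!
# S3509, `³D₄(q)`: the lattice statements for the torus `Φ₁₂` (helper922)

`θ = w · tri` with `θ⁴ + 1 = θ²`:
* `gen_root` : a `θ`-stable subgroup containing a root is everything;
* `comm_cases` : an element of the Weyl group commuting with `θ` is `1`, `-1` or has square `-1`.
-/

set_option autoImplicit false
set_option linter.unusedSectionVars false

namespace Cfsg.Agent.H922.RG

open CoxeterSystem Cfsg Cfsg.Lie Cfsg.Lie.ChevalleyDatum
open Cfsg.Agent.ChevalleyStructure Cfsg.Agent.ChevalleyStructure.Elts Cfsg.Agent.ChevalleyStructure.CoxeterGeom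
  Cfsg.Agent.ChevalleyStructure.CoxeterGeomTypes Cfsg.Agent.ChevalleyStructure.NPerm
open Cfsg.Agent.Tits.Roots Cfsg.Agent.Nodes
open Cfsg.Agent.H378.OmD4 Cfsg.Agent.H129.TriD4

universe v

/-- the relation for a matrix -/
def P12 (F : Mx) : Prop := ∀ j : Fin 4, (F.ap (F.ap (F.ap (F.ap (bas j))))).add (bas j) = F.ap (F.ap (bas j))

instance (F : Mx) : Decidable (P12 F) := inferInstanceAs (Decidable (∀ _ : Fin 4, _))

theorem p12_rep : ∀ i : Fin 7, P12 (reps i) → i = 3 := by decide +kernel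

theorem det_rep : ∀ v ∈ pos, IsU (det4 v ((reps 3).ap v) ((reps 3).ap ((reps 3).ap v))
    ((reps 3).ap ((reps 3).ap ((reps 3).ap v)))) := by decide +kernel

/-- the matrix of the Weyl group element -/
def wm (F : Mx) : Mx := F.mul (T.mul T)

/-- the elements commuting with `reps 3` -/
theorem comm_rep : ∀ e ∈ Tab, (∀ j : Fin 4, (wm e.1).ap ((reps 3).ap (bas j)) = (reps 3).ap ((wm e.1).ap (bas j))) →
    (∀ j : Fin 4, (wm e.1).ap (bas j) = bas j) ∨ (∀ j : Fin 4, (wm e.1).ap (bas j) = (bas j).sm (-1)) ∨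
      ∀ j : Fin 4, (wm e.1).ap ((wm e.1).ap (bas j)) = (bas j).sm (-1) := by decide +kernel

variable {W : Type v} [Group W] (cs : CoxeterSystem coxeterD4 W)

theorem isM_wm {e : Mx} {w : W} (h : H378.OmD4.IsM e (fun x => rep cs RGDTwD4.hp.isCartan w (tri x))) :
    H378.OmD4.IsM (wm e) (fun x => rep cs RGDTwD4.hp.isCartan w x) := by
  have h1 := h.mul (isM_tri.mul isM_tri)
  intro v
  refine Eq.trans ?_ (h1 v)
  show rep cs RGDTwD4.hp.isCartan w v.fn = rep cs RGDTwD4.hp.isCartan w (tri (tri (tri v.fn)))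
  have h2 : ∀ x : Fin 4 → ℤ, tri (tri (tri x)) = x := by
    intro x
    funext i
    rw [tri_apply, tri_apply, tri_apply]
    fin_cases i <;> rfl
  rw [h2]

/-- an additive map is determined by its values at the simple roots -/
theorem eq_of_bas {f g : (Fin 4 → ℤ) →+ (Fin 4 → ℤ)} (h : ∀ j, f (bas j).fn = g (bas j).fn) (x : Fin 4 → ℤ) :
    f x = g x := by
  have h1 : x = ∑ i, x i • (sr i : Fin 4 → ℤ) := H129.TorusChar.IsMC.eq_sum_sr x
  rw [h1, map_sum, map_sum]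
  refine Finset.sum_congr rfl fun i _ => ?_
  rw [map_zsmul, map_zsmul, ← fn_bas, h]

variable {cs}

/-- the conjugate representative of `θ` -/
theorem exists_conj3 {w : W} {θ : (Fin 4 → ℤ) ≃+ (Fin 4 → ℤ)}
    (hθ : ∀ x, θ x = rep cs RGDTwD4.hp.isCartan w (tri x)) (hΦ : ∀ x, θ (θ (θ (θ x))) + x = θ (θ x)) :
    ∃ v : W, H378.OmD4.IsM (reps 3) (fun x => rep cs RGDTwD4.hp.isCartan v (θ (rep cs RGDTwD4.hp.isCartan v⁻¹ x))) := by
  obtain ⟨v, i, h⟩ := exists_conj_rep cs w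
  have h' : H378.OmD4.IsM (reps i) (fun x => rep cs RGDTwD4.hp.isCartan v (θ (rep cs RGDTwD4.hp.isCartan v⁻¹ x))) := by
    intro y
    rw [← h y]
    show rep cs _ v (θ _) = _
    rw [hθ]
  have hP : P12 (reps i) := by
    intro j
    apply fn_inj
    rw [fn_add]
    have e1 : ∀ u : V, ((reps i).ap u).fn = rep cs RGDTwD4.hp.isCartan v (θ (rep cs RGDTwD4.hp.isCartan v⁻¹ u.fn)) :=
      fun u => (h' u).symm
    simp only [e1, rep_inv_apply]
    have e2 := congrArg (rep cs RGDTwD4.hp.isCartan v) (hΦ (rep cs RGDTwD4.hp.isCartan v⁻¹ (bas j).fn))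
    rw [map_add] at e2
    rw [← e2]
    congr 1
    rw [← rep_mul_apply, mul_inv_cancel, map_one, Module.End.one_apply]
  have hi := p12_rep i hP
  subst hi
  exact ⟨v, h'⟩

/-- **A stable subgroup containing a root is everything.** -/
theorem gen_root {w : W} {θ : (Fin 4 → ℤ) ≃+ (Fin 4 → ℤ)}
    (hθ : ∀ x, θ x = rep cs RGDTwD4.hp.isCartan w (tri x)) (hΦ : ∀ x, θ (θ (θ (θ x))) + x = θ (θ x))
    {P : (Fin 4 → ℤ) → Prop} (hadd : ∀ x y, P x → P y → P (x + y)) (hsm : ∀ (n : ℤ) x, P x → P (n • x))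
    (hst : ∀ x, P x → P (θ x)) {a : Fin 4 → ℤ} (ha : IsRoot cs RGDTwD4.hp.isCartan a) (h : P a) (x : Fin 4 → ℤ) :
    P x := by
  obtain ⟨v, hv⟩ := exists_conj3 hθ hΦ
  have K : KK (reps 3) (fun u => P (rep cs RGDTwD4.hp.isCartan v⁻¹ u.fn)) := by
    refine ⟨fun u u' hu hu' => ?_, fun n u hu => ?_, fun u hu => ?_⟩
    · rw [fn_add, map_add]
      exact hadd _ _ hu hu'
    · rw [fn_sm, map_zsmul]
      exact hsm _ _ hu
    · rw [← hv u]
      show P (rep cs RGDTwD4.hp.isCartan v⁻¹ (rep cs RGDTwD4.hp.isCartan v _))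
      rw [rep_inv_apply]
      exact hst _ hu
  have key : ∀ b, IsRoot cs RGDTwD4.hp.isCartan b → 0 ≤ b → P (rep cs RGDTwD4.hp.isCartan v⁻¹ b) →
      ∀ u : V, P (rep cs RGDTwD4.hp.isCartan v⁻¹ u.fn) := by
    intro b hb h0 hPb u
    obtain ⟨y, hy, rfl⟩ := mem_pos cs hb h0
    exact K.of_det hPb (K.ap _ hPb) (K.ap _ (K.ap _ hPb)) (K.ap _ (K.ap _ (K.ap _ hPb))) (det_rep y hy) u
  have hva := ha.act v
  have hall : ∀ u : V, P (rep cs RGDTwD4.hp.isCartan v⁻¹ u.fn) := by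
    rcases hva.pos_or_neg with h0 | h0
    · refine key _ hva h0 ?_
      rwa [rep_inv_apply]
    · refine key _ hva.neg (neg_nonneg.2 h0) ?_
      rw [map_neg, rep_inv_apply]
      have := hsm (-1) a h
      rwa [neg_smul, one_smul] at this
  obtain ⟨u, hu⟩ := exists_fn (rep cs RGDTwD4.hp.isCartan v x)
  have h2 := hall u
  rwa [hu, rep_inv_apply] at h2

/-- **The centraliser of `θ` in the Weyl group.** -/
theorem comm_cases {w : W} {θ : (Fin 4 → ℤ) ≃+ (Fin 4 → ℤ)}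
    (hθ : ∀ x, θ x = rep cs RGDTwD4.hp.isCartan w (tri x)) (hΦ : ∀ x, θ (θ (θ (θ x))) + x = θ (θ x)) {w' : W}
    (hc : ∀ x, rep cs RGDTwD4.hp.isCartan w' (θ x) = θ (rep cs RGDTwD4.hp.isCartan w' x)) :
    (∀ x, rep cs RGDTwD4.hp.isCartan w' x = x) ∨ (∀ x, rep cs RGDTwD4.hp.isCartan w' x = -x) ∨
      ∀ x, rep cs RGDTwD4.hp.isCartan w' (rep cs RGDTwD4.hp.isCartan w' x) = -x := by
  obtain ⟨v, hv⟩ := exists_conj3 hθ hΦ
  obtain ⟨e, he, he1⟩ := exists_tab cs (v * w' * v⁻¹)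
  have h1 := isM_wm cs he1
  have e1 : ∀ x, rep cs RGDTwD4.hp.isCartan (v * w' * v⁻¹) x = rep cs RGDTwD4.hp.isCartan v
      (rep cs RGDTwD4.hp.isCartan w' (rep cs RGDTwD4.hp.isCartan v⁻¹ x)) := by
    intro x
    rw [rep_mul_apply, rep_mul_apply]
  have hG : ∀ u : V, ((wm e.1).ap u).fn = rep cs RGDTwD4.hp.isCartan v
      (rep cs RGDTwD4.hp.isCartan w' (rep cs RGDTwD4.hp.isCartan v⁻¹ u.fn)) := by
    intro u
    rw [← h1 u]
    exact e1 _
  have hF : ∀ u : V, ((reps 3).ap u).fn = rep cs RGDTwD4.hp.isCartan v (θ (rep cs RGDTwD4.hp.isCartan v⁻¹ u.fn)) :=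
    fun u => (hv u).symm
  have hcomm : ∀ j : Fin 4, (wm e.1).ap ((reps 3).ap (bas j)) = (reps 3).ap ((wm e.1).ap (bas j)) := by
    intro j
    apply fn_inj
    rw [hG, hF, hF, hG, rep_inv_apply, rep_inv_apply, hc]
  have hback : ∀ (φ : (Fin 4 → ℤ) →+ (Fin 4 → ℤ)) (c : ℤ),
      (∀ j : Fin 4, rep cs RGDTwD4.hp.isCartan v (φ (rep cs RGDTwD4.hp.isCartan v⁻¹ (bas j).fn)) = c • (bas j).fn) →
      ∀ x, φ x = c • x := by
    intro φ c h x
    obtain ⟨y, rfl⟩ : ∃ y, x = rep cs RGDTwD4.hp.isCartan v⁻¹ y := ⟨rep cs RGDTwD4.hp.isCartan v x, (rep_inv_apply ..).symm⟩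
    have h2 := eq_of_bas (f := ((rep cs RGDTwD4.hp.isCartan v).toAddMonoidHom.comp
      (φ.comp (rep cs RGDTwD4.hp.isCartan v⁻¹).toAddMonoidHom))) (g := (zsmulAddGroupHom c)) (fun j => h j) y
    have h3 : rep cs RGDTwD4.hp.isCartan v (φ (rep cs RGDTwD4.hp.isCartan v⁻¹ y)) = c • y := h2
    have h4 := congrArg (rep cs RGDTwD4.hp.isCartan v⁻¹) h3
    rw [rep_inv_apply, map_zsmul] at h4
    exact h4
  rcases comm_rep e he hcomm with h | h | h
  · left
    intro x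
    have := hback (rep cs RGDTwD4.hp.isCartan w').toAddMonoidHom 1 (fun j => by
      have h2 := congrArg V.fn (h j)
      rw [hG] at h2
      rw [one_smul]
      exact h2) x
    rw [one_smul] at this
    exact this
  · right; left
    intro x
    have := hback (rep cs RGDTwD4.hp.isCartan w').toAddMonoidHom (-1) (fun j => by
      have h2 := congrArg V.fn (h j)
      rw [hG, fn_sm] at h2
      exact h2) x
    rw [neg_smul, one_smul] at this
    exact this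
  · right; right
    intro x
    have := hback ((rep cs RGDTwD4.hp.isCartan w').toAddMonoidHom.comp (rep cs RGDTwD4.hp.isCartan w').toAddMonoidHom)
      (-1) (fun j => by
      have h2 := congrArg V.fn (h j)
      rw [hG, hG, rep_inv_apply, fn_sm] at h2
      exact h2) x
    rw [neg_smul, one_smul] at this
    exact this

end Cfsg.Agent.H922.RG
end

-- part: H922/RG/PhiA
section
/-!
# S3509, `³D₄(q)`: the centralisers in the torus of type `Φ₁₂` (helper922)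

`m : MData RGDTwD4.hp r q K₀`, `f : TorForm m s`, `θ⁴ + 1 = θ²`:
* `cent_le` : an element fixed by `α` and commuting with `1 ≠ t₁ ∈ TT^α` lies in `TT`;
* `card_cent` : `|Y^σ ∩ C(s₁)| ≤ q⁴ - q² + 1` for all `1 ≠ s₁ ∈ ⟨s⟩`;
* `pow12` : `s ^ (q⁴ - q² + 1) = 1`.
-/

set_option autoImplicit false
set_option linter.unusedSectionVars false

namespace Cfsg.Agent.H922.RG

open CoxeterSystem Cfsg Cfsg.Lie Cfsg.Lie.ChevalleyDatum
open Cfsg.Agent.ChevalleyStructure Cfsg.Agent.ChevalleyStructure.Elts Cfsg.Agent.ChevalleyStructure.CoxeterGeom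
  Cfsg.Agent.ChevalleyStructure.CoxeterGeomTypes Cfsg.Agent.ChevalleyStructure.NPerm
open Cfsg.Agent.Tits.Roots Cfsg.Agent.Tits.Core Cfsg.Agent.Nodes Cfsg.Agent.Nodes.Reps Cfsg.Agent.Nodes.BNOf
  Cfsg.Agent.Nodes.RGDChev Cfsg.Agent.Nodes.Bruhat Cfsg.Agent.Nodes.NormalForm
open Cfsg.Agent.KFacts.RgdField Cfsg.Agent.KFacts.RgdChevCoord
open Cfsg.Agent.BpExc Cfsg.Agent.BpExc.TorCent Cfsg.Agent.BpExc.TorChev Cfsg.Agent.BpExc.Tow
  Cfsg.Agent.BpExc.TowChev Cfsg.Agent.BpExc.Fr Cfsg.Agent.BpExc.Pair Cfsg.Agent.BpExc.LangFr Cfsg.Agent.GpExc.Field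
  Cfsg.Agent.BpExc.NInst Cfsg.Agent.BpExc.NChev
open Cfsg.Agent.H469.Exc Cfsg.Agent.H316.U6 Cfsg.Agent.H169.RG
open Cfsg.Agent.H129.TorusChar Cfsg.Agent.H129.TriD4

universe u v

theorem tri_eq : H720.TwFr.permE H720.TwFr.rho4 = tri := by
  ext x i
  show x (H720.TwFr.rho4.symm i) = (![x 3, x 1, x 0, x 2] : Fin 4 → ℤ) i
  fin_cases i <;> rfl

section

variable {r q : ℕ} [hr : Fact r.Prime] {K₀ : Type v} [Group K₀] {m : MData RGDTwD4.hp r q K₀}
  {s : ↥(chevD4.group (KK r))} (f : TorForm m s) (hg : m.g = tri)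
  (hΦ : ∀ x, f.θ (f.θ (f.θ (f.θ x))) + x = f.θ (f.θ x))

include hg in
theorem theta_eq (x : Fin 4 → ℤ) : f.θ x = rep coxeterD4.toCoxeterSystem RGDTwD4.hp.isCartan f.w (tri x) := by
  rw [f.hθ, hg]

/-- the character -/
theorem chi_theta {t₁ : ↥(chevD4.group (KK r))} (ht : t₁ ∈ TT chevD4 (KK r)) (hα : f.α t₁ = t₁) (x : Fin 4 → ℤ) :
    cX RGDTwD4.hp t₁ (f.θ x) = cX RGDTwD4.hp t₁ x ^ q := by
  have h1 := cX_sigma RGDTwD4.hp coxeterD4.toCoxeterSystem f.frob f.fr ht x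
  have h2 : (MulAut.conj f.n * m.σ) t₁ = t₁ := hα
  rw [h2, m.hq] at h1
  exact h1

include hg hΦ in
/-- the roots are not trivial on the elements `≠ 1` -/
theorem eq_one_of_root {t₁ : ↥(chevD4.group (KK r))} (ht : t₁ ∈ TT chevD4 (KK r)) (hα : f.α t₁ = t₁)
    {a : Fin 4 → ℤ} (ha : IsRoot coxeterD4.toCoxeterSystem RGDTwD4.hp.isCartan a) (h : cX RGDTwD4.hp t₁ a = 1) :
    t₁ = 1 := by
  have hmc := isMC_cX RGDTwD4.hp ht
  have key := gen_root (θ := f.θ) (theta_eq f hg) hΦ (P := fun x => cX RGDTwD4.hp t₁ x = 1)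
    (fun x y hx hy => by rw [hmc.add, hx, hy, one_mul]) (fun n x hx => by rw [hmc.zsmul, hx, one_zpow])
    (fun x hx => by rw [chi_theta f ht hα, hx, one_pow]) ha h
  exact cX_inj RGDTwD4.hp ht (one_mem _) fun j => by rw [key, cX_one]

theorem chi12 {t₁ : ↥(chevD4.group (KK r))} (ht : t₁ ∈ TT chevD4 (KK r)) (hα : f.α t₁ = t₁)
    (hΦ : ∀ x, f.θ (f.θ (f.θ (f.θ x))) + x = f.θ (f.θ x)) (x : Fin 4 → ℤ) :
    cX RGDTwD4.hp t₁ x ^ (q ^ 4 - q ^ 2 + 1) = 1 := by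
  have hmc := isMC_cX RGDTwD4.hp ht
  have h2 : ∀ y, cX RGDTwD4.hp t₁ (f.θ (f.θ y)) = cX RGDTwD4.hp t₁ y ^ q ^ 2 := by
    intro y
    rw [chi_theta f ht hα, chi_theta f ht hα, ← pow_mul, pow_two]
  have h4 : cX RGDTwD4.hp t₁ (f.θ (f.θ (f.θ (f.θ x)))) = cX RGDTwD4.hp t₁ x ^ q ^ 4 := by
    rw [h2, h2, ← pow_mul, ← pow_add]
  have h5 := congrArg (cX RGDTwD4.hp t₁) (hΦ x)
  rw [hmc.add, h4, h2] at h5
  have hq2 : q ^ 2 ≤ q ^ 4 := by
    rcases Nat.eq_zero_or_pos q with h | h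
    · rw [h]; norm_num
    · exact Nat.pow_le_pow_right h (by norm_num)
  have h6 : cX RGDTwD4.hp t₁ x ^ q ^ 2 ≠ 0 := pow_ne_zero _ (hmc.ne_zero _)
  apply mul_left_cancel₀ h6
  rw [← pow_add, mul_one]
  have e : q ^ 2 + (q ^ 4 - q ^ 2 + 1) = q ^ 4 + 1 := by omega
  rw [e, pow_succ, h5]

include hg hΦ in
/-- **The centraliser of an element of the torus.** -/
theorem cent_le {t₁ : ↥(chevD4.group (KK r))} (ht : t₁ ∈ TT chevD4 (KK r)) (hα : f.α t₁ = t₁) (h1 : t₁ ≠ 1)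
    {c : ↥(chevD4.group (KK r))} (hc : c * t₁ = t₁ * c) (hαc : f.α c = c) : c ∈ TT chevD4 (KK r) := by
  classical
  set cs := coxeterD4.toCoxeterSystem with hcs
  have hk := locFin r
  have := finite_W RGDTwD4.hp cs
  have hTL := TL_eq (k := KK r) RGDTwD4.hp hk
  have hXL := XL_eq (k := KK r) RGDTwD4.hp hk
  have H := tow (k := KK r) RGDTwD4.hp cs hk r
  have C := coordsL (k := KK r) RGDTwD4.hp cs hk r
  have hG := GG_eq_top (k := KK r) RGDTwD4.hp cs hk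
  have C' : Coords cs RGDTwD4.hp.isCartan (TL (Tj RGDTwD4.hp (k := KK r))) (nc RGDTwD4.hp (KK r))
      (XL (Xj RGDTwD4.hp (k := KK r))) (xc RGDTwD4.hp) (ch RGDTwD4.hp) := by
    rw [hTL, hXL]; exact C
  have F' : Fr cs RGDTwD4.hp.isCartan (TL (Tj RGDTwD4.hp (k := KK r))) (XL (Xj RGDTwD4.hp (k := KK r))) f.α f.θ := by
    rw [hTL, hXL]; exact f.fr
  have hA' : ChAdd cs RGDTwD4.hp.isCartan (TL (Tj RGDTwD4.hp (k := KK r))) (ch (K := KK r) RGDTwD4.hp) := by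
    rw [hTL]; exact chAddL RGDTwD4.hp cs hk r
  have hsep : ∀ a, IsRoot cs RGDTwD4.hp.isCartan a → ∃ s ∈ TL (Tj RGDTwD4.hp (k := KK r)),
      ∀ u ∈ XL (Xj RGDTwD4.hp (k := KK r)) a, u * s = s * u → u = 1 := by
    rw [hTL, hXL]
    exact fun a ha => sep RGDTwD4.hp cs hk r ha
  have hS : ∀ a, a ∉ Sx cs RGDTwD4.hp.isCartan (ch RGDTwD4.hp) t₁ := by
    rintro a ⟨ha, ha1⟩
    refine h1 (eq_one_of_root f hg hΦ ht hα ha ?_)
    rw [cX_root RGDTwD4.hp cs ht ha]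
    exact ha1
  obtain ⟨w', u, hu, -, k, hk', hkt, hkα, v, hv, -, -, e⟩ := H28.RG.form_fix H C' F' hG hsep hA'
    (t := t₁) (by rw [hTL]; exact ht) hα (fun a ha _ => absurd ha (hS a)) hc hαc
  have hSP : H28.RG.SP cs RGDTwD4.hp.isCartan (ch (K := KK r) RGDTwD4.hp) t₁ = ∅ :=
    Set.eq_empty_of_forall_notMem fun a ha => hS a ha.1
  have hbot : H28.RG.Up cs RGDTwD4.hp.isCartan (Xj RGDTwD4.hp (k := KK r)) (ch RGDTwD4.hp) t₁ = ⊥ := by
    rw [H28.RG.Up, hSP, H378.OmD4.Sup_empty]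
  rw [hbot, Subgroup.mem_bot] at hu hv
  rw [hu, hv, one_mul, mul_one] at e
  rw [e]
  -- `k` over `w'`
  have hk2 : Rp cs (nsysTT RGDTwD4.hp cs hk r) w' k := by
    have key : ∀ (T : Subgroup ↥(chevD4.group (KK r))) (h1 : NSys coxeterD4 T (nc RGDTwD4.hp (KK r)))
        (h2 : T = TT chevD4 (KK r)), Rp cs h1 w' k → Rp cs (nsysTT RGDTwD4.hp cs hk r) w' k := by
      intro T h1 h2 h3
      subst h2
      exact h3
    exact key _ _ hTL hk'
  have Fk := H720.TorusReal.fr_conj RGDTwD4.hp cs hk r hk2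
  have F1 := Fk.mul f.fr
  have F2 := Fr.mul f.fr Fk
  have hcomm : MulAut.conj k * (MulAut.conj f.n * m.σ) = (MulAut.conj f.n * m.σ) * MulAut.conj k := by
    ext1 y
    have h3 : (MulAut.conj f.n * m.σ) k = k := hkα
    show k * (MulAut.conj f.n * m.σ) y * k⁻¹ = (MulAut.conj f.n * m.σ) (k * y * k⁻¹)
    rw [map_mul, map_mul, map_inv, h3]
  rw [hcomm] at F1
  have hfr := fr_unique RGDTwD4.hp cs hk r F1 F2
  have hw : ∀ x, rep cs RGDTwD4.hp.isCartan w' (f.θ x) = f.θ (rep cs RGDTwD4.hp.isCartan w' x) :=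
    fun x => DFunLike.congr_fun hfr x
  have hmc := isMC_cX RGDTwD4.hp ht
  have hχ : ∀ x, cX RGDTwD4.hp t₁ (rep cs RGDTwD4.hp.isCartan w' x) = cX RGDTwD4.hp t₁ x := by
    intro x
    have h3 := cX_rp RGDTwD4.hp cs hk r hk2 ht x
    have h4 : k * t₁ * k⁻¹ = t₁ := by rw [hkt, mul_inv_cancel_right]
    rwa [h4] at h3
  have h12 := chi12 f ht hα hΦ
  have hfin : (∀ x, cX RGDTwD4.hp t₁ (-x) = cX RGDTwD4.hp t₁ x) → False := by
    intro h
    apply h1
    refine cX_inj RGDTwD4.hp ht (one_mem _) fun j => ?_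
    rw [cX_one]
    have h3 := h (sr j)
    rw [hmc.neg] at h3
    have h0 := hmc.ne_zero (sr j)
    have h4 : cX RGDTwD4.hp t₁ (sr j) ^ 2 = 1 := by
      rw [pow_two]
      nth_rewrite 1 [← h3]
      exact inv_mul_cancel₀ h0
    have h5 := h12 (sr j)
    have hodd : ∃ n, q ^ 4 - q ^ 2 + 1 = 2 * n + 1 := by
      have h6 : q ^ 4 - q ^ 2 = q ^ 2 * (q ^ 2 - 1) := by
        rw [Nat.mul_sub, mul_one, ← pow_add]
      have h7 : 2 ∣ q ^ 2 * (q ^ 2 - 1) := by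
        rcases Nat.even_or_odd q with hq | hq
        · exact Dvd.dvd.mul_right (dvd_pow hq.two_dvd (by norm_num)) _
        · refine Dvd.dvd.mul_left ?_ _
          have h8 : Odd (q ^ 2) := hq.pow
          obtain ⟨n, hn⟩ := h8
          exact ⟨n, by omega⟩
      obtain ⟨n, hn⟩ := h7
      exact ⟨n, by omega⟩
    obtain ⟨n, hn⟩ := hodd
    rw [hn, pow_add, pow_mul, h4, one_pow, one_mul, pow_one] at h5
    exact h5
  rcases comm_cases (theta_eq f hg) hΦ hw with h | h | h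
  · have hw1 : w' = 1 := by
      apply rep_injective (cs := cs) (h := RGDTwD4.hp.isCartan)
      apply LinearMap.ext
      intro x
      rw [h, map_one, Module.End.one_apply]
    subst hw1
    exact hk2.mem_of_one
  · exact (hfin fun x => by rw [← h, hχ]).elim
  · exact (hfin fun x => by rw [← h, hχ, hχ]).elim

theorem num_pos : 0 < q ^ 4 - q ^ 2 + 1 := Nat.succ_pos _

include hg hΦ in
/-- **The order of the torus.** -/
theorem card_torus : Nat.card {t₁ : ↥(chevD4.group (KK r)) // t₁ ∈ TT chevD4 (KK r) ∧ f.α t₁ = t₁} ≤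
    q ^ 4 - q ^ 2 + 1 ∧ Finite {t₁ : ↥(chevD4.group (KK r)) // t₁ ∈ TT chevD4 (KK r) ∧ f.α t₁ = t₁} := by
  classical
  have ha : IsRoot coxeterD4.toCoxeterSystem RGDTwD4.hp.isCartan (sr 0) :=
    isRoot_sr coxeterD4.toCoxeterSystem RGDTwD4.hp.isCartan 0
  let N := q ^ 4 - q ^ 2 + 1
  have hN : 0 < N := num_pos
  let R : Finset (KK r) := (Polynomial.nthRoots N (1 : KK r)).toFinset
  have hR : R.card ≤ N := (Multiset.toFinset_card_le _).trans (Polynomial.card_nthRoots N 1)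
  let φ : {t₁ : ↥(chevD4.group (KK r)) // t₁ ∈ TT chevD4 (KK r) ∧ f.α t₁ = t₁} → ↥R := fun t =>
    ⟨cX RGDTwD4.hp t.1 (sr 0), by
      rw [Multiset.mem_toFinset, Polynomial.mem_nthRoots hN]
      exact chi12 f t.2.1 t.2.2 hΦ _⟩
  have hφ : Function.Injective φ := by
    rintro ⟨t, ht, hα⟩ ⟨t', ht', hα'⟩ h
    have h1 : cX RGDTwD4.hp t (sr 0) = cX RGDTwD4.hp t' (sr 0) := congrArg Subtype.val h
    have h2 : t * t'⁻¹ = 1 := by
      refine eq_one_of_root f hg hΦ (mul_mem ht (inv_mem ht')) (by rw [map_mul, map_inv, hα, hα']) ha ?_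
      rw [cX_mul RGDTwD4.hp ht (inv_mem ht')]
      have h3 : cX RGDTwD4.hp t' (sr 0) * cX RGDTwD4.hp t'⁻¹ (sr 0) = 1 := by
        rw [← cX_mul RGDTwD4.hp ht' (inv_mem ht'), mul_inv_cancel, cX_one]
      rw [h1, h3]
    exact Subtype.ext (mul_inv_eq_one.1 h2)
  refine ⟨?_, Finite.of_injective φ hφ⟩
  refine (Nat.card_le_card_of_injective φ hφ).trans ?_
  rw [Nat.card_eq_fintype_card, Fintype.card_coe]
  exact hR

/-- the conjugate of a power of `s` -/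
theorem zpow_conj {s₁ : ↥(chevD4.group (KK r))} (hs : s₁ ∈ Subgroup.zpowers s) :
    f.z⁻¹ * s₁ * f.z ∈ TT chevD4 (KK r) ∧ f.α (f.z⁻¹ * s₁ * f.z) = f.z⁻¹ * s₁ * f.z := by
  obtain ⟨n, rfl⟩ := Subgroup.mem_zpowers_iff.1 hs
  have h1 : f.z⁻¹ * s ^ n * f.z = f.t ^ n := by
    have h2 : s ^ n = f.z * f.t ^ n * f.z⁻¹ := by
      conv_lhs => rw [f.eq]
      exact conj_zpow
    rw [h2]
    group
  rw [h1]
  refine ⟨zpow_mem f.mem n, ?_⟩
  rw [map_zpow]
  have h3 : f.α f.t = f.t := f.fix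
  rw [h3]

include hg hΦ in
/-- **The centralisers.** -/
theorem card_cent {s₁ : ↥(chevD4.group (KK r))} (hs : s₁ ∈ Subgroup.zpowers s) (h1 : s₁ ≠ 1) :
    Nat.card ↥(fixedSubgroup m.σ ⊓ Subgroup.centralizer {s₁}) ≤ q ^ 4 - q ^ 2 + 1 := by
  classical
  obtain ⟨ht, hα⟩ := zpow_conj f hs
  have hne : f.z⁻¹ * s₁ * f.z ≠ 1 := by
    intro h
    apply h1
    have h2 : s₁ = f.z * (f.z⁻¹ * s₁ * f.z) * f.z⁻¹ := by group
    rw [h2, h]
    group
  obtain ⟨hc, hfin⟩ := card_torus f hg hΦ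
  let φ : ↥(fixedSubgroup m.σ ⊓ Subgroup.centralizer {s₁}) →
      {t₁ : ↥(chevD4.group (KK r)) // t₁ ∈ TT chevD4 (KK r) ∧ f.α t₁ = t₁} := fun y =>
    ⟨f.z⁻¹ * y * f.z, by
      have h3 : f.α (f.z⁻¹ * y * f.z) = f.z⁻¹ * y * f.z := (f.fix_iff _).2 y.2.1
      refine ⟨cent_le f hg hΦ ht hα hne ?_ h3, h3⟩
      have h4 : (y : ↥(chevD4.group (KK r))) * s₁ = s₁ * y := Subgroup.mem_centralizer_singleton_iff.1 y.2.2
      calc f.z⁻¹ * y * f.z * (f.z⁻¹ * s₁ * f.z) = f.z⁻¹ * (y * s₁) * f.z := by group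
        _ = f.z⁻¹ * (s₁ * y) * f.z := by rw [h4]
        _ = _ := by group⟩
  have hφ : Function.Injective φ := by
    intro y y' h
    have h2 : f.z⁻¹ * (y : ↥(chevD4.group (KK r))) * f.z = f.z⁻¹ * y' * f.z := congrArg Subtype.val h
    exact Subtype.ext (mul_left_cancel (mul_right_cancel h2))
  exact (Nat.card_le_card_of_injective φ hφ).trans hc

include hΦ in
theorem pow12 : s ^ (q ^ 4 - q ^ 2 + 1) = 1 := by
  have h1 : f.t ^ (q ^ 4 - q ^ 2 + 1) = 1 := by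
    refine cX_inj RGDTwD4.hp (pow_mem f.mem _) (one_mem _) fun j => ?_
    rw [cX_pow RGDTwD4.hp f.mem, cX_one]
    exact chi12 f f.mem f.fix hΦ _
  rw [f.eq, conj_pow, h1]
  group

end

end Cfsg.Agent.H922.RG
end

private theorem dce_c76c1f22b763 : _root_.True := by
  try have : _root_.True := by simp only [_root_.Cfsg.Agent.H28.RG.Up.eq_1]
  exact _root_.True.intro
end

-- part: H351/RG/TwM
section
set_option linter.all false
open scoped Cfsg.Agent.FastGrp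

/-!
# S3509, exceptional groups: the Frobenius automorphism on the long root radical (helper351)

* `MData.sg` : `Sg` for `m : H316.U6.MData`, the root elements `xc hp x t`, `a` the highest root and
  `L = {x root, a - x root}`.
-/

set_option autoImplicit false
set_option linter.unusedSectionVars false

namespace Cfsg.Agent.H351.RG

open CoxeterSystem Cfsg Cfsg.Lie Cfsg.Lie.ChevalleyDatum
open Cfsg.Agent.ChevalleyStructure Cfsg.Agent.ChevalleyStructure.Elts Cfsg.Agent.ChevalleyStructure.CoxeterGeom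
  Cfsg.Agent.ChevalleyStructure.CoxeterGeomTypes Cfsg.Agent.ChevalleyStructure.NPerm
open Cfsg.Agent.Nodes.RGDChev Cfsg.Agent.KFacts.RgdChevCoord
open Cfsg.Agent.BpExc Cfsg.Agent.BpExc.TowChev
open Cfsg.Agent.H469.Exc Cfsg.Agent.H469.Exc.SigFr Cfsg.Agent.H316.U6

variable {D : ChevalleyDatum} {l : ℕ} {M : CoxeterMatrix (Fin l)} {hp : IsType D l M}

/-- the roots `x` with `a - x` a root, `a` the highest root -/
def LR (D : ChevalleyDatum) (l : ℕ) : Set (Fin l → ℤ) :=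
  {x | (∃ s < D.nroots, vec D l s = x) ∧ ∃ s < D.nroots, vec D l s = vec D l (D.nroots - 1) - x}

theorem xc_eq_xs {k : Type*} [Field k] {s : ℕ} (hs : s < D.nroots) (t : k) :
    xc hp (vec D l s) t = xs hp.inList s t := Subtype.ext (coe_xc hp hs t)

variable {r q : ℕ} [hr : Fact r.Prime] {K₀ : Type*} [Group K₀] (m : MData hp r q K₀)

theorem g_iter (i : ℕ) (v : Fin l → ℤ) (j : Fin l) : (fun v => m.g v)^[i] v j = v ((m.π ^ i) j) := by
  induction i generalizing v with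
  | zero => rfl
  | succ i ih =>
    rw [Function.iterate_succ_apply, ih, m.perm, pow_succ', Equiv.Perm.mul_apply]

theorem g_sum (i : ℕ) (v : Fin l → ℤ) : ∑ j, (fun v => m.g v)^[i] v j = ∑ j, v j := by
  simp_rw [g_iter]
  exact Equiv.sum_comp (m.π ^ i) v

theorem sg (hpos : 0 < D.nroots) (hodd : Odd (∑ j, vec D l (D.nroots - 1) j)) :
    Sg (K := KK r) (fun x t => xc hp x t) (vec D l (D.nroots - 1)) (LR D l) m.σ q (fun v => m.g v) where
  act := by
    have key : ∀ s < D.nroots, ∃ k : KK r, k ≠ 0 ∧ ∀ t, m.σ (xc hp (vec D l s) t) = xc hp (m.g (vec D l s)) (k * t ^ q) := by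
      intro s hs
      obtain ⟨s', h1, hs', c, hc, h2, -⟩ := m.act s hs
      refine ⟨c, hc, fun t => ?_⟩
      rw [← h1, xc_eq_xs hs, xc_eq_xs hs', h2]
    rintro x (rfl | ⟨⟨s, hs, rfl⟩, -⟩)
    · exact key _ (by omega)
    · exact key s hs
  ga := m.top
  gL := by
    rintro x ⟨⟨s, hs, rfl⟩, s₂, hs₂, h2⟩
    obtain ⟨s', h1, hs', -⟩ := m.act s hs
    obtain ⟨s₂', h3, hs₂', -⟩ := m.act s₂ hs₂
    refine ⟨⟨s', hs', h1⟩, s₂', hs₂', ?_⟩
    rw [h3, h2, map_sub, m.top]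
  ord := by
    refine ⟨orderOf m.π, orderOf_pos _, fun x _ => ?_⟩
    funext j
    rw [g_iter, pow_orderOf_eq_one]
    rfl
  opp := by
    intro x _ i h
    have h1 := g_sum m i x
    have h2 : ∑ j, (x + (fun v => m.g v)^[i] x) j = ∑ j, vec D l (D.nroots - 1) j := by rw [h]
    simp_rw [Pi.add_apply] at h2
    rw [Finset.sum_add_distrib, h1] at h2
    rw [← h2, ← two_mul] at hodd
    exact (Int.not_odd_iff_even.2 (even_two_mul _)) hodd
  q2 := by
    rw [← m.hq]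
    exact Nat.one_lt_pow m.he.ne' hr.out.one_lt
  q0 := by
    rw [← m.hq, Nat.cast_pow, CharP.cast_eq_zero (KK r) r, zero_pow m.he.ne']

end Cfsg.Agent.H351.RG
end

-- part: H550/RG/CntD
section
prune_inst 0x30205d001422120000180002c0003c4694000402006b8c009ca1030004c71f600d01a7215f201a1b4820a84000380068025c0020c00000000020020000010020900a12061140a004060089809800400000000000000000000000000000041000000000000
set_option linter.all false
open scoped Cfsg.Agent.FastGrp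

-- part: H448/TorB/Card
section
/-!
# The order of the fixed points of a frame Frobenius automorphism on the torus (helper448, S3509 F5)

`card_fix_le` : `|T^τ| ≤ (p ^ e + 1) ^ l` for every frame automorphism `τ` with `IsFrob p e τ`.
-/

set_option autoImplicit false
set_option linter.unusedSectionVars false

namespace Cfsg.Agent.H448.TorB

open CoxeterSystem Subgroup Cfsg Cfsg.Lie Cfsg.Lie.ChevalleyDatum
open Cfsg.Agent.ChevalleyStructure Cfsg.Agent.ChevalleyStructure.Elts Cfsg.Agent.ChevalleyStructure.CoxeterGeom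
  Cfsg.Agent.ChevalleyStructure.CoxeterGeomTypes Cfsg.Agent.ChevalleyStructure.NPerm
open Cfsg.Agent.Tits.Roots Cfsg.Agent.Tits.Core Cfsg.Agent.Nodes.Reps Cfsg.Agent.Nodes.BNOf
  Cfsg.Agent.Nodes.RGDChev Cfsg.Agent.Nodes.Bruhat
open Cfsg.Agent.KFacts.RgdField Cfsg.Agent.KFacts.RgdChevCoord Cfsg.Agent.BpExc Cfsg.Agent.BpExc.TorCent
  Cfsg.Agent.BpExc.TorChev Cfsg.Agent.BpExc.Tow Cfsg.Agent.BpExc.TowChev Cfsg.Agent.BpExc.Fr Cfsg.Agent.BpExc.Pair
  Cfsg.Agent.BpExc.LangFr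
open Cfsg.Agent.H129.TorusChar
open Cfsg.Agent.H378.TorDual Cfsg.Agent.H378.TorChar Cfsg.Agent.H378.TorFin Cfsg.Agent.H378.LatRoot
  Cfsg.Agent.H378.LatCyc Cfsg.Agent.H378.Regular Cfsg.Agent.H378.RegTw Cfsg.Agent.H448.FprCent

universe u v

variable {D : ChevalleyDatum} {l : ℕ} {M : CoxeterMatrix (Fin l)} (hp : IsType D l M) {k : Type u} [Field k]
  {W : Type*} [Group W] (cs : CoxeterSystem M W) {p e : ℕ} [Fact p.Prime] [CharP k p]
  {τ : MulAut ↥(D.group k)} {g : (Fin l → ℤ) ≃+ (Fin l → ℤ)}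

/-- the characters of the fixed points -/
theorem tchar_mem [IsAlgClosed k] (hτ : IsFrob p e τ) (F : Fr cs hp.isCartan (TT D k) (XX D l k) τ g) {s : ↥(D.group k)}
    (hs : s ∈ TT D k) (hfix : τ s = s) :
    tchar hp ⟨s, hs⟩ ∈ KerOf k (endo g - ((p ^ e : ℕ) : ℤ) • (1 : Module.End ℤ (Fin l → ℤ))) := by
  refine mem_kerOf_iff.2 fun x => Units.ext ?_
  rw [Units.val_pow_eq_pow_val, tchar_eq_cX, tchar_eq_cX]
  have h1 := cX_sigma hp cs hτ F hs x
  rwa [hfix] at h1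

/-- the determinant is prime to `p` -/
theorem det_ne (he : 0 < e) (g : (Fin l → ℤ) ≃+ (Fin l → ℤ)) (k : Type u) [Field k] [CharP k p] :
    ((LinearMap.det (endo g - ((p ^ e : ℕ) : ℤ) • (1 : Module.End ℤ (Fin l → ℤ))) : ℤ) : k) ≠ 0 := by
  refine det_ne_zero (endo_mul_symm g) ?_
  rw [Int.cast_natCast, Nat.cast_pow, CharP.cast_eq_zero, zero_pow he.ne']

/-- **The fixed points of a frame automorphism on the torus**: any set of fixed points. -/
theorem card_fix_le [IsAlgClosed k] [Finite W] (he : 0 < e) (hτ : IsFrob p e τ)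
    (F : Fr cs hp.isCartan (TT D k) (XX D l k) τ g) {A : Set ↥(D.group k)} (hA : ∀ t ∈ A, t ∈ TT D k ∧ τ t = t) :
    Finite A ∧ Nat.card A ≤ (LinearMap.det (endo g - ((p ^ e : ℕ) : ℤ) • (1 : Module.End ℤ (Fin l → ℤ)))).natAbs ∧
      Nat.card A ≤ (p ^ e + 1) ^ l := by
  have hdet := det_ne (p := p) he g k
  have hfin : Finite ↥(KerOf k (endo g - ((p ^ e : ℕ) : ℤ) • (1 : Module.End ℤ (Fin l → ℤ)))) := by
    refine Nat.finite_of_card_ne_zero ?_
    rw [card_kerOf k hdet, Ne, Int.natAbs_eq_zero]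
    intro h
    rw [h, Int.cast_zero] at hdet
    exact hdet rfl
  let φ : A → ↥(KerOf k (endo g - ((p ^ e : ℕ) : ℤ) • (1 : Module.End ℤ (Fin l → ℤ)))) := fun t =>
    ⟨tchar hp ⟨t.1, (hA t.1 t.2).1⟩, tchar_mem hp cs hτ F (hA t.1 t.2).1 (hA t.1 t.2).2⟩
  have hφ : Function.Injective φ := by
    intro a b hab
    have h1 := tchar_injective hp (congrArg Subtype.val hab)
    exact Subtype.ext (congrArg (fun t : ↥(TT D k) => (t : ↥(D.group k))) h1)
  obtain ⟨N, hN, hgN⟩ := exists_pow_one (cs := cs) (h := hp.isCartan) F.root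
  have h1 : Nat.card A ≤ (LinearMap.det (endo g - ((p ^ e : ℕ) : ℤ) • (1 : Module.End ℤ (Fin l → ℤ)))).natAbs :=
    (Nat.card_le_card_of_injective φ hφ).trans (card_kerOf k hdet).le
  exact ⟨Finite.of_injective φ hφ, h1, h1.trans (natAbs_det_le hN.ne' hgN (p ^ e))⟩

/-- **Subgroups**: `|TT ⊓ fixedSubgroup τ| ≤ (p ^ e + 1) ^ l`. -/
theorem card_fixT_le [IsAlgClosed k] [Finite W] (he : 0 < e) (hτ : IsFrob p e τ)
    (F : Fr cs hp.isCartan (TT D k) (XX D l k) τ g) {H : Subgroup ↥(D.group k)} (hH : H ≤ TT D k)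
    (hf : ∀ t ∈ H, τ t = t) : Finite ↥H ∧ Nat.card ↥H ≤ (p ^ e + 1) ^ l := by
  obtain ⟨h1, -, h2⟩ := card_fix_le hp cs he hτ F (A := (H : Set ↥(D.group k))) fun t ht => ⟨hH ht, hf t ht⟩
  exact ⟨h1, h2⟩

end Cfsg.Agent.H448.TorB
end

-- part: H550/RG/Cnt
section
/-!
# S3509, F5: the order of the centraliser of a torus element in `Y^α`, Bruhat count (helper550)

`α` a frame automorphism over `θ` of `Y = D.group k`, `t ∈ TT`, `α t = t`, `θ` preserves the positive roots of `Sx t`: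
`|C_{Y^α}(t)| ≤ ∑_{w ∈ S} |T^α| q^(N + l_t(w))`, `S` any finite set containing the `w` which fix `t` and commute with `θ`,
`N` the number of positive roots of `Sx t`, `l_t(w)` the number of those made negative by `w`.
-/

set_option autoImplicit false
set_option linter.unusedSectionVars false

namespace Cfsg.Agent.H550.RG

open CoxeterSystem Cfsg.Agent.ChevalleyStructure.CoxeterGeom Cfsg.Agent.Tits.Roots Cfsg.Agent.Tits.Core
  Cfsg.Agent.Nodes.Reps Cfsg.Agent.Nodes.BNOf Cfsg.Agent.Nodes.StabComb Cfsg.Agent.Nodes.Bruhat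
  Cfsg.Agent.Nodes.OppDec Cfsg.Agent.Nodes.NormalForm Cfsg.Agent.KFacts.RgdField
  Cfsg.Agent.BpExc.TorCent Cfsg.Agent.BpExc.Tow Cfsg.Agent.BpExc.Fr Cfsg.Agent.BpExc.Pair
  Cfsg.Agent.H461.E2.Sup Cfsg.Agent.H28.RG
open Cfsg (fixedSubgroup)

section Abs

variable {I W Y : Type*} [Fintype I] [DecidableEq I] [Group W] [Finite W] [Group Y] {M : CoxeterMatrix I}
  {cs : CoxeterSystem M W} {A : I → I → ℤ} {h : IsCartan M A} {p : ℕ}
  {J : Type*} [Preorder J] {T : J → Subgroup Y} {n : I → Y} {X : J → (I → ℤ) → Subgroup Y}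
  {F : Type*} [Field F] {xx : (I → ℤ) → F → Y} {χ : (I → ℤ) → Y → F}

/-- the positive roots of `Sx t` made negative by `w` -/
def NSt (cs : CoxeterSystem M W) (h : IsCartan M A) (χ : (I → ℤ) → Y → F) (t : Y) (w : W) : Set (I → ℤ) :=
  {a | a ∈ Sx cs h χ t ∧ 0 ≤ a ∧ rep cs h w a ≤ 0}

/-- the positive roots of `Sx t` kept positive by `w` -/
def PSt (cs : CoxeterSystem M W) (h : IsCartan M A) (χ : (I → ℤ) → Y → F) (t : Y) (w : W) : Set (I → ℤ) :=
  {a | a ∈ Sx cs h χ t ∧ 0 ≤ a ∧ 0 ≤ rep cs h w a}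

theorem ncard_add (t : Y) (w : W) :
    (PSt cs h χ t w).ncard + (NSt cs h χ t w).ncard = (SP cs h χ t).ncard := by
  have hf : {a | IsRoot cs h a}.Finite := RGD.finite_roots (cs := cs) (h := h)
  have h1 : (PSt cs h χ t w).Finite := hf.subset fun a ha => ha.1.1
  have h2 : (NSt cs h χ t w).Finite := hf.subset fun a ha => ha.1.1
  rw [← Set.ncard_union_eq ?_ h1 h2]
  · congr 1
    ext a
    constructor
    · rintro (ha | ha)
      · exact ⟨ha.1, ha.2.1⟩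
      · exact ⟨ha.1, ha.2.1⟩
    · rintro ⟨ha, h0⟩
      rcases (ha.1.act w).pos_or_neg with h3 | h3
      · exact Or.inl ⟨ha, h0, h3⟩
      · exact Or.inr ⟨ha, h0, h3⟩
  · rw [Set.disjoint_left]
    rintro a ⟨ha, -, h3⟩ ⟨-, -, h4⟩
    exact (ha.1.act w).not_pos_neg h3 h4

variable (H : Tow cs h p T n X) (C : Coords cs h (TL T) n (XL X) xx χ) {α : MulAut Y} {θ : (I → ℤ) ≃+ (I → ℤ)}
  (Fα : Fr cs h (TL T) (XL X) α θ)

include H C in
/-- representatives commuting with `t` preserve the characters at `t` -/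
theorem chi_eq {t : Y} (ht : t ∈ TL T) {w : W} {k : Y} (hk : Rp cs H.nsys w k) (hkt : k * t = t * k) {a : I → ℤ}
    (ha : IsRoot cs h a) : χ (rep cs h w a) t = χ a t := by
  have h1 := C.chi_rp H.nsys hk ha ht
  rwa [hkt, mul_inv_cancel_right] at h1

include H Fα in
/-- representatives fixed by `α` commute with `θ` on the roots -/
theorem rep_theta (hne : ∀ a, IsRoot cs h a → ∃ u ∈ XL X a, u ≠ 1)
    (hinj : ∀ a b, IsRoot cs h a → IsRoot cs h b → ∀ u ∈ XL X a, u ∈ XL X b → u ≠ 1 → a = b)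
    {w : W} {k : Y} (hk : Rp cs H.nsys w k) (hαk : α k = k) {a : I → ℤ} (ha : IsRoot cs h a) :
    rep cs h w (θ a) = θ (rep cs h w a) := by
  obtain ⟨u, hu, hu1⟩ := hne a ha
  have hcj : ∀ {b : I → ℤ}, IsRoot cs h b → ∀ {v : Y}, v ∈ XL X b → k * v * k⁻¹ ∈ XL X (rep cs h w b) := by
    intro b hb v hv
    have h2 : k * v * k⁻¹ ∈ cj k (XL X b) := conj_mem_cj.2 hv
    rwa [H.conj_rp hk hb] at h2
  have hθa : IsRoot cs h (θ a) := (Fα.root a).2 ha
  have h1 : α u ∈ XL X (θ a) := (Fα.map a ha u).2 hu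
  have h2 := hcj hθa h1
  have h3 : α (k * u * k⁻¹) ∈ XL X (θ (rep cs h w a)) := (Fα.map _ (ha.act w) _).2 (hcj ha hu)
  have e : α (k * u * k⁻¹) = k * α u * k⁻¹ := by rw [map_mul, map_mul, map_inv, hαk]
  rw [e] at h3
  refine hinj _ _ (hθa.act w) ((Fα.root _).2 (ha.act w)) _ h2 h3 fun h4 => hu1 ?_
  have h5 : α u = 1 := by
    have e2 : α u = k⁻¹ * (k * α u * k⁻¹) * k := by group
    rw [e2, h4]
    group
  rwa [map_eq_one_iff α α.injective] at h5

variable {Q : ℕ} (hQ : 0 < Q)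
  (hcard : ∀ Ψ : Set (I → ℤ), Ψ ⊆ RGD.Pos cs h → ZCl cs h Ψ → (∀ a ∈ Ψ, θ a ∈ Ψ) →
    Nat.card ↥(RGD.Sup (XL X) Ψ ⊓ fixedSubgroup α) = Q ^ Ψ.ncard)
  (hne : ∀ a, IsRoot cs h a → ∃ u ∈ XL X a, u ≠ 1)
  (hinj : ∀ a b, IsRoot cs h a → IsRoot cs h b → ∀ u ∈ XL X a, u ∈ XL X b → u ≠ 1 → a = b)
  (hA : ChAdd cs h (TL T) χ)

/-- the elements `v` of `Up`, fixed by `α`, with `k v k⁻¹ ∈ Un` -/
def Vk (cs : CoxeterSystem M W) (h : IsCartan M A) (X : J → (I → ℤ) → Subgroup Y) (χ : (I → ℤ) → Y → F)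
    (α : MulAut Y) (t k : Y) : Subgroup Y :=
  (Up cs h X χ t ⊓ fixedSubgroup α) ⊓ (Un cs h X χ t).comap (MulAut.conj k).toMonoidHom

theorem mem_Vk {t k v : Y} : v ∈ Vk cs h X χ α t k ↔
    (v ∈ Up cs h X χ t ∧ α v = v) ∧ k * v * k⁻¹ ∈ Un cs h X χ t := Iff.rfl

include H C Fα hQ hcard hne hinj in
/-- **The cell.** -/
theorem card_Vk {t : Y} (ht : t ∈ TL T) (hα : α t = t) (hpos : ∀ a ∈ Sx cs h χ t, 0 ≤ a → 0 ≤ θ a)
    (hZ : ZCl cs h (SP cs h χ t)) {w : W} {k : Y} (hk : Rp cs H.nsys w k) (hkt : k * t = t * k) (hαk : α k = k) :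
    Nat.card ↥(Vk cs h X χ α t k) ≤ Q ^ (NSt cs h χ t w).ncard := by
  have hθS : ∀ a ∈ SP cs h χ t, θ a ∈ SP cs h χ t := fun a ha =>
    ⟨(Fα.mem_Sx C ht hα a).2 ha.1, hpos a ha.1 ha.2⟩
  have hSP : SP cs h χ t ⊆ RGD.Pos cs h := fun a ha => ⟨ha.1.1, ha.2⟩
  have hwS : ∀ a ∈ Sx cs h χ t, rep cs h w a ∈ Sx cs h χ t := fun a ha =>
    ⟨ha.1.act w, by rw [chi_eq H C ht hk hkt ha.1]; exact ha.2⟩
  have c1 : Nat.card ↥(Up cs h X χ t ⊓ fixedSubgroup α) = Q ^ (SP cs h χ t).ncard := hcard _ hSP hZ hθS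
  have hPθ : ∀ a ∈ PSt cs h χ t w, θ a ∈ PSt cs h χ t w := by
    rintro a ⟨ha, h0, h1⟩
    obtain ⟨h2, h3⟩ := hθS a ⟨ha, h0⟩
    refine ⟨h2, h3, ?_⟩
    rw [rep_theta H Fα hne hinj hk hαk ha.1]
    exact hpos _ (hwS a ha) h1
  have hPZ : ZCl cs h (PSt cs h χ t w) := by
    rintro x ⟨hx, hx0, hx1⟩ y ⟨hy, hy0, hy1⟩ z hz ⟨i, j, hi, hj, e⟩
    obtain ⟨h1, h2⟩ := hZ x ⟨hx, hx0⟩ y ⟨hy, hy0⟩ z hz ⟨i, j, hi, hj, e⟩
    refine ⟨h1, h2, ?_⟩
    rw [e, map_add, map_nsmul, map_nsmul]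
    exact add_nonneg (nsmul_nonneg hx1 i) (nsmul_nonneg hy1 j)
  have c2 : Nat.card ↥(RGD.Sup (XL X) (PSt cs h χ t w) ⊓ fixedSubgroup α) = Q ^ (PSt cs h χ t w).ncard :=
    hcard _ (fun a ha => ⟨ha.1.1, ha.2.1⟩) hPZ hPθ
  have hfin : Finite ↥(Up cs h X χ t ⊓ fixedSubgroup α) := by
    refine Nat.finite_of_card_ne_zero ?_
    rw [c1]
    exact (Nat.pow_pos hQ).ne'
  have hle : RGD.Sup (XL X) (PSt cs h χ t w) ≤ Up cs h X χ t :=
    RGD.Sup_mono (S := PSt cs h χ t w) (S' := SP cs h χ t) fun a ha => ⟨ha.1, ha.2.1⟩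
  have key := card_mul_le (A := Vk cs h X χ α t k) (B := RGD.Sup (XL X) (PSt cs h χ t w) ⊓ fixedSubgroup α)
    (C := Up cs h X χ t ⊓ fixedSubgroup α) (fun v hv => hv.1) (fun v hv => ⟨hle hv.1, hv.2⟩) (by
      rw [eq_bot_iff]
      rintro v ⟨hv1, hv2⟩
      have h1 : k * v * k⁻¹ ∈ RGD.Sup (XL X) (Neg cs h) := Un_le (mem_Vk.1 hv1).2
      have h2 : k * v * k⁻¹ ∈ RGD.Sup (XL X) (RGD.Pos cs h) :=
        conj_SupL H hk (S := PSt cs h χ t w) (S' := RGD.Pos cs h) (fun x hx => hx.1.1)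
          (fun x hx => ⟨hx.1.1.act w, hx.2.2⟩) hv2.1
      have h3 := eq_one_of_pos_neg H h2 h1
      rw [Subgroup.mem_bot]
      have e2 : v = k⁻¹ * (k * v * k⁻¹) * k := by group
      rw [e2, h3]
      group)
  rw [c1, c2, ← ncard_add t w, pow_add, mul_comm] at key
  exact Nat.le_of_mul_le_mul_left key (Nat.pow_pos hQ)

include H C Fα hQ hcard hne hinj hA in
/-- **The Bruhat count.** -/
theorem card_fixC_le (hG : GG cs h (TL T) (XL X) = ⊤)
    (hsep : ∀ a, IsRoot cs h a → ∃ s ∈ TL T, ∀ u ∈ XL X a, u * s = s * u → u = 1)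
    {t : Y} (ht : t ∈ TL T) (hα : α t = t) (hpos : ∀ a ∈ Sx cs h χ t, 0 ≤ a → 0 ≤ θ a)
    (hZ : ZCl cs h (SP cs h χ t)) [hTf : Finite ↥(TL T ⊓ fixedSubgroup α)] (S : Finset W)
    (hS : ∀ w, (∀ a, IsRoot cs h a → χ (rep cs h w a) t = χ a t) →
      (∀ a, IsRoot cs h a → rep cs h w (θ a) = θ (rep cs h w a)) →
      (∃ k, Rp cs H.nsys w k ∧ k * t = t * k ∧ α k = k) → w ∈ S) :
    Nat.card ↥(fixC α t) ≤ ∑ w ∈ S, Nat.card ↥(TL T ⊓ fixedSubgroup α) *
      Q ^ ((SP cs h χ t).ncard + (NSt cs h χ t w).ncard) := by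
  classical
  have hθS : ∀ a ∈ SP cs h χ t, θ a ∈ SP cs h χ t := fun a ha =>
    ⟨(Fα.mem_Sx C ht hα a).2 ha.1, hpos a ha.1 ha.2⟩
  have hSP : SP cs h χ t ⊆ RGD.Pos cs h := fun a ha => ⟨ha.1.1, ha.2⟩
  have c1 : Nat.card ↥(Up cs h X χ t ⊓ fixedSubgroup α) = Q ^ (SP cs h χ t).ncard := hcard _ hSP hZ hθS
  have hfin : Finite ↥(Up cs h X χ t ⊓ fixedSubgroup α) := by
    refine Nat.finite_of_card_ne_zero ?_
    rw [c1]
    exact (Nat.pow_pos hQ).ne'
  -- the cells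
  let E : W → Set Y := fun w => {c | ∃ u ∈ Up cs h X χ t, α u = u ∧ ∃ k, Rp cs H.nsys w k ∧ k * t = t * k ∧ α k = k ∧
    ∃ v ∈ Up cs h X χ t, α v = v ∧ k * v * k⁻¹ ∈ Un cs h X χ t ∧ c = u * k * v}
  have hE : ∀ w, (E w).Finite ∧ (E w).ncard ≤ Nat.card ↥(TL T ⊓ fixedSubgroup α) *
      Q ^ ((SP cs h χ t).ncard + (NSt cs h χ t w).ncard) := by
    intro w
    rcases Set.eq_empty_or_nonempty (E w) with h0 | ⟨c, u, hu, hαu, k, hk, hkt, hαk, v, hv, hαv, hkv, rfl⟩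
    · rw [h0]
      exact ⟨Set.finite_empty, by rw [Set.ncard_empty]; exact Nat.zero_le _⟩
    have c3 := card_Vk H C Fα hQ hcard hne hinj ht hα hpos hZ hk hkt hαk
    have hfV : Finite ↥(Vk cs h X χ α t k) :=
      Finite.of_injective (Subgroup.inclusion (fun v hv => hv.1 :
        Vk cs h X χ α t k ≤ Up cs h X χ t ⊓ fixedSubgroup α)) (Subgroup.inclusion_injective _)
    let f : ↥(Up cs h X χ t ⊓ fixedSubgroup α) × ↥(TL T ⊓ fixedSubgroup α) × ↥(Vk cs h X χ α t k) → Y :=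
      fun x => x.1 * (x.2.1 * k) * x.2.2
    have hsub : E w ⊆ Set.range f := by
      rintro c ⟨u', hu', hαu', k', hk', hkt', hαk', v', hv', hαv', hkv', rfl⟩
      have hs : k' * k⁻¹ ∈ TL T := by
        have h1 := (hk'.mul hk.inv)
        rw [mul_inv_cancel] at h1
        exact h1.mem_of_one
      have hαs : α (k' * k⁻¹) = k' * k⁻¹ := by rw [map_mul, map_inv, hαk, hαk']
      have hTn : k' * k⁻¹ ∈ Subgroup.normalizer (Un cs h X χ t : Set Y) :=
        H.T_le_normalizer (S := SN cs h χ t) (fun x hx => hx.1.1) hs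
      have hv'' : k * v' * k⁻¹ ∈ Un cs h X χ t := by
        have h1 := (Subgroup.mem_normalizer_iff.1 (inv_mem hTn) _).1 hkv'
        have e : (k' * k⁻¹)⁻¹ * (k' * v' * k'⁻¹) * (k' * k⁻¹)⁻¹⁻¹ = k * v' * k⁻¹ := by group
        rwa [e] at h1
      refine ⟨(⟨u', hu', hαu'⟩, ⟨k' * k⁻¹, hs, hαs⟩, ⟨v', mem_Vk.2 ⟨⟨hv', hαv'⟩, hv''⟩⟩), ?_⟩
      show u' * (k' * k⁻¹ * k) * v' = u' * k' * v'
      rw [inv_mul_cancel_right]
    have hrf : (Set.range f).Finite := Set.finite_range f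
    refine ⟨hrf.subset hsub, (Set.ncard_le_ncard hsub hrf).trans ?_⟩
    rw [← Nat.card_coe_set_eq]
    refine (Finite.card_range_le f).trans ?_
    rw [Nat.card_prod, Nat.card_prod, c1, pow_add]
    calc Q ^ (SP cs h χ t).ncard * (Nat.card ↥(TL T ⊓ fixedSubgroup α) * Nat.card ↥(Vk cs h X χ α t k))
        ≤ Q ^ (SP cs h χ t).ncard * (Nat.card ↥(TL T ⊓ fixedSubgroup α) * Q ^ (NSt cs h χ t w).ncard) :=
          Nat.mul_le_mul_left _ (Nat.mul_le_mul_left _ c3)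
      _ = _ := by ring
  have hcov : ((fixC α t : Subgroup Y) : Set Y) ⊆ ⋃ w ∈ S, E w := by
    intro c hc
    obtain ⟨hαc, hct⟩ := mem_fixC.1 hc
    obtain ⟨w, u, hu, hαu, k, hk, hkt, hαk, v, hv, hαv, hkv, e⟩ := form_fix H C Fα hG hsep hA ht hα hpos hct hαc
    have hw : w ∈ S := hS w (fun a ha => chi_eq H C ht hk hkt ha)
      (fun a ha => rep_theta H Fα hne hinj hk hαk ha) ⟨k, hk, hkt, hαk⟩
    exact Set.mem_biUnion hw ⟨u, hu, hαu, k, hk, hkt, hαk, v, hv, hαv, hkv, e⟩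
  have hUf : (⋃ w ∈ S, E w).Finite := Set.Finite.biUnion S.finite_toSet fun w _ => (hE w).1
  have h1 : Nat.card ↥(fixC α t) ≤ (⋃ w ∈ S, E w).ncard := Set.ncard_le_ncard hcov hUf
  refine h1.trans ((Finset.set_ncard_biUnion_le S E).trans (Finset.sum_le_sum fun w _ => (hE w).2))

end Abs

end Cfsg.Agent.H550.RG
end

-- part: H550/RG/CntD
section
/-!
# S3509, F5: the order of the centraliser of a `p'`-element (helper550)

`W_f = WF cs h χ t θ` : the `w ∈ W` preserving the characters of the roots at `t` and commuting with `θ` on the roots,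
`N` the number of positive roots of `Sx t`, `l_t(w)` the number of those made negative by `w ∈ W_f`,
`q = r ^ e`:
* `card_sum` : `|C_{Y^α}(t)| ≤ ∑_{w ∈ W_f} |T^α| q^(N + l_t(w))`;
* `card_le_WF` : `≤ |W_f| |T^α| q^(2N)`;
* `card_le_fam` : `≤ |T^α| q^N |PP| ∑_{B ∈ 𝓑} q^|B|`, `𝓑` any finite set of finite sets containing the sets
  `{a ∈ Sx t, 0 ≤ a, w a ≤ 0}`, `w ∈ W_f`;
* `card_le_PP` : `≤ |T^α| q^N |PP| (1 + q)^N`;
* `card_le_bic` : the sum over the `θ`-invariant closed and coclosed sets `B` of positive roots of `Sx t`;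
* `card_le_orb` : `≤ |T^α| q^N |PP| ∏_i (1 + q^|O_i|)`, `O_i` the orbits of `θ` on the positive roots of `Sx t`.
-/

set_option autoImplicit false
set_option linter.unusedSectionVars false

namespace Cfsg.Agent.H550.RG

open CoxeterSystem Cfsg Cfsg.Lie Cfsg.Lie.ChevalleyDatum
open Cfsg.Agent.ChevalleyStructure Cfsg.Agent.ChevalleyStructure.Elts Cfsg.Agent.ChevalleyStructure.CoxeterGeom
  Cfsg.Agent.ChevalleyStructure.CoxeterGeomTypes Cfsg.Agent.ChevalleyStructure.NPerm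
open Cfsg.Agent.Tits.Roots Cfsg.Agent.Tits.Core Cfsg.Agent.Nodes Cfsg.Agent.Nodes.Reps Cfsg.Agent.Nodes.BNOf
  Cfsg.Agent.Nodes.RGDChev Cfsg.Agent.Nodes.Bruhat Cfsg.Agent.Nodes.NormalForm
open Cfsg.Agent.KFacts.RgdField Cfsg.Agent.KFacts.RgdChevCoord
open Cfsg.Agent.BpExc Cfsg.Agent.BpExc.TorCent Cfsg.Agent.BpExc.TorChev Cfsg.Agent.BpExc.Tow
  Cfsg.Agent.BpExc.TowChev Cfsg.Agent.BpExc.Fr Cfsg.Agent.BpExc.Pair Cfsg.Agent.BpExc.LangFr Cfsg.Agent.GpExc.Field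
  Cfsg.Agent.BpExc.NInst
open Cfsg.Agent.H461.E2.Sup Cfsg.Agent.H28.RG Cfsg.Agent.H169.RG Cfsg.Agent.H316.U6 Cfsg.Agent.H469.Exc

universe u v

section Abs

variable {I W Y : Type*} [Fintype I] [DecidableEq I] [Group W] [Finite W] [Group Y] {M : CoxeterMatrix I}
  {cs : CoxeterSystem M W} {A : I → I → ℤ} {h : IsCartan M A} {F : Type*} [Field F] {χ : (I → ℤ) → Y → F}
  {θ : (I → ℤ) ≃+ (I → ℤ)} {t : Y}

/-- `W_f` : the elements of `W` preserving the characters of the roots at `t` and commuting with `θ` on the roots -/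
def WF (cs : CoxeterSystem M W) (h : IsCartan M A) (χ : (I → ℤ) → Y → F) (t : Y) (θ : (I → ℤ) ≃+ (I → ℤ)) :
    Subgroup W where
  carrier := {w | (∀ a, IsRoot cs h a → χ (rep cs h w a) t = χ a t) ∧
    ∀ a, IsRoot cs h a → rep cs h w (θ a) = θ (rep cs h w a)}
  one_mem' := by
    refine ⟨fun a _ => ?_, fun a _ => ?_⟩
    · rw [map_one, Module.End.one_apply]
    · rw [map_one, Module.End.one_apply, Module.End.one_apply]
  mul_mem' := by
    rintro v w ⟨h1, h2⟩ ⟨h3, h4⟩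
    refine ⟨fun a ha => ?_, fun a ha => ?_⟩
    · rw [rep_mul_apply, h1 _ (ha.act w), h3 a ha]
    · rw [rep_mul_apply, rep_mul_apply, h4 a ha, h2 _ (ha.act w)]
  inv_mem' := by
    rintro w ⟨h1, h2⟩
    refine ⟨fun a ha => ?_, fun a ha => ?_⟩
    · rw [← h1 _ (ha.act w⁻¹), rep_apply_inv]
    · have h3 := h2 _ (ha.act w⁻¹)
      rw [rep_apply_inv] at h3
      rw [← h3, rep_inv_apply]

/-- `W_f` as a finite set -/
noncomputable def WFf (cs : CoxeterSystem M W) (h : IsCartan M A) (χ : (I → ℤ) → Y → F) (t : Y)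
    (θ : (I → ℤ) ≃+ (I → ℤ)) : Finset W := (Set.toFinite (WF cs h χ t θ : Set W)).toFinset

theorem mem_WFf {w : W} : w ∈ WFf cs h χ t θ ↔ w ∈ WF cs h χ t θ := by
  rw [WFf, Set.Finite.mem_toFinset, SetLike.mem_coe]

theorem card_WFf : (WFf cs h χ t θ).card = Nat.card ↥(WF cs h χ t θ) := by
  rw [WFf, ← Set.ncard_eq_toFinset_card, ← Nat.card_coe_set_eq]
  rfl

theorem rep_theta_all {w : W} (hw : w ∈ WF cs h χ t θ) (v : I → ℤ) : rep cs h w (θ v) = θ (rep cs h w v) := by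
  have h3 : v = ∑ j, v j • sr j := by
    funext i
    simp [sr, Finset.sum_apply, Pi.single_apply]
  rw [h3, map_sum, map_sum, map_sum, map_sum]
  refine Finset.sum_congr rfl fun j _ => ?_
  rw [map_zsmul, map_zsmul, map_zsmul, map_zsmul]
  congr 1
  exact hw.2 (sr j) (isRoot_sr cs h j)

theorem finite_SPt : (H28.RG.SP cs h χ t).Finite :=
  (RGD.finite_roots (cs := cs) (h := h)).subset fun _ ha => ha.1.1

theorem NSt_subset (w : W) : NSt cs h χ t w ⊆ H28.RG.SP cs h χ t := fun _ ha => ⟨ha.1, ha.2.1⟩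

theorem finite_NSt (w : W) : (NSt cs h χ t w).Finite := finite_SPt.subset (NSt_subset w)

theorem ncard_NSt_le (w : W) : (NSt cs h χ t w).ncard ≤ (H28.RG.SP cs h χ t).ncard :=
  Set.ncard_le_ncard (NSt_subset w) finite_SPt

/-- the inversion sets are `θ`-invariant -/
theorem theta_NSt (hneg : ∀ a ∈ Sx cs h χ t, -a ∈ Sx cs h χ t)
    (hS : ∀ a, θ a ∈ Sx cs h χ t ↔ a ∈ Sx cs h χ t) (hpos : ∀ a ∈ Sx cs h χ t, 0 ≤ a → 0 ≤ θ a)
    {w : W} (hw : w ∈ WF cs h χ t θ) {a : I → ℤ} (ha : a ∈ NSt cs h χ t w) : θ a ∈ NSt cs h χ t w := by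
  obtain ⟨h1, h2, h3⟩ := ha
  refine ⟨(hS a).2 h1, hpos a h1 h2, ?_⟩
  have h5 : rep cs h w a ∈ Sx cs h χ t := ⟨h1.1.act w, by rw [hw.1 a h1.1]; exact h1.2⟩
  have h6 := hpos _ (hneg _ h5) (neg_nonneg.2 h3)
  rw [hw.2 a h1.1]
  rwa [map_neg, neg_nonneg] at h6

/-- **Two elements of `W_f` with the same inversion set differ by an element of `PP`.** -/
theorem mem_PP_of_NSt (hneg : ∀ a ∈ Sx cs h χ t, -a ∈ Sx cs h χ t) {w w' : W} (hw : w ∈ WF cs h χ t θ)
    (hw' : w' ∈ WF cs h χ t θ) (e : NSt cs h χ t w = NSt cs h χ t w') : w' * w⁻¹ ∈ PP cs h χ t := by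
  have hm := (WF cs h χ t θ).mul_mem hw' ((WF cs h χ t θ).inv_mem hw)
  refine mem_PP.2 ⟨hm.1, fun a ha h0 => ?_⟩
  rw [rep_mul_apply]
  have hb : rep cs h w⁻¹ a ∈ Sx cs h χ t :=
    ⟨ha.1.act w⁻¹, by rw [((WF cs h χ t θ).inv_mem hw).1 a ha.1]; exact ha.2⟩
  have hwb : rep cs h w (rep cs h w⁻¹ a) = a := rep_apply_inv ..
  set b := rep cs h w⁻¹ a with hbdef
  rcases hb.1.pos_or_neg with h1 | h1
  · rcases (hb.1.act w').pos_or_neg with h2 | h2
    · exact h2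
    · have h3 : b ∈ NSt cs h χ t w := by rw [e]; exact ⟨hb, h1, h2⟩
      have h4 := h3.2.2
      rw [hwb] at h4
      exact (ha.1.not_pos_neg h0 h4).elim
  · have h3 : -b ∈ NSt cs h χ t w := ⟨hneg b hb, neg_nonneg.2 h1, by
      rw [map_neg, hwb]
      exact neg_nonpos.2 h0⟩
    rw [e] at h3
    have h4 := h3.2.2
    rw [map_neg] at h4
    exact neg_nonpos.1 h4

/-- **The sum over `W_f`** -/
theorem sum_WF_le (hneg : ∀ a ∈ Sx cs h χ t, -a ∈ Sx cs h χ t) (Q : ℕ) (𝓑 : Finset (Finset (I → ℤ)))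
    (h𝓑 : ∀ w ∈ WF cs h χ t θ, (finite_NSt (cs := cs) (h := h) (χ := χ) (t := t) w).toFinset ∈ 𝓑) :
    ∑ w ∈ WFf cs h χ t θ, Q ^ (NSt cs h χ t w).ncard ≤ Nat.card ↥(PP cs h χ t) * ∑ B ∈ 𝓑, Q ^ B.card := by
  classical
  rw [← Finset.sum_fiberwise_of_maps_to (s := WFf cs h χ t θ) (t := 𝓑)
    (g := fun w => (finite_NSt (cs := cs) (h := h) (χ := χ) (t := t) w).toFinset)
    (fun w hw => h𝓑 w (mem_WFf.1 hw)), Finset.mul_sum]
  refine Finset.sum_le_sum fun B _ => ?_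
  rw [Finset.sum_congr rfl (g := fun _ => Q ^ B.card) (fun w hw => ?_), Finset.sum_const, smul_eq_mul]
  · refine Nat.mul_le_mul_right _ ?_
    rcases Finset.eq_empty_or_nonempty ({w ∈ WFf cs h χ t θ |
      (finite_NSt (cs := cs) (h := h) (χ := χ) (t := t) w).toFinset = B}) with h0 | ⟨w₀, h0⟩
    · rw [h0, Finset.card_empty]
      exact Nat.zero_le _
    · obtain ⟨h1, h2⟩ := Finset.mem_filter.1 h0
      have hPPc : Nat.card ↥(PP cs h χ t) = (Set.toFinite (PP cs h χ t : Set W)).toFinset.card := by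
        rw [← Set.ncard_eq_toFinset_card, ← Nat.card_coe_set_eq]
        rfl
      rw [hPPc]
      refine Finset.card_le_card_of_injOn (fun w => w * w₀⁻¹) (fun w hw => ?_) (fun w _ w' _ e => mul_right_cancel e)
      obtain ⟨h3, h4⟩ := Finset.mem_filter.1 (Finset.mem_coe.1 hw)
      rw [Finset.mem_coe, Set.Finite.mem_toFinset]
      refine mem_PP_of_NSt hneg (mem_WFf.1 h1) (mem_WFf.1 h3) ?_
      have h5 := h2.trans h4.symm
      exact Set.Finite.toFinset_inj.1 h5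
  · obtain ⟨h3, h4⟩ := Finset.mem_filter.1 hw
    rw [← h4, Set.ncard_eq_toFinset_card _ (finite_NSt w)]

/-- all subsets -/
theorem sum_powerset_card {β : Type*} (s : Finset β) (Q : ℕ) : ∑ B ∈ s.powerset, Q ^ B.card = (1 + Q) ^ s.card := by
  classical
  have h1 := Finset.prod_one_add (f := fun _ => Q) s
  rw [Finset.prod_const] at h1
  rw [h1]
  refine Finset.sum_congr rfl fun B _ => ?_
  rw [Finset.prod_const]

/-- subsets which are unions of blocks -/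
theorem sum_blocks_le {β ι : Type*} [DecidableEq β] (ι' : Finset ι) (O : ι → Finset β) (Q : ℕ) (𝓑 : Finset (Finset β))
    (hdisj : ∀ i ∈ ι', ∀ j ∈ ι', i ≠ j → Disjoint (O i) (O j))
    (hB : ∀ B ∈ 𝓑, ∃ J ⊆ ι', B = J.biUnion O) :
    ∑ B ∈ 𝓑, Q ^ B.card ≤ ∏ i ∈ ι', (1 + Q ^ (O i).card) := by
  classical
  rw [Finset.prod_one_add]
  have h1 : 𝓑 ⊆ ι'.powerset.image (fun J => J.biUnion O) := by
    intro B hB'
    obtain ⟨J, hJ, e⟩ := hB B hB'
    exact Finset.mem_image.2 ⟨J, Finset.mem_powerset.2 hJ, e.symm⟩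
  have h2 : ∀ J ∈ ι'.powerset, Q ^ (J.biUnion O).card = ∏ i ∈ J, Q ^ (O i).card := by
    intro J hJ
    rw [Finset.prod_pow_eq_pow_sum, Finset.card_biUnion]
    intro i hi j hj hij
    exact hdisj i (Finset.mem_powerset.1 hJ hi) j (Finset.mem_powerset.1 hJ hj) hij
  calc ∑ B ∈ 𝓑, Q ^ B.card ≤ ∑ B ∈ ι'.powerset.image (fun J => J.biUnion O), Q ^ B.card :=
        Finset.sum_le_sum_of_subset h1
    _ ≤ ∑ J ∈ ι'.powerset, Q ^ (J.biUnion O).card := by
        refine Finset.sum_image_le_of_nonneg ?_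
        intro _ _
        exact Nat.zero_le _
    _ = _ := Finset.sum_congr rfl h2

/-- a `θ`-invariant subset of a finite union of parts of orbits is a union of blocks -/
theorem exists_blocks {ι : Type*} (ι' : Finset ι) (O : ι → Finset (I → ℤ))
    (hO : ∀ i ∈ ι', ∀ a ∈ O i, ∀ b ∈ O i, ∃ n : ℕ, b = (fun x => θ x)^[n] a)
    {B : Finset (I → ℤ)} (hB : ∀ a ∈ B, θ a ∈ B) (hcov : ∀ a ∈ B, ∃ i ∈ ι', a ∈ O i) :
    ∃ J ⊆ ι', B = J.biUnion O := by
  classical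
  refine ⟨ι'.filter (fun i => ∃ a ∈ O i, a ∈ B), Finset.filter_subset _ _, ?_⟩
  have hit : ∀ n, ∀ a ∈ B, (fun x => θ x)^[n] a ∈ B := by
    intro n
    induction n with
    | zero => exact fun a ha => ha
    | succ n ih => intro a ha; rw [Function.iterate_succ_apply']; exact hB _ (ih a ha)
  ext b
  constructor
  · intro hb
    obtain ⟨i, hi, hbi⟩ := hcov b hb
    exact Finset.mem_biUnion.2 ⟨i, Finset.mem_filter.2 ⟨hi, b, hbi, hb⟩, hbi⟩
  · intro hb
    obtain ⟨i, hi, hbi⟩ := Finset.mem_biUnion.1 hb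
    obtain ⟨hi, a, hai, ha⟩ := Finset.mem_filter.1 hi
    obtain ⟨n, e⟩ := hO i hi a hai b hbi
    rw [e]
    exact hit n a ha

end Abs

/-! ### `Y = D.group k` -/

section Dgroup

variable {D : ChevalleyDatum} {l : ℕ} {M : CoxeterMatrix (Fin l)} (hp : IsType D l M) {k : Type u} [Field k]
  {W : Type v} [Group W] (cs : CoxeterSystem M W) {r e : ℕ} [Fact r.Prime] [CharP k r]
  {α : MulAut ↥(D.group k)} {θ : (Fin l → ℤ) ≃+ (Fin l → ℤ)} {t : ↥(D.group k)}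

include hp cs in
/-- the fixed points of `α` on the torus -/
theorem finite_TTα [IsAlgClosed k] [Finite W] (he : 0 < e) (hα : IsFrob r e α)
    (F : Fr cs hp.isCartan (TT D k) (XX D l k) α θ) : Finite ↥(TT D k ⊓ fixedSubgroup α) :=
  (H448.TorB.card_fixT_le hp cs he hα F (H := TT D k ⊓ fixedSubgroup α) inf_le_left fun _ ht => ht.2).1

include hp cs in
theorem card_TTα_le [IsAlgClosed k] [Finite W] (he : 0 < e) (hα : IsFrob r e α)
    (F : Fr cs hp.isCartan (TT D k) (XX D l k) α θ) :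
    Nat.card ↥(TT D k ⊓ fixedSubgroup α) ≤ (r ^ e + 1) ^ l :=
  (H448.TorB.card_fixT_le hp cs he hα F (H := TT D k ⊓ fixedSubgroup α) inf_le_left fun _ ht => ht.2).2

/-- **The Bruhat count, for `D.group k`.** -/
theorem card_sum [IsAlgClosed k] [Finite W] (hk : LocFin k) (he : 0 < e) (hα : IsFrob r e α)
    (F : Fr cs hp.isCartan (TT D k) (XX D l k) α θ) (ht : t ∈ TT D k) (hαt : α t = t)
    (hpos : ∀ a ∈ Sx cs hp.isCartan (ch hp) t, 0 ≤ a → 0 ≤ θ a) :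
    Nat.card ↥(fixC α t) ≤ ∑ w ∈ WFf cs hp.isCartan (ch hp) t θ, Nat.card ↥(TT D k ⊓ fixedSubgroup α) *
      (r ^ e) ^ ((H28.RG.SP cs hp.isCartan (ch hp) t).ncard + (NSt cs hp.isCartan (ch hp) t w).ncard) := by
  have hTL := TL_eq (k := k) hp hk
  have hXL := XL_eq (k := k) hp hk
  have H := tow (k := k) hp cs hk r
  have C := coordsL (k := k) hp cs hk r
  have hG := GG_eq_top (k := k) hp cs hk
  have hA := chAddL (k := k) hp cs hk r
  have F' : Fr cs hp.isCartan (TL (Tj hp (k := k))) (XL (Xj hp (k := k))) α θ := by rw [hTL, hXL]; exact F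
  have C' : Coords cs hp.isCartan (TL (Tj hp (k := k))) (nc hp k) (XL (Xj hp (k := k))) (xc hp) (ch hp) := by
    rw [hTL, hXL]; exact C
  have hsep : ∀ a, IsRoot cs hp.isCartan a → ∃ s ∈ TL (Tj hp (k := k)), ∀ u ∈ XL (Xj hp (k := k)) a,
      u * s = s * u → u = 1 := by
    rw [hTL, hXL]
    exact fun a ha => NChev.sep hp cs hk r ha
  have hfT : Finite ↥(TL (Tj hp (k := k)) ⊓ fixedSubgroup α) := by
    rw [hTL]
    exact finite_TTα hp cs he hα F
  have hQ : 0 < r ^ e := pow_pos (Fact.out : r.Prime).pos e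
  have key := card_fixC_le H C' F' hQ (by
      rw [hXL]
      exact fun Ψ hP hZ hθ => H461.E2.Fix.card_fix (hp := hp) (cs := cs) hk r he hα F hP hZ hθ) (by
      rw [hXL]
      exact fun a ha => H696.GmnToral.XX_ne hp cs ha) (by
      rw [hXL]
      exact fun a b ha hb u hu hu' hu1 => H696.GmnToral.XX_injective hp cs hk r ha hb hu1 hu hu') (by
      rw [hTL]
      exact hA) hG hsep (t := t) (by rw [hTL]; exact ht) hαt hpos (H461.E2.Cent.zcl_Sx (r := r) hp cs hk ht)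
      (WFf cs hp.isCartan (ch hp) t θ) (fun w h1 h2 _ => mem_WFf.2 ⟨h1, h2⟩)
  rwa [hTL] at key

/-- **(i)** `|C_{Y^α}(t)| ≤ |W_f| |T^α| q^(2N)` -/
theorem card_le_WF [IsAlgClosed k] [Finite W] (hk : LocFin k) (he : 0 < e) (hα : IsFrob r e α)
    (F : Fr cs hp.isCartan (TT D k) (XX D l k) α θ) (ht : t ∈ TT D k) (hαt : α t = t)
    (hpos : ∀ a ∈ Sx cs hp.isCartan (ch hp) t, 0 ≤ a → 0 ≤ θ a) :
    Nat.card ↥(fixC α t) ≤ Nat.card ↥(WF cs hp.isCartan (ch hp) t θ) * (Nat.card ↥(TT D k ⊓ fixedSubgroup α) *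
      (r ^ e) ^ (2 * (H28.RG.SP cs hp.isCartan (ch hp) t).ncard)) := by
  refine (card_sum hp cs hk he hα F ht hαt hpos).trans ?_
  rw [← card_WFf, ← smul_eq_mul, ← Finset.sum_const]
  refine Finset.sum_le_sum fun w _ => Nat.mul_le_mul_left _ ?_
  refine Nat.pow_le_pow_right (pow_pos (Fact.out : r.Prime).pos e) ?_
  have h1 := ncard_NSt_le (cs := cs) (h := hp.isCartan) (χ := ch hp) (t := t) w
  omega

/-- **Any family of possible inversion sets.** -/
theorem card_le_fam [IsAlgClosed k] [Finite W] (hk : LocFin k) (he : 0 < e) (hα : IsFrob r e α)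
    (F : Fr cs hp.isCartan (TT D k) (XX D l k) α θ) (ht : t ∈ TT D k) (hαt : α t = t)
    (hpos : ∀ a ∈ Sx cs hp.isCartan (ch hp) t, 0 ≤ a → 0 ≤ θ a) (𝓑 : Finset (Finset (Fin l → ℤ)))
    (h𝓑 : ∀ w ∈ WF cs hp.isCartan (ch hp) t θ,
      (finite_NSt (cs := cs) (h := hp.isCartan) (χ := ch hp) (t := t) w).toFinset ∈ 𝓑) :
    Nat.card ↥(fixC α t) ≤ Nat.card ↥(TT D k ⊓ fixedSubgroup α) *
      (r ^ e) ^ (H28.RG.SP cs hp.isCartan (ch hp) t).ncard *
      (Nat.card ↥(PP cs hp.isCartan (ch hp) t) * ∑ B ∈ 𝓑, (r ^ e) ^ B.card) := by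
  have hA := chAddL (k := k) hp cs hk r
  have C := coordsL (k := k) hp cs hk r
  refine (card_sum hp cs hk he hα F ht hαt hpos).trans ?_
  refine le_trans (le_of_eq ?_) (Nat.mul_le_mul_left _ (sum_WF_le (cs := cs) (h := hp.isCartan) (χ := ch hp) (t := t)
    (θ := θ) (fun a ha => chi_neg C ht hA ha) (r ^ e) 𝓑 h𝓑))
  rw [Finset.mul_sum]
  refine Finset.sum_congr rfl fun w _ => ?_
  rw [pow_add, mul_assoc]

/-- **(ii)** `|C_{Y^α}(t)| ≤ |T^α| q^N |PP| (1 + q)^N` -/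
theorem card_le_PP [IsAlgClosed k] [Finite W] (hk : LocFin k) (he : 0 < e) (hα : IsFrob r e α)
    (F : Fr cs hp.isCartan (TT D k) (XX D l k) α θ) (ht : t ∈ TT D k) (hαt : α t = t)
    (hpos : ∀ a ∈ Sx cs hp.isCartan (ch hp) t, 0 ≤ a → 0 ≤ θ a) :
    Nat.card ↥(fixC α t) ≤ Nat.card ↥(TT D k ⊓ fixedSubgroup α) *
      (r ^ e) ^ (H28.RG.SP cs hp.isCartan (ch hp) t).ncard *
      (Nat.card ↥(PP cs hp.isCartan (ch hp) t) *
        (1 + r ^ e) ^ (H28.RG.SP cs hp.isCartan (ch hp) t).ncard) := by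
  refine (card_le_fam hp cs hk he hα F ht hαt hpos
    (finite_SPt (cs := cs) (h := hp.isCartan) (χ := ch hp) (t := t)).toFinset.powerset (fun w _ => ?_)).trans ?_
  · rw [Finset.mem_powerset, Set.Finite.toFinset_subset_toFinset]
    exact NSt_subset w
  · rw [sum_powerset_card, ← Set.ncard_eq_toFinset_card _ finite_SPt]

/-- `|C_{Y^α}(t)| ≤ |PP| (q + 1)^(l + N) q^N` -/
theorem card_le_PP' [IsAlgClosed k] [Finite W] (hk : LocFin k) (he : 0 < e) (hα : IsFrob r e α)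
    (F : Fr cs hp.isCartan (TT D k) (XX D l k) α θ) (ht : t ∈ TT D k) (hαt : α t = t)
    (hpos : ∀ a ∈ Sx cs hp.isCartan (ch hp) t, 0 ≤ a → 0 ≤ θ a) :
    Nat.card ↥(fixC α t) ≤ Nat.card ↥(PP cs hp.isCartan (ch hp) t) *
      ((r ^ e + 1) ^ (l + (H28.RG.SP cs hp.isCartan (ch hp) t).ncard) *
        (r ^ e) ^ (H28.RG.SP cs hp.isCartan (ch hp) t).ncard) := by
  refine (card_le_PP hp cs hk he hα F ht hαt hpos).trans ?_
  calc _ ≤ (r ^ e + 1) ^ l * (r ^ e) ^ (H28.RG.SP cs hp.isCartan (ch hp) t).ncard *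
      (Nat.card ↥(PP cs hp.isCartan (ch hp) t) * (1 + r ^ e) ^ (H28.RG.SP cs hp.isCartan (ch hp) t).ncard) :=
        Nat.mul_le_mul_right _ (Nat.mul_le_mul_right _ (card_TTα_le hp cs he hα F))
    _ = _ := by
        rw [pow_add, add_comm 1 (r ^ e)]
        ring

/-- **(iii)** `|C_{Y^α}(t)| ≤ |T^α| q^N |PP| ∏_i (1 + q^|O_i|)`, where the disjoint sets `O_i`, parts of orbits of `θ`,
cover the positive roots of `Sx t` -/
theorem card_le_orb [IsAlgClosed k] [Finite W] (hk : LocFin k) (he : 0 < e) (hα : IsFrob r e α)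
    (F : Fr cs hp.isCartan (TT D k) (XX D l k) α θ) (ht : t ∈ TT D k) (hαt : α t = t)
    (hpos : ∀ a ∈ Sx cs hp.isCartan (ch hp) t, 0 ≤ a → 0 ≤ θ a) {ι : Type*} (ι' : Finset ι)
    (O : ι → Finset (Fin l → ℤ)) (hdisj : ∀ i ∈ ι', ∀ j ∈ ι', i ≠ j → Disjoint (O i) (O j))
    (hO : ∀ i ∈ ι', ∀ a ∈ O i, ∀ b ∈ O i, ∃ n : ℕ, b = (fun x => θ x)^[n] a)
    (hcov : ∀ a ∈ Sx cs hp.isCartan (ch hp) t, 0 ≤ a → ∃ i ∈ ι', a ∈ O i) :
    Nat.card ↥(fixC α t) ≤ Nat.card ↥(TT D k ⊓ fixedSubgroup α) *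
      (r ^ e) ^ (H28.RG.SP cs hp.isCartan (ch hp) t).ncard *
      (Nat.card ↥(PP cs hp.isCartan (ch hp) t) * ∏ i ∈ ι', (1 + (r ^ e) ^ (O i).card)) := by
  classical
  have hTL := TL_eq (k := k) hp hk
  have hXL := XL_eq (k := k) hp hk
  have hA := chAddL (k := k) hp cs hk r
  have C := coordsL (k := k) hp cs hk r
  have F' : Fr cs hp.isCartan (TL (Tj hp (k := k))) (XL (Xj hp (k := k))) α θ := by rw [hTL, hXL]; exact F
  have C' : Coords cs hp.isCartan (TL (Tj hp (k := k))) (nc hp k) (XL (Xj hp (k := k))) (xc hp) (ch hp) := by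
    rw [hTL, hXL]; exact C
  have hS : ∀ a, θ a ∈ Sx cs hp.isCartan (ch hp) t ↔ a ∈ Sx cs hp.isCartan (ch hp) t :=
    fun a => F'.mem_Sx C' (by rw [hTL]; exact ht) hαt a
  set P := (finite_SPt (cs := cs) (h := hp.isCartan) (χ := ch hp) (t := t)).toFinset with hP
  refine (card_le_fam hp cs hk he hα F ht hαt hpos (P.powerset.filter fun B => ∀ a ∈ B, θ a ∈ B)
    (fun w hw => ?_)).trans (Nat.mul_le_mul_left _ (Nat.mul_le_mul_left _ (sum_blocks_le ι' O (r ^ e) _ hdisj ?_)))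
  · refine Finset.mem_filter.2 ⟨?_, fun a ha => ?_⟩
    · rw [Finset.mem_powerset, hP, Set.Finite.toFinset_subset_toFinset]
      exact NSt_subset w
    · rw [Set.Finite.mem_toFinset] at ha ⊢
      exact theta_NSt (fun a ha => chi_neg C ht hA ha) hS hpos hw ha
  · intro B hB
    obtain ⟨h1, h2⟩ := Finset.mem_filter.1 hB
    refine exists_blocks (θ := θ) ι' O hO h2 fun a ha => ?_
    have h3 := Finset.mem_powerset.1 h1 ha
    rw [hP, Set.Finite.mem_toFinset] at h3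
    exact hcov a h3.1 h3.2

/-- **(iv)** the inversion sets are `θ`-invariant, closed and coclosed: `𝓑` any family containing all such sets -/
theorem card_le_bic [IsAlgClosed k] [Finite W] (hk : LocFin k) (he : 0 < e) (hα : IsFrob r e α)
    (F : Fr cs hp.isCartan (TT D k) (XX D l k) α θ) (ht : t ∈ TT D k) (hαt : α t = t)
    (hpos : ∀ a ∈ Sx cs hp.isCartan (ch hp) t, 0 ≤ a → 0 ≤ θ a) (𝓑 : Finset (Finset (Fin l → ℤ)))
    (h𝓑 : ∀ B : Finset (Fin l → ℤ), (∀ a ∈ B, a ∈ Sx cs hp.isCartan (ch hp) t ∧ 0 ≤ a) → (∀ a ∈ B, θ a ∈ B) →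
      (∀ a ∈ B, ∀ b ∈ B, IsRoot cs hp.isCartan (a + b) → a + b ∈ B) →
      (∀ a ∈ Sx cs hp.isCartan (ch hp) t, 0 ≤ a → ∀ b ∈ Sx cs hp.isCartan (ch hp) t, 0 ≤ b → a + b ∈ B →
        a ∈ B ∨ b ∈ B) → B ∈ 𝓑) :
    Nat.card ↥(fixC α t) ≤ Nat.card ↥(TT D k ⊓ fixedSubgroup α) *
      (r ^ e) ^ (H28.RG.SP cs hp.isCartan (ch hp) t).ncard *
      (Nat.card ↥(PP cs hp.isCartan (ch hp) t) * ∑ B ∈ 𝓑, (r ^ e) ^ B.card) := by
  have hTL := TL_eq (k := k) hp hk
  have hXL := XL_eq (k := k) hp hk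
  have hA := chAddL (k := k) hp cs hk r
  have C := coordsL (k := k) hp cs hk r
  have F' : Fr cs hp.isCartan (TL (Tj hp (k := k))) (XL (Xj hp (k := k))) α θ := by rw [hTL, hXL]; exact F
  have C' : Coords cs hp.isCartan (TL (Tj hp (k := k))) (nc hp k) (XL (Xj hp (k := k))) (xc hp) (ch hp) := by
    rw [hTL, hXL]; exact C
  have hS : ∀ a, θ a ∈ Sx cs hp.isCartan (ch hp) t ↔ a ∈ Sx cs hp.isCartan (ch hp) t :=
    fun a => F'.mem_Sx C' (by rw [hTL]; exact ht) hαt a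
  refine card_le_fam hp cs hk he hα F ht hαt hpos 𝓑 fun w hw => h𝓑 _ (fun a ha => ?_) (fun a ha => ?_)
    (fun a ha b hb hab => ?_) (fun a ha ha0 b hb hb0 hab => ?_)
  · rw [Set.Finite.mem_toFinset] at ha
    exact ⟨ha.1, ha.2.1⟩
  · rw [Set.Finite.mem_toFinset] at ha ⊢
    exact theta_NSt (fun a ha => chi_neg C ht hA ha) hS hpos hw ha
  · rw [Set.Finite.mem_toFinset] at ha hb ⊢
    refine ⟨⟨hab, ?_⟩, add_nonneg ha.2.1 hb.2.1, ?_⟩
    · obtain ⟨φ, h0, hadd, hφ⟩ := hA t ht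
      rw [hφ _ hab, hadd, ← hφ a ha.1.1, ← hφ b hb.1.1, ha.1.2, hb.1.2, one_mul]
    · rw [map_add]
      exact add_nonpos ha.2.2 hb.2.2
  · rw [Set.Finite.mem_toFinset] at hab
    rcases (ha.1.act w).pos_or_neg with h1 | h1
    · rcases (hb.1.act w).pos_or_neg with h2 | h2
      · exfalso
        refine (hab.1.1.act w).not_pos_neg ?_ hab.2.2
        rw [map_add]
        exact add_nonneg h1 h2
      · right
        rw [Set.Finite.mem_toFinset]
        exact ⟨hb, hb0, h2⟩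
    · left
      rw [Set.Finite.mem_toFinset]
      exact ⟨ha, ha0, h1⟩

end Dgroup

/-! ### the toral form: `s ∈ Y^σ` of order prime to `r`, `f : TorForm m s` -/

section Tor

variable {D : ChevalleyDatum} {l : ℕ} {M : CoxeterMatrix (Fin l)} {hp : IsType D l M} {r q : ℕ} [hr : Fact r.Prime]
  {K₀ : Type v} [Group K₀] {m : MData hp r q K₀} {s : ↥(D.group (KK r))}

/-- `|C_{Y^σ}(s)| = |C_{Y^α}(t)|` -/
theorem card_eq (f : TorForm m s) : Nat.card ↥(fixC m.σ s) = Nat.card ↥(fixC f.α f.t) :=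
  Nat.card_congr f.equiv.toEquiv

theorem tor_le_WF [Finite M.Group] (f : TorForm m s) :
    Nat.card ↥(fixC m.σ s) ≤ Nat.card ↥(WF M.toCoxeterSystem hp.isCartan (ch hp) f.t f.θ) *
      (Nat.card ↥(TT D (KK r) ⊓ fixedSubgroup f.α) *
        q ^ (2 * (H28.RG.SP M.toCoxeterSystem hp.isCartan (ch hp) f.t).ncard)) := by
  have key := card_le_WF hp M.toCoxeterSystem (locFin r) m.he f.frob f.fr f.mem f.fix f.pos
  rw [m.hq] at key
  exact (card_eq f).trans_le key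

theorem tor_le_PP' [Finite M.Group] (f : TorForm m s) :
    Nat.card ↥(fixC m.σ s) ≤ Nat.card ↥(PP M.toCoxeterSystem hp.isCartan (ch hp) f.t) *
      ((q + 1) ^ (l + (H28.RG.SP M.toCoxeterSystem hp.isCartan (ch hp) f.t).ncard) *
        q ^ (H28.RG.SP M.toCoxeterSystem hp.isCartan (ch hp) f.t).ncard) := by
  have key := card_le_PP' hp M.toCoxeterSystem (locFin r) m.he f.frob f.fr f.mem f.fix f.pos
  rw [m.hq] at key
  exact (card_eq f).trans_le key

theorem tor_le_orb [Finite M.Group] (f : TorForm m s) {ι : Type*} (ι' : Finset ι)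
    (O : ι → Finset (Fin l → ℤ)) (hdisj : ∀ i ∈ ι', ∀ j ∈ ι', i ≠ j → Disjoint (O i) (O j))
    (hO : ∀ i ∈ ι', ∀ a ∈ O i, ∀ b ∈ O i, ∃ n : ℕ, b = (fun x => f.θ x)^[n] a)
    (hcov : ∀ a ∈ Sx M.toCoxeterSystem hp.isCartan (ch hp) f.t, 0 ≤ a → ∃ i ∈ ι', a ∈ O i) :
    Nat.card ↥(fixC m.σ s) ≤ Nat.card ↥(TT D (KK r) ⊓ fixedSubgroup f.α) *
      q ^ (H28.RG.SP M.toCoxeterSystem hp.isCartan (ch hp) f.t).ncard *
      (Nat.card ↥(PP M.toCoxeterSystem hp.isCartan (ch hp) f.t) * ∏ i ∈ ι', (1 + q ^ (O i).card)) := by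
  have key := card_le_orb hp M.toCoxeterSystem (locFin r) m.he f.frob f.fr f.mem f.fix f.pos ι' O hdisj hO hcov
  rw [m.hq] at key
  exact (card_eq f).trans_le key

theorem tor_le_bic [Finite M.Group] (f : TorForm m s) (𝓑 : Finset (Finset (Fin l → ℤ)))
    (h𝓑 : ∀ B : Finset (Fin l → ℤ),
      (∀ a ∈ B, a ∈ Sx M.toCoxeterSystem hp.isCartan (ch hp) f.t ∧ 0 ≤ a) → (∀ a ∈ B, f.θ a ∈ B) →
      (∀ a ∈ B, ∀ b ∈ B, IsRoot M.toCoxeterSystem hp.isCartan (a + b) → a + b ∈ B) →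
      (∀ a ∈ Sx M.toCoxeterSystem hp.isCartan (ch hp) f.t, 0 ≤ a →
        ∀ b ∈ Sx M.toCoxeterSystem hp.isCartan (ch hp) f.t, 0 ≤ b → a + b ∈ B → a ∈ B ∨ b ∈ B) → B ∈ 𝓑) :
    Nat.card ↥(fixC m.σ s) ≤ Nat.card ↥(TT D (KK r) ⊓ fixedSubgroup f.α) *
      q ^ (H28.RG.SP M.toCoxeterSystem hp.isCartan (ch hp) f.t).ncard *
      (Nat.card ↥(PP M.toCoxeterSystem hp.isCartan (ch hp) f.t) * ∑ B ∈ 𝓑, q ^ B.card) := by
  have key := card_le_bic hp M.toCoxeterSystem (locFin r) m.he f.frob f.fr f.mem f.fix f.pos 𝓑 h𝓑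
  rw [m.hq] at key
  exact (card_eq f).trans_le key

theorem tor_TT [Finite M.Group] (f : TorForm m s) : Nat.card ↥(TT D (KK r) ⊓ fixedSubgroup f.α) ≤ (q + 1) ^ l := by
  have key := card_TTα_le hp M.toCoxeterSystem m.he f.frob f.fr
  rwa [m.hq] at key

/-- the number of roots of `Sx t` is `2 N` -/
theorem tor_ncard (f : TorForm m s) : (Sx M.toCoxeterSystem hp.isCartan (ch hp) f.t).ncard =
    2 * (H28.RG.SP M.toCoxeterSystem hp.isCartan (ch hp) f.t).ncard :=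
  H461.E2.Cent.ncard_Sx hp M.toCoxeterSystem (r := r) (locFin r) f.mem

end Tor

end Cfsg.Agent.H550.RG
end

private theorem dce_11b4c91f83da : _root_.True := by
  try have : _root_.True := by simp only [_root_.Cfsg.Agent.H550.RG.WFf.eq_1]
  exact _root_.True.intro
end

-- part: H398/RG/CondL_mg
section
prune_inst 0x6030780000601000000000008000002414000000004084008c410300010082600d02a8000500001b5820000800040000005c04308000000000200000002506091000100691480000000080000004400000000000000000000000000000000000000400000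
set_option linter.all false
open scoped Cfsg.Agent.FastGrp

-- part: H398/RG/Orb
section
/-!
# S3509: orbits of a graph automorphism on the neighbours of a fixed root (helper398)

`S` a closed symmetric set of roots, simply laced (`⟨x, y⟩ = ⟨y, x⟩` on `S`), `θ` an automorphism of the lattice preserving the roots, `S` and
the positive roots of `S`; `β ∈ S` fixed by `θ`; `Γ = {γ ∈ S | ⟨γ, β⟩ = 1}`.

* `orb` : if `Γ` is nonempty, some `γ ∈ Γ` is fixed by `θ`, or `θ² γ = γ` and `γ ⟂ θ γ`, or `γ + θ γ = β`;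
* `orb3` : if `Γ` contains `γ` and `γ' ≠ γ, β - γ`, one of the first two cases holds for some member of `Γ`.
-/

set_option autoImplicit false
set_option linter.unusedSectionVars false

namespace Cfsg.Agent.H398.RG

open CoxeterSystem Cfsg.Agent.ChevalleyStructure.CoxeterGeom Cfsg.Agent.Tits.Roots Cfsg.Agent.Tits.Core
  Cfsg.Agent.Nodes.Reps Cfsg.Agent.Nodes.Coroot Cfsg.Agent.KFacts.RgdSL

variable {I W : Type*} [Fintype I] [DecidableEq I] [Group W] [Finite W] {M : CoxeterMatrix I}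
  {cs : CoxeterSystem M W} {A : I → I → ℤ} {h : IsCartan M A}

/-- the situation -/
structure StabS (cs : CoxeterSystem M W) (h : IsCartan M A) (S : Set (I → ℤ)) (θ : (I → ℤ) ≃+ (I → ℤ)) : Prop where
  rts : ∀ a ∈ S, IsRoot cs h a
  neg : ∀ a ∈ S, -a ∈ S
  sub : ∀ a ∈ S, ∀ b ∈ S, IsRoot cs h (a - b) → a - b ∈ S
  root : ∀ a, IsRoot cs h (θ a) ↔ IsRoot cs h a
  mem : ∀ a ∈ S, θ a ∈ S
  pos : ∀ a ∈ S, 0 ≤ a → 0 ≤ θ a

namespace StabS

variable {S : Set (I → ℤ)} {θ θ' : (I → ℤ) ≃+ (I → ℤ)}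

theorem comp (H : StabS cs h S θ) (H' : StabS cs h S θ') : StabS cs h S (θ.trans θ') where
  rts := H.rts
  neg := H.neg
  sub := H.sub
  root a := (H'.root _).trans (H.root a)
  mem a ha := H'.mem _ (H.mem a ha)
  pos a ha h0 := H'.pos _ (H.mem a ha) (H.pos a ha h0)

/-- `θ` has finite order on the roots -/
theorem exists_period (H : StabS cs h S θ) {a : I → ℤ} (ha : IsRoot cs h a) : ∃ m : ℕ, 0 < m ∧ (θ^[m]) a = a := by
  have hfin : Finite {b : I → ℤ // IsRoot cs h b} := by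
    have h1 : {b : I → ℤ | IsRoot cs h b} ⊆ Set.range (fun wi : W × I => rep cs h wi.1 (sr wi.2)) := by
      rintro b ⟨w, i, rfl⟩
      exact ⟨(w, i), rfl⟩
    exact ((Set.finite_range _).subset h1).to_subtype
  let f : {b : I → ℤ // IsRoot cs h b} → {b : I → ℤ // IsRoot cs h b} := fun b => ⟨θ b, (H.root _).2 b.2⟩
  have hf : Function.Injective f := by
    intro b c hbc
    exact Subtype.ext (θ.injective (congrArg Subtype.val hbc))
  have h2 : ∀ (m : ℕ) (b : {b : I → ℤ // IsRoot cs h b}), ((f^[m]) b : I → ℤ) = (θ^[m]) b := by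
    intro m
    induction m with
    | zero => intro b; rfl
    | succ m ih => intro b; rw [Function.iterate_succ_apply, Function.iterate_succ_apply, ih]
  obtain ⟨m, hm, hm'⟩ := hf.mem_periodicPts ⟨a, ha⟩
  refine ⟨m, hm, ?_⟩
  have h3 := congrArg Subtype.val hm'
  rw [h2] at h3
  exact h3

theorem iter_pos (H : StabS cs h S θ) {a : I → ℤ} (ha : a ∈ S) (h0 : 0 ≤ a) (m : ℕ) : (θ^[m]) a ∈ S ∧ 0 ≤ (θ^[m]) a := by
  induction m with
  | zero => exact ⟨ha, h0⟩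
  | succ m ih =>
    rw [Function.iterate_succ_apply']
    exact ⟨H.mem _ ih.1, H.pos _ ih.1 ih.2⟩

/-- `a = b - θ b` is impossible for a root `a ∈ S` and a root `b` -/
theorem no_diff_pos (H : StabS cs h S θ) {b : I → ℤ} (hb : IsRoot cs h b) (ha : b - θ b ∈ S) (h0 : 0 ≤ b - θ b) :
    False := by
  obtain ⟨m, hm, hm'⟩ := H.exists_period hb
  have h1 : ∀ j : ℕ, 0 ≤ b - (θ^[j]) b := by
    intro j
    induction j with
    | zero => simp
    | succ j ih =>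
      have h2 := (H.iter_pos ha h0 j).2
      have h3 : (θ^[j]) (b - θ b) = (θ^[j]) b - (θ^[j + 1]) b := by
        rw [Function.iterate_succ_apply]
        have : ∀ (j : ℕ) (x y : I → ℤ), (θ^[j]) (x - y) = (θ^[j]) x - (θ^[j]) y := by
          intro j
          induction j with
          | zero => intro x y; rfl
          | succ j ih' => intro x y; rw [Function.iterate_succ_apply, map_sub, ih', Function.iterate_succ_apply,
              Function.iterate_succ_apply]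
        exact this j b (θ b)
      rw [h3] at h2
      have h4 : b - (θ^[j + 1]) b = (b - (θ^[j]) b) + ((θ^[j]) b - (θ^[j + 1]) b) := by abel
      rw [h4]
      exact add_nonneg ih h2
  -- `b - θ b ≤ b - θ^m b = 0`
  obtain ⟨k, rfl⟩ : ∃ k, m = k + 1 := ⟨m - 1, by omega⟩
  have h5 : b - θ b ≤ 0 := by
    have h6 : ∀ j : ℕ, 0 ≤ θ b - (θ^[j + 1]) b := by
      intro j
      induction j with
      | zero => simp
      | succ j ih =>
        have h2 := (H.iter_pos ha h0 (j + 1)).2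
        have this : ∀ (j : ℕ) (x y : I → ℤ), (θ^[j]) (x - y) = (θ^[j]) x - (θ^[j]) y := by
          intro j
          induction j with
          | zero => intro x y; rfl
          | succ j ih' => intro x y; rw [Function.iterate_succ_apply, map_sub, ih', Function.iterate_succ_apply,
              Function.iterate_succ_apply]
        have h3 : (θ^[j + 1]) (b - θ b) = (θ^[j + 1]) b - (θ^[j + 1 + 1]) b := by
          rw [this, ← Function.iterate_succ_apply]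
        rw [h3] at h2
        have h4 : θ b - (θ^[j + 1 + 1]) b = (θ b - (θ^[j + 1]) b) + ((θ^[j + 1]) b - (θ^[j + 1 + 1]) b) := by abel
        rw [h4]
        exact add_nonneg ih h2
    have h7 := h6 k
    rw [hm'] at h7
    have h8 : b - θ b = -(θ b - b) := by abel
    rw [h8]
    exact neg_nonpos.2 h7
  have h9 : b - θ b = 0 := le_antisymm h5 h0
  exact (H.rts _ ha).ne_zero h9

theorem no_diff (H : StabS cs h S θ) {b : I → ℤ} (hb : IsRoot cs h b) (ha : b - θ b ∈ S) : False := by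
  rcases (H.rts _ ha).pos_or_neg with h0 | h0
  · exact H.no_diff_pos hb ha h0
  · refine H.no_diff_pos (b := -b) hb.neg ?_ ?_
    · have := H.neg _ ha
      rwa [show -(b - θ b) = -b - θ (-b) by rw [map_neg]; abel] at this
    · have : -b - θ (-b) = -(b - θ b) := by rw [map_neg]; abel
      rw [this]
      exact neg_nonneg.2 h0

/-- `θ a = - a` is impossible for `a ∈ S` -/
theorem no_neg (H : StabS cs h S θ) {a : I → ℤ} (ha : a ∈ S) (he : θ a = -a) : False := by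
  have hr := H.rts _ ha
  rcases hr.pos_or_neg with h0 | h0
  · have h1 := H.pos _ ha h0
    rw [he] at h1
    exact hr.ne_zero (le_antisymm (neg_nonneg.1 h1) h0)
  · have h1 := H.pos _ (H.neg _ ha) (neg_nonneg.2 h0)
    rw [map_neg, he, neg_neg] at h1
    exact hr.ne_zero (le_antisymm h0 h1)

/-- the product of two roots of the same length -/
theorem cases_of {x y : I → ℤ} (hx : IsRoot cs h x) (hy : IsRoot cs h y) (hs : cpr cs h x y = cpr cs h y x) :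
    (x = y ∧ cpr cs h x y = 2) ∨ (x = -y ∧ cpr cs h x y = -2) ∨
      (x ≠ y ∧ x ≠ -y ∧ -1 ≤ cpr cs h x y ∧ cpr cs h x y ≤ 1) := by
  by_cases hxy : x = y
  · left
    subst hxy
    exact ⟨rfl, cpr_self cs h hx⟩
  by_cases hxy' : x = -y
  · right; left
    subst hxy'
    exact ⟨rfl, by rw [cpr_neg_left _ hy, cpr_self cs h hy]⟩
  · right; right
    have h1 := cpr_mul_lt hx hy hxy hxy'
    rw [← hs] at h1
    refine ⟨hxy, hxy', ?_, ?_⟩ <;> nlinarith only [h, h1]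

variable (hs : ∀ x ∈ S, ∀ y ∈ S, cpr cs h x y = cpr cs h y x)

include hs

/-- `θ` is an isometry -/
theorem cpr_theta (H : StabS cs h S θ) {a b : I → ℤ} (ha : a ∈ S) (hb : b ∈ S) :
    cpr cs h (θ a) (θ b) = cpr cs h a b := by
  have k1 : ∀ {x y : I → ℤ}, x ∈ S → y ∈ S → x ≠ y → (IsRoot cs h (x - y) ↔ cpr cs h x y = 1) := by
    intro x y hx hy hxy
    have hx' := H.rts _ hx
    have hy' := H.rts _ hy
    refine ⟨fun hr => ?_, isRoot_sub hx' hy'⟩
    have hd := H.sub _ hx _ hy hr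
    have e1 : cpr cs h (x - y) x = 2 - cpr cs h x y := by
      rw [sub_eq_add_neg, cpr_add cs h _ _ hx', cpr_self cs h hx', cpr_neg_left _ hx', hs y hy x hx]; ring
    have e2 : cpr cs h (x - y) y = cpr cs h x y - 2 := by
      rw [sub_eq_add_neg, cpr_add cs h _ _ hy', cpr_neg_left _ hy', cpr_self cs h hy']; ring
    rcases cases_of hr hx' (hs _ hd _ hx) with h1 | h1 | h1
    · exact absurd (sub_eq_self.1 h1.1) hy'.ne_zero
    · have h2 : y = (2 : ℤ) • x := by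
        have : y = x - (x - y) := by abel
        rw [this, h1.1]; module
      have := isUnit_of_smul cs h hy' 2 h2
      rw [Int.isUnit_iff] at this
      omega
    · rcases cases_of hx' hy' (hs _ hx _ hy) with h2 | h2 | h2
      · exact absurd h2.1 hxy
      · omega
      · omega
  have k2 : ∀ {x y : I → ℤ}, x ∈ S → y ∈ S → x ≠ -y → (IsRoot cs h (x + y) ↔ cpr cs h x y = -1) := by
    intro x y hx hy hxy
    have := k1 hx (H.neg _ hy) hxy
    rw [sub_neg_eq_add, cpr_neg_right cs h x (H.rts _ hy)] at this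
    rw [this]
    constructor <;> intro h1 <;> omega
  have ha' := H.mem _ ha
  have hb' := H.mem _ hb
  have hra := H.rts _ ha
  have hrb := H.rts _ hb
  have hra' := H.rts _ ha'
  have hrb' := H.rts _ hb'
  rcases cases_of hra hrb (hs _ ha _ hb) with h1 | h1 | ⟨h1, h2, h3, h4⟩
  · rw [h1.1, cpr_self cs h hrb', cpr_self cs h hrb]
  · rw [h1.1, map_neg, cpr_neg_left _ hrb', cpr_neg_left _ hrb, cpr_self cs h hrb', cpr_self cs h hrb]
  · have g1 : θ a ≠ θ b := fun h => h1 (θ.injective h)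
    have g2 : θ a ≠ -θ b := fun h => h2 (θ.injective (by rw [h, map_neg]))
    rcases cases_of hra' hrb' (hs _ ha' _ hb') with h5 | h5 | ⟨-, -, h5, h6⟩
    · exact absurd h5.1 g1
    · exact absurd h5.1 g2
    · have m1 := (k1 ha' hb' g1).symm.trans ((by rw [← map_sub]; exact H.root _ : IsRoot cs h (θ a - θ b) ↔
        IsRoot cs h (a - b)).trans (k1 ha hb h1))
      have m2 := (k2 ha' hb' g2).symm.trans ((by rw [← map_add]; exact H.root _ : IsRoot cs h (θ a + θ b) ↔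
        IsRoot cs h (a + b)).trans (k2 ha hb h2))
      omega

/-- `S` is closed under sums -/
theorem add_mem (H : StabS cs h S θ) {a b : I → ℤ} (ha : a ∈ S) (hb : b ∈ S) (hr : IsRoot cs h (a + b)) : a + b ∈ S := by
  have := H.sub _ ha _ (H.neg _ hb) (by rwa [sub_neg_eq_add])
  rwa [sub_neg_eq_add] at this

/-- two members of `Γ` with product `-1` have sum `β` -/
theorem add_eq (H : StabS cs h S θ) {β a b : I → ℤ} (hβ : β ∈ S) (ha : a ∈ S) (hb : b ∈ S) (h1 : cpr cs h a β = 1)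
    (h2 : cpr cs h b β = 1) (h3 : cpr cs h a b = -1) : a + b = β := by
  have hβ' := H.rts _ hβ
  have hr := isRoot_add (H.rts _ ha) (H.rts _ hb) h3
  have h4 : cpr cs h (a + b) β = 2 := by
    rw [cpr_add cs h _ _ hβ', h1, h2]
    norm_num
  rcases cases_of hr hβ' (hs _ (H.add_mem hs ha hb hr) _ hβ) with h5 | h5 | h5
  · exact h5.1
  · omega
  · omega

/-- the products with the images -/
theorem cpr_le (H : StabS cs h S θ) {β a : I → ℤ} (hβ : β ∈ S) (hθ : θ β = β) (ha : a ∈ S) (h1 : cpr cs h a β = 1)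
    (hne : θ a ≠ a) : θ a ∈ S ∧ cpr cs h (θ a) β = 1 ∧ (cpr cs h a (θ a) = 0 ∨ a + θ a = β) := by
  have hβ' := H.rts _ hβ
  have ha' := H.rts _ ha
  have hb := H.mem _ ha
  have hb' := H.rts _ hb
  have h2 : cpr cs h (θ a) β = 1 := by
    have := H.cpr_theta hs ha hβ
    rw [hθ] at this
    rw [this, h1]
  refine ⟨hb, h2, ?_⟩
  rcases cases_of ha' hb' (hs _ ha _ hb) with h3 | h3 | ⟨-, -, h3, h4⟩
  · exact absurd h3.1.symm hne
  · exfalso
    rw [h3.1, cpr_neg_left _ hβ', h2] at h1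
    omega
  · have h5 : cpr cs h a (θ a) ≠ 1 := by
      intro h5
      exact H.no_diff ha' (H.sub _ ha _ hb (isRoot_sub ha' hb' h5))
    have h6 : cpr cs h a (θ a) = 0 ∨ cpr cs h a (θ a) = -1 := by omega
    rcases h6 with h6 | h6
    · exact Or.inl h6
    · exact Or.inr (H.add_eq hs hβ ha hb h1 h2 h6)

/-- **the orbits on `Γ`** -/
theorem orb' (H : StabS cs h S θ) {β a : I → ℤ} (hβ : β ∈ S) (hθ : θ β = β) (ha : a ∈ S) (h1 : cpr cs h a β = 1) :
    (∃ c ∈ S, cpr cs h c β = 1 ∧ θ c = c) ∨ (∃ c ∈ S, cpr cs h c β = 1 ∧ θ (θ c) = c ∧ θ c ≠ c ∧ cpr cs h c (θ c) = 0) ∨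
      a + θ a = β := by
  have hβ' := H.rts _ hβ
  have ha' := H.rts _ ha
  by_cases e1 : θ a = a
  · exact Or.inl ⟨a, ha, h1, e1⟩
  obtain ⟨hb, hbβ, h2 | h2⟩ := H.cpr_le hs hβ hθ ha h1 e1
  swap
  · exact Or.inr (Or.inr h2)
  have hb' := H.rts _ hb
  by_cases e2 : θ (θ a) = a
  · exact Or.inr (Or.inl ⟨a, ha, h1, e2, e1, h2⟩)
  have H2 := H.comp H
  obtain ⟨hc, hcβ, h3⟩ := H2.cpr_le hs hβ (by change θ (θ β) = β; rw [hθ, hθ]) ha h1 e2
  change θ (θ a) ∈ S at hc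
  change cpr cs h (θ (θ a)) β = 1 at hcβ
  change cpr cs h a (θ (θ a)) = 0 ∨ a + θ (θ a) = β at h3
  have hc' := H.rts _ hc
  have h4 : cpr cs h (θ a) (θ (θ a)) = 0 := by rw [H.cpr_theta hs ha hb, h2]
  have h3 : cpr cs h a (θ (θ a)) = 0 := by
    rcases h3 with h3 | h3
    · exact h3
    · exfalso
      -- `θ θ a = β - a`
      have h5 : θ (θ a) = β - a := by rw [← h3]; abel
      have h6 : cpr cs h (θ (θ a)) (θ a) = 1 := by
        rw [h5, sub_eq_add_neg, cpr_add cs h _ _ hb', cpr_neg_left _ hb', hs β hβ _ hb, hbβ, h2]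
        norm_num
      rw [hs _ hc _ hb, h4] at h6
      omega
  -- `β - a - θ a ∈ S`
  have g1 : β - a ∈ S := H.sub _ hβ _ ha (isRoot_sub hβ' ha' (by rw [hs β hβ a ha, h1]))
  have g1' := H.rts _ g1
  have p1 : ∀ {u : I → ℤ}, u ∈ S → cpr cs h u β = 1 → cpr cs h a u = 0 → cpr cs h (β - a) u = 1 := by
    intro u hu hu1 hu2
    have hu' := H.rts _ hu
    rw [sub_eq_add_neg, cpr_add cs h _ _ hu', cpr_neg_left _ hu', hs β hβ u hu, hu1, hu2]
    norm_num
  have g2 : β - a - θ a ∈ S := H.sub _ g1 _ hb (isRoot_sub g1' hb' (p1 hb hbβ h2))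
  have g2' := H.rts _ g2
  have p2 : ∀ {u : I → ℤ}, u ∈ S → cpr cs h u β = 1 → cpr cs h a u = 0 → cpr cs h (θ a) u = 0 →
      cpr cs h (β - a - θ a) u = 1 := by
    intro u hu hu1 hu2 hu3
    have hu' := H.rts _ hu
    rw [sub_eq_add_neg, cpr_add cs h _ _ hu', cpr_neg_left _ hu', p1 hu hu1 hu2, hu3]
    norm_num
  have g3 : β - a - θ a - θ (θ a) ∈ S := H.sub _ g2 _ hc (isRoot_sub g2' hc' (p2 hc hcβ h3 h4))
  have g3' := H.rts _ g3
  by_cases e3 : θ (θ (θ a)) = a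
  · -- the fixed root
    left
    refine ⟨-(β - a - θ a - θ (θ a)), H.neg _ g3, ?_, ?_⟩
    · rw [cpr_neg_left _ hβ', sub_eq_add_neg, cpr_add cs h _ _ hβ', sub_eq_add_neg, cpr_add cs h _ _ hβ', sub_eq_add_neg,
        cpr_add cs h _ _ hβ', cpr_self cs h hβ', cpr_neg_left _ hβ', cpr_neg_left _ hβ', cpr_neg_left _ hβ', h1, hbβ, hcβ]
      norm_num
    · rw [map_neg, map_sub, map_sub, map_sub, hθ, e3]
      abel
  exfalso
  have H3 := H2.comp H
  obtain ⟨hd, hdβ, h5⟩ := H3.cpr_le hs hβ (by change θ (θ (θ β)) = β; rw [hθ, hθ, hθ]) ha h1 e3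
  change θ (θ (θ a)) ∈ S at hd
  change cpr cs h (θ (θ (θ a))) β = 1 at hdβ
  change cpr cs h a (θ (θ (θ a))) = 0 ∨ a + θ (θ (θ a)) = β at h5
  have hd' := H.rts _ hd
  have h6 : cpr cs h (θ a) (θ (θ (θ a))) = 0 := by rw [H.cpr_theta hs ha hc, h3]
  have h5 : cpr cs h a (θ (θ (θ a))) = 0 := by
    rcases h5 with h5 | h5
    · exact h5
    · exfalso
      have h8 : θ (θ (θ a)) = β - a := by rw [← h5]; abel
      have h9 : cpr cs h (θ (θ (θ a))) (θ a) = 1 := by rw [h8]; exact p1 hb hbβ h2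
      rw [hs _ hd _ hb, h6] at h9
      omega
  -- `η = β - a - θ a`, `θ θ η = - η`
  have h8 : cpr cs h (β - θ (θ a) - θ (θ (θ a))) (β - a - θ a) = -2 := by
    have q1 : cpr cs h β (β - a - θ a) = 0 := by
      rw [hs _ hβ _ g2, sub_eq_add_neg, cpr_add cs h _ _ hβ', sub_eq_add_neg, cpr_add cs h _ _ hβ', cpr_self cs h hβ',
        cpr_neg_left _ hβ', cpr_neg_left _ hβ', h1, hbβ]
      norm_num
    have q2 : cpr cs h (θ (θ a)) (β - a - θ a) = 1 := by
      rw [hs _ hc _ g2]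
      exact p2 hc hcβ h3 h4
    have q3 : cpr cs h (θ (θ (θ a))) (β - a - θ a) = 1 := by
      rw [hs _ hd _ g2]
      exact p2 hd hdβ h5 h6
    rw [sub_eq_add_neg, cpr_add cs h _ _ g2', sub_eq_add_neg, cpr_add cs h _ _ g2', cpr_neg_left _ g2', cpr_neg_left _ g2',
      q1, q2, q3]
    norm_num
  have h9 : θ (θ (β - a - θ a)) = β - θ (θ a) - θ (θ (θ a)) := by
    rw [map_sub, map_sub, map_sub, map_sub, hθ, hθ]
  have h10 : β - θ (θ a) - θ (θ (θ a)) ∈ S := by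
    rw [← h9]
    exact H.mem _ (H.mem _ g2)
  rcases cases_of (H.rts _ h10) g2' (hs _ h10 _ g2) with h11 | h11 | h11
  · omega
  · exact H2.no_neg g2 (h9.trans h11.1)
  · omega

/-- `Γ` has more than two members -/
theorem orb3' (H : StabS cs h S θ) {β a b : I → ℤ} (hβ : β ∈ S) (hθ : θ β = β) (ha : a ∈ S) (h1 : cpr cs h a β = 1)
    (hb : b ∈ S) (h2 : cpr cs h b β = 1) (hab : b ≠ a) (hab' : b ≠ β - a) :
    (∃ c ∈ S, cpr cs h c β = 1 ∧ θ c = c) ∨ ∃ c ∈ S, cpr cs h c β = 1 ∧ θ (θ c) = c ∧ θ c ≠ c ∧ cpr cs h c (θ c) = 0 := by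
  rcases H.orb' hs hβ hθ ha h1 with h3 | h3 | h3
  · exact Or.inl h3
  · exact Or.inr h3
  rcases H.orb' hs hβ hθ hb h2 with h4 | h4 | h4
  · exact Or.inl h4
  · exact Or.inr h4
  exfalso
  have hβ' := H.rts _ hβ
  have ha' := H.rts _ ha
  have hb' := H.rts _ hb
  have e3 : θ a = β - a := by rw [← h3]; abel
  have e4 : θ b = β - b := by rw [← h4]; abel
  rcases cases_of hb' ha' (hs _ hb _ ha) with h5 | h5 | ⟨-, -, h5, h6⟩
  · exact hab h5.1
  · rw [h5.1, cpr_neg_left _ hβ', h1] at h2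
    omega
  · have h7 : cpr cs h b a = 1 ∨ cpr cs h b a = 0 ∨ cpr cs h b a = -1 := by omega
    rcases h7 with h7 | h7 | h7
    · have h8 := H.sub _ hb _ ha (isRoot_sub hb' ha' h7)
      refine H.no_neg h8 ?_
      rw [map_sub, e3, e4]
      abel
    · -- `β - a - b ∈ S`
      have g1 : β - a ∈ S := H.sub _ hβ _ ha (isRoot_sub hβ' ha' (by rw [hs β hβ a ha, h1]))
      have g2 : β - a - b ∈ S := by
        refine H.sub _ g1 _ hb (isRoot_sub (H.rts _ g1) hb' ?_)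
        rw [sub_eq_add_neg, cpr_add cs h _ _ hb', cpr_neg_left _ hb', hs β hβ b hb, h2, hs a ha b hb, h7]
        norm_num
      refine H.no_neg g2 ?_
      rw [map_sub, map_sub, hθ, e3, e4]
      abel
    · apply hab'
      have h8 := H.add_eq hs hβ hb ha h2 h1 h7
      rw [← h8]
      abel

omit hs

end StabS

end Cfsg.Agent.H398.RG
end

-- part: H398/RG/Line
section
/-!
# S3509: the condition on the base pair, a line of long roots (helper398)

`H : Tow cs h p T n X`, `X₀ = XL X β ⊓ fix α` of prime order, `Y₀ = XL X (-β) ⊓ fix α`, `γ` with `⟨γ, β⟩ = 1`, `A2` planes, and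
`α`-fixed nontrivial elements of `K` in `XL X γ`, `XL X (-γ)`: `cond_line : Cond K X₀ Y₀`.
-/

set_option autoImplicit false
set_option linter.unusedSectionVars false

namespace Cfsg.Agent.H398.RG

open Cfsg CoxeterSystem Cfsg.Agent.ChevalleyStructure.CoxeterGeom Cfsg.Agent.Tits.Roots Cfsg.Agent.Tits.Core
  Cfsg.Agent.Nodes.Reps Cfsg.Agent.Nodes.BNOf Cfsg.Agent.Nodes.StabComb Cfsg.Agent.Nodes.Coroot
  Cfsg.Agent.KFacts.RgdSL Cfsg.Agent.BpExc.Tow Cfsg.Agent.UGT.U2.FOne.FFour Cfsg.Agent.Nodes.PosPair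
open scoped commutatorElement

variable {I W Y : Type*} [Fintype I] [DecidableEq I] [Group W] [Finite W] [Group Y] {M : CoxeterMatrix I}
  {cs : CoxeterSystem M W} {A : I → I → ℤ} {h : IsCartan M A} {p : ℕ}
  {J : Type*} [Preorder J] {T : J → Subgroup Y} {n : I → Y} {X : J → (I → ℤ) → Subgroup Y}

section A2L

variable (H : Tow cs h p T n X) {x y : I → ℤ} (hA : A2 cs h x y)

include H

theorem exists_level2 {a b : I → ℤ} {u v : Y} (hu : u ∈ XL X a) (hv : v ∈ XL X b) : ∃ j, u ∈ X j a ∧ v ∈ X j b := by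
  obtain ⟨j1, h1⟩ := H.mem_XL.1 hu
  obtain ⟨j2, h2⟩ := H.mem_XL.1 hv
  obtain ⟨j, a1, a2⟩ := H.dir j1 j2
  exact ⟨j, H.monoX a a1 h1, H.monoX b a2 h2⟩

include hA

/-- `⁅u, v⁆ ∈ X (x + y)` -/
theorem commL_mem {u v : Y} (hu : u ∈ XL X x) (hv : v ∈ XL X y) : ⁅u, v⁆ ∈ XL X (x + y) := by
  obtain ⟨j, h1, h2⟩ := exists_level2 H hu hv
  exact le_XL j _ (A2.comm_mem (H.rgd j) hA h1 h2)

theorem commL_ne {u v : Y} (hu : u ∈ XL X x) (hu1 : u ≠ 1) (hv : v ∈ XL X y) (hv1 : v ≠ 1) : ⁅u, v⁆ ≠ 1 := by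
  obtain ⟨j, h1, h2⟩ := exists_level2 H hu hv
  exact A2.comm_ne_one (H.rgd j) hA h1 hu1 h2 hv1

theorem commL_right {u v : Y} (hu : u ∈ XL X (x + y)) (hv : v ∈ XL X y) : u * v = v * u := by
  obtain ⟨j, h1, h2⟩ := exists_level2 H hu hv
  exact A2.comm_right (H.rgd j) hA h1 h2

end A2L

theorem fix_comm {α : MulAut Y} {u v : Y} (hu : α u = u) (hv : α v = v) : α ⁅u, v⁆ = ⁅u, v⁆ := by
  rw [commutatorElement_def, map_mul, map_mul, map_mul, map_inv, map_inv, hu, hv]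

/-- a subgroup of prime order meeting `N` nontrivially -/
theorem le_of_prime {G : Type*} [Group G] {p : ℕ} (hp : p.Prime) {X N : Subgroup G} (hX : Nat.card X = p) {ξ : G}
    (hξ : ξ ∈ X) (hξ1 : ξ ≠ 1) (hξN : ξ ∈ N) : X ≤ N := by
  have hord : orderOf ξ = p := by
    have h2 : orderOf ξ ∣ p := by
      rw [← hX]
      exact X.orderOf_dvd_natCard hξ
    rcases (Nat.dvd_prime hp).1 h2 with h3 | h3
    · exact absurd (orderOf_eq_one_iff.1 h3) hξ1
    · exact h3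
  have hfinX : Finite X := Nat.finite_of_card_ne_zero (by rw [hX]; exact hp.pos.ne')
  have hz : Subgroup.zpowers ξ = X := by
    apply Subgroup.eq_of_le_of_card_ge ((Subgroup.zpowers_le).2 hξ)
    rw [hX, Nat.card_zpowers, hord]
  rw [← hz]
  exact (Subgroup.zpowers_le).2 hξN

/-- if `y = x n` and `v` commutes with `y`, then `[v, x] ∈ N` -/
theorem comm_mem_of {G : Type*} [Group G] {M N : Subgroup G} (hMN : ∀ m ∈ M, ∀ n ∈ N, m * n * m⁻¹ ∈ N) {x y n v : G}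
    (hy : y ∈ M) (hv : v ∈ M) (hn : n ∈ N) (he : y = x * n) (hc : v * y = y * v) : ⁅v, x⁆ ∈ N := by
  have e1 : x = y * n⁻¹ := by rw [he]; group
  have e2 : ⁅v, x⁆ = y * ((v * n⁻¹ * v⁻¹) * n) * y⁻¹ := by
    rw [commutatorElement_def, e1]
    calc v * (y * n⁻¹) * v⁻¹ * (y * n⁻¹)⁻¹ = (v * y) * (n⁻¹ * v⁻¹ * n) * y⁻¹ := by group
      _ = (y * v) * (n⁻¹ * v⁻¹ * n) * y⁻¹ := by rw [hc]
      _ = _ := by group
  rw [e2]
  exact hMN y hy _ (N.mul_mem (hMN v hv _ (N.inv_mem hn)) hn)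

theorem comm_mem_left {G : Type*} [Group G] {M N : Subgroup G} (hMN : ∀ m ∈ M, ∀ n ∈ N, m * n * m⁻¹ ∈ N) {m n : G}
    (hm : m ∈ M) (hn : n ∈ N) : ⁅n, m⁆ ∈ N := by
  have e : ⁅n, m⁆ = n * (m * n⁻¹ * m⁻¹) := by rw [commutatorElement_def]; group
  rw [e]
  exact N.mul_mem hn (hMN m hm _ (N.inv_mem hn))

theorem comm_mem_MK {G : Type*} [Group G] {K X : Subgroup G} {m k : G} (hm : m ∈ MK K X) (hk : k ∈ K) :
    ⁅m, k⁆ ∈ MK K X := by
  have e : ⁅m, k⁆ = m * (k * m⁻¹ * k⁻¹) := by rw [commutatorElement_def]; group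
  rw [e]
  exact (MK K X).mul_mem hm (conj_MK hk ((MK K X).inv_mem hm))

theorem comm_mem_MK' {G : Type*} [Group G] {K X : Subgroup G} {m k : G} (hm : m ∈ MK K X) (hk : k ∈ K) :
    ⁅k, m⁆ ∈ MK K X := by
  rw [← commutatorElement_inv]
  exact (MK K X).inv_mem (comm_mem_MK hm hk)

/-- **(L) The line condition.** -/
theorem cond_line (H : Tow cs h p T n X) {α : MulAut Y} {K X₀ Y₀ : Subgroup Y} {β γ : I → ℤ}
    (h1 : A2 cs h γ (-β)) (h2 : A2 cs h (γ - β) β) (h3 : A2 cs h β (-γ)) (h4 : A2 cs h γ (β - γ))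
    (hX₀ : ∀ u, u ∈ X₀ ↔ u ∈ XL X β ∧ α u = u) (hY₀ : ∀ u, u ∈ Y₀ → u ∈ XL X (-β) ∧ α u = u)
    {q : ℕ} (hq : q.Prime) (hXq : Nat.card X₀ = q) (hXK : X₀ ≤ K) (hYne : Y₀ ≠ ⊥) (hYM : Y₀ ≤ MK K X₀)
    {w w' : Y} (hw : w ∈ XL X γ) (hw1 : w ≠ 1) (hwα : α w = w) (hwK : w ∈ K)
    (hw' : w' ∈ XL X (-γ)) (hw'1 : w' ≠ 1) (hw'α : α w' = w') (hw'K : w' ∈ K) : Cond K X₀ Y₀ := by
  intro N hN hMN hY
  have hXM := le_MK K X₀
  obtain ⟨⟨x0, hx0⟩, hx01⟩ : ∃ x : X₀, x ≠ 1 := by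
    have : Nontrivial X₀ := by
      have hf : Finite X₀ := Nat.finite_of_card_ne_zero (by rw [hXq]; exact hq.pos.ne')
      exact Finite.one_lt_card_iff_nontrivial.1 (by rw [hXq]; exact hq.one_lt)
    exact exists_ne 1
  have hx01 : x0 ≠ 1 := fun h => hx01 (Subtype.ext h)
  obtain ⟨⟨y, hy⟩, hy1⟩ := Subgroup.ne_bot_iff_exists_ne_one.1 hYne
  have hy1 : y ≠ 1 := fun h => hy1 (Subtype.ext h)
  obtain ⟨hyX, hyα⟩ := hY₀ y hy
  obtain ⟨x, hx, n', hn', he⟩ := hY y hy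
  -- `v = ⁅w, y⁆ ∈ X (γ - β)`
  have hv : ⁅w, y⁆ ∈ XL X (γ - β) := by
    have := commL_mem H h1 hw hyX
    rwa [← sub_eq_add_neg] at this
  have hv1 : ⁅w, y⁆ ≠ 1 := commL_ne H h1 hw hw1 hyX hy1
  have hvM : ⁅w, y⁆ ∈ MK K X₀ := comm_mem_MK' (hYM hy) hwK
  have hvα : α ⁅w, y⁆ = ⁅w, y⁆ := fix_comm hwα hyα
  have hvy : ⁅w, y⁆ * y = y * ⁅w, y⁆ := commL_right H h1 (commL_mem H h1 hw hyX) hyX
  have hx0' := (hX₀ x0).1 hx0
  have key : ∀ v x' : Y, v ∈ XL X (γ - β) → v ≠ 1 → x' ∈ XL X β → x' ≠ 1 → ⁅v, x'⁆ ∈ XL X γ ∧ ⁅v, x'⁆ ≠ 1 := by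
    intro v x' h5 h6 h7 h8
    refine ⟨?_, commL_ne H h2 h5 h6 h7 h8⟩
    have := commL_mem H h2 h5 h7
    rwa [sub_add_cancel] at this
  -- `ξ ∈ N`
  obtain ⟨ξ, hξN, hξ, hξ1, hξα⟩ : ∃ ξ ∈ N, ξ ∈ XL X γ ∧ ξ ≠ 1 ∧ α ξ = ξ := by
    by_cases hx1 : x = 1
    · have hyN : y ∈ N := by rw [he, hx1, one_mul]; exact hn'
      -- `m ∈ M ∩ X γ`
      obtain ⟨hm, hm1⟩ := key _ x0 hv hv1 hx0'.1 hx01
      have hmM : ⁅⁅w, y⁆, x0⁆ ∈ MK K X₀ := comm_mem_MK hvM (MK_le_self (fun u hu => hXK hu) (hXM hx0))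
      have hmα : α ⁅⁅w, y⁆, x0⁆ = ⁅⁅w, y⁆, x0⁆ := fix_comm hvα hx0'.2
      have h5 : ⁅⁅⁅w, y⁆, x0⁆, y⁆ ∈ XL X (γ - β) := by
        have := commL_mem H h1 hm hyX
        rwa [← sub_eq_add_neg] at this
      have h6 : ⁅⁅⁅w, y⁆, x0⁆, y⁆ ≠ 1 := commL_ne H h1 hm hm1 hyX hy1
      have h7 : ⁅⁅⁅w, y⁆, x0⁆, y⁆ ∈ N := by
        rw [← commutatorElement_inv]
        exact N.inv_mem (comm_mem_left hMN hmM hyN)
      obtain ⟨h8, h9⟩ := key _ x0 h5 h6 hx0'.1 hx01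
      exact ⟨_, comm_mem_left hMN (hXM hx0) h7, h8, h9, fix_comm (fix_comm hmα hyα) hx0'.2⟩
    · have hx' := (hX₀ x).1 hx
      obtain ⟨h8, h9⟩ := key _ x hv hv1 hx'.1 hx1
      exact ⟨_, comm_mem_of hMN (hYM hy) hvM hn' he hvy, h8, h9, fix_comm hvα hx'.2⟩
  -- `v' = ⁅x0, w'⁆ ∈ X (β - γ)`
  have hv' : ⁅x0, w'⁆ ∈ XL X (β - γ) := by
    have := commL_mem H h3 hx0'.1 hw'
    rwa [← sub_eq_add_neg] at this
  have hv'1 : ⁅x0, w'⁆ ≠ 1 := commL_ne H h3 hx0'.1 hx01 hw' hw'1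
  have hv'M : ⁅x0, w'⁆ ∈ MK K X₀ := comm_mem_MK (hXM hx0) hw'K
  have hζ : ⁅ξ, ⁅x0, w'⁆⁆ ∈ XL X β := by
    have := commL_mem H h4 hξ hv'
    rwa [add_sub_cancel] at this
  have hζ1 : ⁅ξ, ⁅x0, w'⁆⁆ ≠ 1 := commL_ne H h4 hξ hξ1 hv' hv'1
  have hζN : ⁅ξ, ⁅x0, w'⁆⁆ ∈ N := comm_mem_left hMN hv'M hξN
  have hζX : ⁅ξ, ⁅x0, w'⁆⁆ ∈ X₀ := (hX₀ _).2 ⟨hζ, fix_comm hξα (fix_comm hx0'.2 hw'α)⟩
  exact le_of_prime hq hXq hζX hζ1 hζN

/-! ### the planes -/

/-- a reflected root -/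
theorem a2_line (hn : NoThree cs h) {β γ : I → ℤ} (hβ : IsRoot cs h β) (hγ : IsRoot cs h γ)
    (hc : cpr cs h γ β = 1) (hc' : cpr cs h β γ = 1) :
    A2 cs h γ (-β) ∧ A2 cs h (γ - β) β ∧ A2 cs h β (-γ) ∧ A2 cs h γ (β - γ) := by
  have := Fintype.ofFinite W
  have key : ∀ x y : I → ℤ, IsRoot cs h x → IsRoot cs h y → cpr cs h x y = 1 → cpr cs h y x = 1 →
      A2 cs h x (-y) ∧ A2 cs h (x - y) y := by
    intro x y hx hy h1 h2
    have hN := form_eq_of hx hy (by rw [h1, h2]) (by rw [h1]; norm_num)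
    have e1 := two_form_cpr cs h x hy
    have e2 := form_comm cs h x y
    have p1 := form_pos cs h hx.ne_zero
    rw [h1] at e1
    have hxy := isRoot_sub hx hy h1
    refine ⟨a2_of_noThree hn hx hy.neg (by rw [cpr_neg_right cs h x hy, h1]) (by rw [cpr_neg_left _ hx, h2]), ?_⟩
    refine a2_of_noThree hn hxy hy ?_ ?_
    · rw [sub_eq_add_neg, cpr_add cs h _ _ hy, cpr_neg_left _ hy, cpr_self cs h hy, h1]
      norm_num
    · have hneg : ∀ u v : I → ℤ, form cs h (-u) v = - form cs h u v := by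
        intro u v
        have h3 := form_add_left cs h u (-u) v
        rw [add_neg_cancel] at h3
        have h4 : form cs h 0 v = 0 := by
          have h5 := form_add_left cs h 0 0 v
          rw [add_zero] at h5
          linarith only [h, h5]
        linarith only [h3, h4]
      have k1 : form cs h (x - y) (x - y) = form cs h x x := by
        rw [sub_eq_add_neg, form_add_left, hneg, form_comm cs h x, form_comm cs h y, form_add_left, form_add_left, hneg,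
          hneg, form_comm cs h y x]
        linarith
      have k2 : 2 * form cs h y (x - y) = -form cs h x x := by
        rw [form_comm cs h y, sub_eq_add_neg, form_add_left, hneg]
        linarith
      have k3 := two_form_cpr cs h y hxy
      rw [k1, k2] at k3
      have k4 : (-1) * form cs h x x = cpr cs h y (x - y) * form cs h x x := by rw [neg_one_mul]; exact k3
      exact (mul_right_cancel₀ p1.ne' k4).symm
  obtain ⟨h1, h2⟩ := key γ β hγ hβ hc hc'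
  obtain ⟨h3, h4⟩ := key β γ hβ hγ hc' hc
  exact ⟨h1, h2, h3, h4.symm⟩

/-- **(L) The line condition** in a root system without `G₂`. -/
theorem cond_line' (H : Tow cs h p T n X) {α : MulAut Y} {K X₀ Y₀ : Subgroup Y} {β γ : I → ℤ}
    (hn : NoThree cs h) (hβ : IsRoot cs h β) (hγ : IsRoot cs h γ)
    (hc : cpr cs h γ β = 1) (hc' : cpr cs h β γ = 1)
    (hX₀ : ∀ u, u ∈ X₀ ↔ u ∈ XL X β ∧ α u = u) (hY₀ : ∀ u, u ∈ Y₀ → u ∈ XL X (-β) ∧ α u = u)
    {q : ℕ} (hq : q.Prime) (hXq : Nat.card X₀ = q) (hXK : X₀ ≤ K) (hYne : Y₀ ≠ ⊥) (hYM : Y₀ ≤ MK K X₀)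
    {w w' : Y} (hw : w ∈ XL X γ) (hw1 : w ≠ 1) (hwα : α w = w) (hwK : w ∈ K)
    (hw' : w' ∈ XL X (-γ)) (hw'1 : w' ≠ 1) (hw'α : α w' = w') (hw'K : w' ∈ K) : Cond K X₀ Y₀ := by
  obtain ⟨h1, h2, h3, h4⟩ := a2_line hn hβ hγ hc hc'
  exact cond_line H h1 h2 h3 h4 hX₀ hY₀ hq hXq hXK hYne hYM hw hw1 hwα hwK hw' hw'1 hw'α hw'K

/-- simply laced root systems have no `G₂` -/
theorem noThree_of_SL (hs : SL cs h) : NoThree cs h := by
  intro x y hx hy h1
  rw [← hs x y hx hy] at h1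
  have h2 : cpr cs h x y ≤ 1 ∧ -1 ≤ cpr cs h x y := by constructor <;> nlinarith only [h, h1]
  obtain ⟨h3, h4⟩ := h2
  interval_cases cpr cs h x y <;> omega

end Cfsg.Agent.H398.RG
end

-- part: H398/RG/CondL
section
/-!
# S3509: the condition on the base pair in the frame, line case (helper398)

The frame of `H28/RG/Form`, `H441/RG/NrmK`; `S = Sx t`, `X₀ = XL X β ⊓ fix α`, `Y₀ = XL X (-β) ⊓ fix α`.

* `stabS_Sx` : `StabS` for `Sx t`;
* `cond_L` : the line condition for a `θ`-fixed `c ∈ Sx t` with `⟨c, β⟩ = 1`.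
-/

set_option autoImplicit false
set_option linter.unusedSectionVars false

namespace Cfsg.Agent.H398.RG

open Cfsg CoxeterSystem Cfsg.Agent.ChevalleyStructure.CoxeterGeom Cfsg.Agent.Tits.Roots Cfsg.Agent.Tits.Core
  Cfsg.Agent.Nodes.Reps Cfsg.Agent.Nodes.BNOf Cfsg.Agent.Nodes.StabComb Cfsg.Agent.Nodes.Coroot
  Cfsg.Agent.Nodes.Bruhat
  Cfsg.Agent.KFacts.RgdSL Cfsg.Agent.BpExc.Tow Cfsg.Agent.BpExc.TorCent Cfsg.Agent.UGT.U2.FOne.FFour
  Cfsg.Agent.H28.RG Cfsg.Agent.H441.RG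
open scoped commutatorElement

variable {I W Y : Type*} [Fintype I] [DecidableEq I] [Group W] [Finite W] [Group Y] {M : CoxeterMatrix I}
  {cs : CoxeterSystem M W} {A : I → I → ℤ} {h : IsCartan M A} {p : ℕ}
  {J : Type*} [Preorder J] {T : J → Subgroup Y} {n : I → Y} {X : J → (I → ℤ) → Subgroup Y}
  {F : Type*} [Field F] {χ : (I → ℤ) → Y → F} {α : MulAut Y} {θ : (I → ℤ) ≃+ (I → ℤ)} {t : Y}

/-- `StabS` for `Sx t` -/
theorem stabS_Sx (hA : ChAdd cs h (TL T) χ) (ht : t ∈ TL T) (hroot : ∀ a, IsRoot cs h (θ a) ↔ IsRoot cs h a)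
    (hS : ∀ a ∈ Sx cs h χ t, θ a ∈ Sx cs h χ t) (hpos : ∀ a ∈ Sx cs h χ t, 0 ≤ a → 0 ≤ θ a) :
    StabS cs h (Sx cs h χ t) θ := by
  obtain ⟨φ, h0, hφ, hφa⟩ := hA t ht
  refine ⟨fun a ha => ha.1, ?_, ?_, hroot, hS, hpos⟩
  · intro a ha
    refine ⟨ha.1.neg, ?_⟩
    rw [hφa _ ha.1.neg]
    have h1 := hφ a (-a)
    rw [add_neg_cancel, h0, ← hφa _ ha.1, ha.2, one_mul] at h1
    exact h1.symm
  · intro a ha b hb hr
    refine ⟨hr, ?_⟩
    rw [hφa _ hr]
    have h1 := hφ (a - b) b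
    rw [sub_add_cancel, ← hφa _ ha.1, ha.2, ← hφa _ hb.1, hb.2, mul_one] at h1
    exact h1.symm

/-- fixed elements of root groups of `Sx t` lie in `P`, `Q` -/
theorem mem_PQ {a : I → ℤ} (ha : a ∈ Sx cs h χ t) {u : Y} (hu : u ∈ XL X a) (hα : α u = u) :
    u ∈ PP0 cs h X χ α t ⊔ QQ0 cs h X χ α t := by
  rcases ha.1.pos_or_neg with h0 | h0
  · exact Subgroup.mem_sup_left (mem_PP0.2 ⟨RGD.le_Sup (S := SP cs h χ t) ⟨ha, h0⟩ hu, hα⟩)
  · exact Subgroup.mem_sup_right (mem_QQ0.2 ⟨RGD.le_Sup (S := SN cs h χ t) ⟨ha, h0⟩ hu, hα⟩)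

/-- **The line case.** -/
theorem cond_L (H : Tow cs h p T n X) (hA : ChAdd cs h (TL T) χ) (ht : t ∈ TL T) (hn : NoThree cs h)
    {K X₀ Y₀ : Subgroup Y} {β c : I → ℤ} (hβ : IsRoot cs h β) (hc : c ∈ Sx cs h χ t)
    (h1 : cpr cs h c β = 1) (h2 : cpr cs h β c = 1)
    (hne : ∀ a ∈ Sx cs h χ t, θ a = a → ∃ u ∈ XL X a, u ≠ 1 ∧ α u = u) (hθc : θ c = c)
    (hX₀ : ∀ u, u ∈ X₀ ↔ u ∈ XL X β ∧ α u = u) (hY₀ : ∀ u, u ∈ Y₀ → u ∈ XL X (-β) ∧ α u = u)
    {q : ℕ} (hq : q.Prime) (hXq : Nat.card X₀ = q) (hXK : X₀ ≤ K) (hYne : Y₀ ≠ ⊥) (hYM : Y₀ ≤ MK K X₀)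
    (hPQ : PP0 cs h X χ α t ⊔ QQ0 cs h X χ α t ≤ K) : Cond K X₀ Y₀ := by
  have hc' : -c ∈ Sx cs h χ t := by
    obtain ⟨φ, h0, hφ, hφa⟩ := hA t ht
    refine ⟨hc.1.neg, ?_⟩
    rw [hφa _ hc.1.neg]
    have h1 := hφ c (-c)
    rw [add_neg_cancel, h0, ← hφa _ hc.1, hc.2, one_mul] at h1
    exact h1.symm
  obtain ⟨w, hw, hw1, hwα⟩ := hne c hc hθc
  obtain ⟨w', hw', hw'1, hw'α⟩ := hne (-c) hc' (by rw [map_neg, hθc])
  exact cond_line' H hn hβ hc.1 h1 h2 hX₀ hY₀ hq hXq hXK hYne hYM hw hw1 hwα (hPQ (mem_PQ hc hw hwα)) hw' hw'1 hw'α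
    (hPQ (mem_PQ hc' hw' hw'α))

end Cfsg.Agent.H398.RG
end

-- part: H380/RG/UZ
section
/-!
# S3509: the condition on the base pair for components of type `²A_n`, `n ≥ 3`, `q` prime (helper380)

`α` a Frobenius frame automorphism, `β` an `α`-fixed root, `γ' = θ γ`, `θ γ' = γ`, `q = r` prime.

* `Tri.step` (abstract trace computation): `γ ⊥ γ'`, `⟨γ, β⟩ = ⟨γ', β⟩ = -1`, `δ = β + γ + γ'`: if `[v, x] ∈ N` for one
  `1 ≠ x ∈ X_β^α` and all `v ∈ (X_γ X_γ')^α` and `N` is normalised by the `v`, then `X_δ^α ≤ N` and `(X_(β+γ) X_(β+γ'))^α ≤ N`;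
* `Lg` : long roots, `Cfg` : the configuration, `exists_tri`, `step'`;
* `condU` : `Cond K X Y` for `X = X_β^α`, `Y = X_(-β)^α`; `condU_sl` : in terms of `c = -γ`, simply laced root systems.
-/

set_option autoImplicit false
set_option linter.unusedSectionVars false

namespace Cfsg.Agent.H380.RG

open scoped commutatorElement

section fld

open Polynomial

variable {k : Type*} [Field k] [IsAlgClosed k] {r : ℕ} [Fact r.Prime] [CharP k r]

/-- the solutions of `u a^Q = a` -/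
theorem exists_roots {Q : ℕ} (hQ1 : 1 < Q) (hQr : r ∣ Q) {u : k} (hu : u ≠ 0) :
    ∃ S : Finset k, S.card = Q ∧ ∀ a ∈ S, u * a ^ Q = a := by
  classical
  have hQ0 : ((Q : ℕ) : k) = 0 := (CharP.cast_eq_zero_iff k r Q).2 hQr
  obtain ⟨f, hf⟩ : ∃ f : k[X], f = C u * X ^ Q - X := ⟨_, rfl⟩
  have hdeg : f.natDegree = Q := by
    rw [hf, natDegree_sub_eq_left_of_natDegree_lt]
    · rw [natDegree_C_mul_X_pow _ _ hu]
    · rw [natDegree_C_mul_X_pow _ _ hu, natDegree_X]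
      exact hQ1
  have hf0 : f ≠ 0 := by
    intro h
    rw [h, natDegree_zero] at hdeg
    omega
  have hder : derivative f = -1 := by
    rw [hf, derivative_sub, derivative_C_mul, derivative_X_pow, derivative_X, hQ0, C_0, zero_mul, mul_zero, zero_sub]
  have hsep : f.Separable := by
    rw [separable_def, hder]
    exact IsCoprime.neg_right (isCoprime_one_right)
  have hroots : f.roots.card = Q := by
    rw [← hdeg]
    exact (IsAlgClosed.splits f).natDegree_eq_card_roots.symm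
  refine ⟨f.roots.toFinset, ?_, fun c hc => ?_⟩
  · rw [Multiset.toFinset_card_of_nodup (nodup_roots hsep), hroots]
  · rw [Multiset.mem_toFinset, mem_roots hf0, hf] at hc
    have h1 : (C u * X ^ Q - X : k[X]).eval c = 0 := hc
    rw [eval_sub, eval_mul, eval_C, eval_pow, eval_X, sub_eq_zero] at h1
    exact h1

/-- an admissible parameter with a nonzero value of an additive polynomial -/
theorem exists_adm {Q : ℕ} (hQ1 : 1 < Q) (hQr : r ∣ Q) {u A : k} (hu : u ≠ 0) (hA : A ≠ 0) (B : k) :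
    ∃ a, u * a ^ (Q ^ 2) = a ∧ A * a ^ Q + B * a ≠ 0 := by
  classical
  obtain ⟨S, hS, hS'⟩ := exists_roots (Q := Q ^ 2) (r := r) (by nlinarith) (Dvd.dvd.trans hQr (Dvd.intro_left (Q ^ 1) (by ring)))
    hu
  by_contra hcon
  push Not at hcon
  obtain ⟨g, hg⟩ : ∃ g : k[X], g = C A * X ^ Q + C B * X := ⟨_, rfl⟩
  have hg0 : g ≠ 0 := by
    intro h
    have h1 : g.coeff Q = A := by
      rw [hg, coeff_add, coeff_C_mul, coeff_X_pow, if_pos rfl, coeff_C_mul, coeff_X, if_neg (by omega)]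
      ring
    rw [h, coeff_zero] at h1
    exact hA h1.symm
  have hsub : S ⊆ g.roots.toFinset := by
    intro a ha
    rw [Multiset.mem_toFinset, mem_roots hg0, hg]
    change (C A * X ^ Q + C B * X : k[X]).eval a = 0
    rw [eval_add, eval_mul, eval_C, eval_pow, eval_X, eval_mul, eval_C, eval_X]
    exact hcon a (hS' a ha)
  have h1 := Finset.card_le_card hsub
  have h2 : g.roots.toFinset.card ≤ g.natDegree := (Multiset.toFinset_card_le _).trans (card_roots' g)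
  have h3 : g.natDegree ≤ Q := by
    rw [hg]
    refine natDegree_add_le_of_degree_le ((natDegree_C_mul_le _ _).trans (natDegree_X_pow_le _)) ?_
    exact (natDegree_C_mul_le _ _).trans (natDegree_X_le.trans hQ1.le)
  rw [hS] at h1
  nlinarith only [hQ1, h1, h2, h3]

omit [IsAlgClosed k] in
theorem multiple_of_fix {t t₀ c : k} (ht₀ : t₀ ≠ 0) (h : c * t ^ r = t) (h₀ : c * t₀ ^ r = t₀) :
    ∃ n : ℤ, t = n * t₀ := by
  have hc : c ≠ 0 := by
    rintro rfl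
    rw [zero_mul] at h₀
    exact ht₀ h₀.symm
  have h1 : (t / t₀) ^ r = t / t₀ := by
    rw [div_pow, div_eq_div_iff (pow_ne_zero _ ht₀) ht₀]
    have h2 : c * (t ^ r * t₀) = c * (t * t₀ ^ r) := by
      calc c * (t ^ r * t₀) = (c * t ^ r) * t₀ := by ring
        _ = t * t₀ := by rw [h]
        _ = t * (c * t₀ ^ r) := by rw [h₀]
        _ = c * (t * t₀ ^ r) := by ring
    exact mul_left_cancel₀ hc h2
  obtain ⟨n, hn⟩ := (mem_bot_iff_intCast r k).1 ((Subfield.mem_bot_iff_pow_eq_self k r).2 h1)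
  exact ⟨n, by rw [hn, div_mul_cancel₀ _ ht₀]⟩

end fld

section abs

variable {Y : Type*} [Group Y] {k : Type*} [Field k]

/-- root elements `x_γ, x_γ', x_β, x_(γ+β), x_(γ'+β), x_δ` -/
structure Tri (α : MulAut Y) (Q : ℕ) (gA gB bb uA uB dd : k → Y) where
  c : k
  c' : k
  cd : k
  e1 : k
  e2 : k
  e3 : k
  e4 : k
  hc : c ≠ 0
  hc' : c' ≠ 0
  he1 : e1 ≠ 0
  he2 : e2 ≠ 0
  he3 : e3 ≠ 0
  he4 : e4 ≠ 0
  αA : ∀ a, α (gA a) = gB (c * a ^ Q)
  αB : ∀ a, α (gB a) = gA (c' * a ^ Q)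
  αd : ∀ a, α (dd a) = dd (cd * a ^ Q)
  addD : ∀ a b, dd (a + b) = dd a * dd b
  injA : Function.Injective gA
  injU : Function.Injective uA
  injD : Function.Injective dd
  com1 : ∀ a s, ⁅gA a, bb s⁆ = uA (e1 * (a * s))
  com2 : ∀ a s, ⁅gB a, bb s⁆ = uB (e2 * (a * s))
  com3 : ∀ a s, ⁅gA a, uB s⁆ = dd (e3 * (a * s))
  com4 : ∀ a s, ⁅gB a, uA s⁆ = dd (e4 * (a * s))
  cAB : ∀ a b, Commute (gA a) (gB b)
  cAU : ∀ a b, Commute (gA a) (uA b)
  cBU : ∀ a b, Commute (gB a) (uB b)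
  cUU : ∀ a b, Commute (uA a) (uB b)
  cDA : ∀ a b, Commute (dd a) (gA b)
  cDB : ∀ a b, Commute (dd a) (gB b)
  cDU : ∀ a b, Commute (dd a) (uA b)
  cDV : ∀ a b, Commute (dd a) (uB b)

variable {α : MulAut Y} {Q : ℕ} {gA gB bb uA uB dd : k → Y}

theorem Tri.dzero (h : Tri α Q gA gB bb uA uB dd) : dd 0 = 1 := by
  have := h.addD 0 0
  rw [add_zero] at this
  exact mul_eq_left.1 this.symm

theorem Tri.dneg (h : Tri α Q gA gB bb uA uB dd) (a : k) : dd (-a) = (dd a)⁻¹ := by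
  rw [eq_inv_iff_mul_eq_one, ← h.addD, neg_add_cancel, h.dzero]

theorem Tri.dzpow (h : Tri α Q gA gB bb uA uB dd) (a : k) (n : ℤ) : dd (n * a) = dd a ^ n := by
  have h1 : ∀ m : ℕ, dd (m * a) = dd a ^ m := by
    intro m
    induction m with
    | zero => rw [Nat.cast_zero, zero_mul, pow_zero, h.dzero]
    | succ m ih => rw [Nat.cast_succ, add_mul, one_mul, h.addD, ih, pow_succ]
  obtain ⟨m, rfl | rfl⟩ := n.eq_nat_or_neg
  · rw [Int.cast_natCast, zpow_natCast, h1]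
  · rw [Int.cast_neg, Int.cast_natCast, neg_mul, h.dneg, h1, zpow_neg, zpow_natCast]

theorem comm_mul {g h x : Y} : ⁅g * h, x⁆ = g * ⁅h, x⁆ * g⁻¹ * ⁅g, x⁆ := by
  simp only [commutatorElement_def]
  group

/-- the commutator with `x_β(s)` -/
theorem Tri.first (h : Tri α Q gA gB bb uA uB dd) (a b s : k) :
    ⁅gA a * gB b, bb s⁆ = dd (h.e3 * (a * (h.e2 * (b * s)))) * uB (h.e2 * (b * s)) * uA (h.e1 * (a * s)) := by
  rw [comm_mul, h.com1, h.com2, ← h.com3, commutatorElement_def]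
  group

theorem comm_aux {D u w g x E3 E4 : Y} (h1 : ⁅g, u⁆ = E3) (h2 : ⁅x, w⁆ = E4) (h3 : Commute g w) (h4 : Commute x u)
    (d1 : Commute D g) (d2 : Commute D x) (d3 : Commute D E3) (d4 : Commute D E4) (d5 : Commute E4 u)
    (d6 : Commute E4 g) : ⁅D * u * w, g * x⁆ = E3⁻¹ * E4⁻¹ := by
  have e1 : w * g * w⁻¹ = g := by rw [← h3.eq, mul_inv_cancel_right]
  have e2 : w * x * w⁻¹ = E4⁻¹ * x := by
    rw [← h2, commutatorElement_def]
    group
  have e3 : u * g * u⁻¹ = E3⁻¹ * g := by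
    rw [← h1, commutatorElement_def]
    group
  have e4 : u * x * u⁻¹ = x := by rw [← h4.eq, mul_inv_cancel_right]
  have e5 : u * E4⁻¹ * u⁻¹ = E4⁻¹ := by rw [← (d5.inv_left).eq, mul_inv_cancel_right]
  have e6 : D * E3⁻¹ * D⁻¹ = E3⁻¹ := by rw [(d3.inv_right).eq, mul_inv_cancel_right]
  have e7 : D * g * D⁻¹ = g := by rw [d1.eq, mul_inv_cancel_right]
  have e8 : D * E4⁻¹ * D⁻¹ = E4⁻¹ := by rw [(d4.inv_right).eq, mul_inv_cancel_right]
  have e9 : D * x * D⁻¹ = x := by rw [d2.eq, mul_inv_cancel_right]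
  calc ⁅D * u * w, g * x⁆ = D * (u * ((w * g * w⁻¹) * (w * x * w⁻¹)) * u⁻¹) * D⁻¹ * (g * x)⁻¹ := by
        rw [commutatorElement_def]
        group
    _ = D * (u * (g * (E4⁻¹ * x)) * u⁻¹) * D⁻¹ * (g * x)⁻¹ := by rw [e1, e2]
    _ = D * ((u * g * u⁻¹) * (u * E4⁻¹ * u⁻¹) * (u * x * u⁻¹)) * D⁻¹ * (g * x)⁻¹ := by group
    _ = D * ((E3⁻¹ * g) * E4⁻¹ * x) * D⁻¹ * (g * x)⁻¹ := by rw [e3, e4, e5]
    _ = (D * E3⁻¹ * D⁻¹) * (D * g * D⁻¹) * (D * E4⁻¹ * D⁻¹) * (D * x * D⁻¹) * (g * x)⁻¹ := by group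
    _ = E3⁻¹ * (g * E4⁻¹) * x * (g * x)⁻¹ := by rw [e6, e7, e8, e9]; group
    _ = E3⁻¹ * (E4⁻¹ * g) * x * (g * x)⁻¹ := by rw [(d6.inv_left).eq]
    _ = E3⁻¹ * E4⁻¹ := by group

/-- the second commutator -/
theorem Tri.second (h : Tri α Q gA gB bb uA uB dd) (a b s a' b' : k) :
    ⁅⁅gA a * gB b, bb s⁆, gA a' * gB b'⁆ =
      dd (-(h.e3 * (a' * (h.e2 * (b * s))) + h.e4 * (b' * (h.e1 * (a * s))))) := by
  rw [h.first, comm_aux (h.com3 a' _) (h.com4 b' _) (h.cAU a' _) (h.cBU b' _) (h.cDA _ _) (h.cDB _ _) ?_ ?_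
    (h.cDV _ _) (h.cDA _ _), ← h.dneg, ← h.dneg, ← h.addD]
  · congr 1
    ring
  · show dd _ * dd _ = dd _ * dd _
    rw [← h.addD, ← h.addD, add_comm]
  · show dd _ * dd _ = dd _ * dd _
    rw [← h.addD, ← h.addD, add_comm]

variable [IsAlgClosed k] {r : ℕ} [Fact r.Prime] [CharP k r]

/-- **The trace computation.** -/
theorem Tri.step (h : Tri α r gA gB bb uA uB dd) {s : k} (hs : s ≠ 0) (hbs : α (bb s) = bb s) {N : Subgroup Y}
    (hN1 : ∀ a, α (α (gA a)) = gA a → ⁅gA a * α (gA a), bb s⁆ ∈ N)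
    (hN2 : ∀ a, α (α (gA a)) = gA a → ∀ n ∈ N, (gA a * α (gA a)) * n * (gA a * α (gA a))⁻¹ ∈ N) :
    (∀ t, α (dd t) = dd t → dd t ∈ N) ∧ ∀ t, α (α (uA t)) = uA t → uA t * α (uA t) ∈ N := by
  have hr1 : 1 < r := (Fact.out : r.Prime).one_lt
  have hα2 : ∀ a, α (α (gA a)) = gA (h.c' * h.c ^ r * a ^ (r ^ 2)) := by
    intro a
    rw [h.αA, h.αB]
    congr 1
    rw [mul_pow, ← pow_mul, sq]
    ring
  have hu : h.c' * h.c ^ r ≠ 0 := mul_ne_zero h.hc' (pow_ne_zero _ h.hc)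
  -- an admissible parameter
  obtain ⟨a, ha, ha1⟩ := exists_adm hr1 dvd_rfl hu (one_ne_zero (α := k)) 0
  have ha0 : a ≠ 0 := by
    rintro rfl
    apply ha1
    rw [zero_pow (by omega), mul_zero, zero_mul, add_zero]
  have haf : α (α (gA a)) = gA a := by rw [hα2, ha]
  have hfix2 : ∀ a, α (α (gA a)) = gA a → α (gA a * α (gA a)) = gA a * α (gA a) := by
    intro a ha
    rw [map_mul, ha, h.αA]
    exact (h.cAB _ _).eq.symm
  have hA4 : -(h.e4 * (h.c * (h.e1 * (a * s)))) ≠ 0 :=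
    neg_ne_zero.2 (mul_ne_zero h.he4 (mul_ne_zero h.hc (mul_ne_zero h.he1 (mul_ne_zero ha0 hs))))
  obtain ⟨a', ha', ha'1⟩ := exists_adm hr1 dvd_rfl hu hA4 (-(h.e3 * (h.e2 * (h.c * a ^ r * s))))
  have haf' : α (α (gA a')) = gA a' := by rw [hα2, ha']
  obtain ⟨t₀, ht₀⟩ : ∃ t₀ : k, t₀ = -(h.e3 * (a' * (h.e2 * (h.c * a ^ r * s))) +
    h.e4 * (h.c * a' ^ r * (h.e1 * (a * s)))) := ⟨_, rfl⟩
  have ht₀0 : t₀ ≠ 0 := by
    rw [ht₀]
    intro h0
    apply ha'1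
    rw [← h0]
    ring
  have hw : dd t₀ = ⁅⁅gA a * α (gA a), bb s⁆, gA a' * α (gA a')⁆ := by
    rw [h.αA, h.αA, h.second, ht₀]
  have hwN : dd t₀ ∈ N := by
    rw [hw, commutatorElement_def]
    have h1 := hN1 a haf
    have h2 := hN2 a' haf' _ (N.inv_mem h1)
    have h3 := N.mul_mem h1 h2
    have e : ⁅gA a * α (gA a), bb s⁆ * (gA a' * α (gA a')) * ⁅gA a * α (gA a), bb s⁆⁻¹ * (gA a' * α (gA a'))⁻¹ =
      ⁅gA a * α (gA a), bb s⁆ * (gA a' * α (gA a') * ⁅gA a * α (gA a), bb s⁆⁻¹ * (gA a' * α (gA a'))⁻¹) := by group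
    rw [e]
    exact h3
  have hwf : α (dd t₀) = dd t₀ := by
    rw [hw, map_commutatorElement, map_commutatorElement, hfix2 a haf, hfix2 a' haf', hbs]
  have hD : ∀ t, α (dd t) = dd t → dd t ∈ N := by
    intro t ht
    rw [h.αd] at ht hwf
    obtain ⟨n, hn⟩ := multiple_of_fix (r := r) ht₀0 (h.injD ht) (h.injD hwf)
    rw [hn, h.dzpow]
    exact N.zpow_mem hwN n
  refine ⟨hD, fun t ht => ?_⟩
  obtain ⟨a, ha⟩ : ∃ a, h.e1 * (a * s) = t := ⟨h.e1⁻¹ * t * s⁻¹, by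
    have := h.he1
    field_simp⟩
  have e1 : uA t = ⁅gA a, bb s⁆ := by rw [h.com1, ha]
  have haf : α (α (gA a)) = gA a := by
    have h1 := ht
    rw [e1, map_commutatorElement, map_commutatorElement, hbs, hbs, hα2, h.com1, h.com1] at h1
    have h2 := mul_right_cancel₀ hs (mul_left_cancel₀ h.he1 (h.injU h1))
    rw [hα2, h2]
  have e2 : α (uA t) = uB (h.e2 * (h.c * a ^ r * s)) := by
    rw [e1, map_commutatorElement, hbs, h.αA, h.com2]
  have hcom : Commute (uA t) (α (uA t)) := by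
    rw [e2]
    exact h.cUU _ _
  have h1 := hN1 a haf
  have e3 : ⁅gA a * α (gA a), bb s⁆ = dd (h.e3 * (a * (h.e2 * (h.c * a ^ r * s)))) * (uA t * α (uA t)) := by
    rw [hcom.eq, e2, h.αA, h.first, ha, mul_assoc]
  obtain ⟨D, hDd⟩ : ∃ D, D = h.e3 * (a * (h.e2 * (h.c * a ^ r * s))) := ⟨_, rfl⟩
  rw [← hDd] at e3
  have h2 : α (⁅gA a * α (gA a), bb s⁆) = ⁅gA a * α (gA a), bb s⁆ := by
    rw [map_commutatorElement, hfix2 a haf, hbs]
  rw [e3, map_mul, map_mul, ht, ← hcom.eq] at h2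
  have h3 := hD D (mul_right_cancel h2)
  rw [e3] at h1
  exact (N.mul_mem_cancel_left h3).1 h1

end abs

/-! ### long roots -/

section long

open CoxeterSystem Cfsg.Agent.ChevalleyStructure.CoxeterGeom Cfsg.Agent.Tits.Roots Cfsg.Agent.Tits.Core
  Cfsg.Agent.Nodes.Reps Cfsg.Agent.Nodes.Coroot Cfsg.Agent.Nodes.SubComb

variable {I W : Type*} [Fintype I] [DecidableEq I] [Group W] {M : CoxeterMatrix I}
  (cs : CoxeterSystem M W) {A : I → I → ℤ} (h : IsCartan M A)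

/-- `a` is a long root -/
def Lg (a : I → ℤ) : Prop :=
  IsRoot cs h a ∧ ∀ b, IsRoot cs h b → b ≠ a → b ≠ -a → |cpr cs h b a| ≤ 1

variable {cs h} [Finite W]

theorem Lg.act {a : I → ℤ} (ha : Lg cs h a) (w : W) : Lg cs h (rep cs h w a) := by
  refine ⟨ha.1.act w, fun b hb h1 h2 => ?_⟩
  have e : b = rep cs h w (rep cs h w⁻¹ b) := by
    rw [← rep_mul_apply, mul_inv_cancel, map_one, Module.End.one_apply]
  rw [e, cpr_rep cs h w _ ha.1]
  refine ha.2 _ (hb.act _) (fun h3 => h1 ?_) fun h3 => h2 ?_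
  · rw [e, h3]
  · rw [e, h3, map_neg]

theorem Lg.neg {a : I → ℤ} (ha : Lg cs h a) : Lg cs h (-a) := by
  refine ⟨ha.1.neg, fun b hb h1 h2 => ?_⟩
  rw [cpr_neg_right cs h b ha.1, abs_neg]
  rw [neg_neg] at h2
  exact ha.2 b hb h2 h1

/-- the bound, in general -/
theorem Lg.le {a b : I → ℤ} (ha : Lg cs h a) (hb : IsRoot cs h b) : |cpr cs h b a| ≤ 1 ∨ b = a ∨ b = -a := by
  by_cases h1 : b = a
  · exact Or.inr (Or.inl h1)
  by_cases h2 : b = -a
  · exact Or.inr (Or.inr h2)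
  exact Or.inl (ha.2 b hb h1 h2)

theorem Lg.symm {a b : I → ℤ} (ha : Lg cs h a) (hb : Lg cs h b) : cpr cs h a b = cpr cs h b a := by
  have := Fintype.ofFinite W
  rcases ha.le hb.1 with h1 | rfl | rfl
  · rcases hb.le ha.1 with h2 | rfl | rfl
    · rw [abs_le] at h1 h2
      have e1 := cpr_pos_iff cs h a hb.1
      have e2 := cpr_pos_iff cs h b ha.1
      rw [form_comm] at e2
      have e3 := cpr_zero_iff cs h a hb.1
      have e4 := cpr_zero_iff cs h b ha.1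
      rw [form_comm] at e4
      by_cases h3 : 0 < cpr cs h a b
      · have h4 := e2.2 (e1.1 h3)
        omega
      · by_cases h5 : cpr cs h a b = 0
        · rw [h5, e4.2 (e3.1 h5)]
        · have h6 : ¬ 0 < cpr cs h b a := fun h7 => h3 (e1.2 (e2.1 h7))
          have h7 : cpr cs h b a ≠ 0 := fun h8 => h5 (e3.2 (e4.1 h8))
          omega
    · rfl
    · rw [cpr_neg cs h b hb.1, cpr_neg_right cs h b hb.1]
  · rfl
  · rw [cpr_neg_right cs h a ha.1, cpr_neg cs h a ha.1]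

theorem Lg.add_root {a b : I → ℤ} (ha : Lg cs h a) (hb : IsRoot cs h b) (hab : cpr cs h b a = -1) :
    IsRoot cs h (a + b) := by
  have h1 := isRoot_refl cs h hb ha.1
  rw [hab] at h1
  have e : b - (-1 : ℤ) • a = a + b := by module
  rwa [e] at h1

theorem Lg.add {a b : I → ℤ} (ha : Lg cs h a) (hb : Lg cs h b) (hab : cpr cs h b a = -1) : Lg cs h (a + b) := by
  obtain ⟨w, i, rfl⟩ := ha.1
  have h1 := hb.act (rfl' cs w i)
  rw [rep_rfl'_eq, hab] at h1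
  have e : b - (-1 : ℤ) • rep cs h w (sr i) = rep cs h w (sr i) + b := by module
  rwa [e] at h1

theorem Lg.no_comb {a b : I → ℤ} (ha : Lg cs h a) (hb : IsRoot cs h b) (hab : 0 ≤ cpr cs h b a) {m n : ℕ}
    (hm : 0 < m) (hn : 0 < n) : ¬ IsRoot cs h ((m : ℤ) • a + (n : ℤ) • b) := by
  intro hv
  have h1 : cpr cs h ((m : ℤ) • a + (n : ℤ) • b) a = m * 2 + n * cpr cs h b a := by
    rw [cpr_add cs h _ _ ha.1, cpr_smul cs h _ _ ha.1, cpr_smul cs h _ _ ha.1, cpr_self cs h ha.1]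
  have h2 : (0 : ℤ) ≤ n * cpr cs h b a := mul_nonneg (by positivity) hab
  have h3 : (1 : ℤ) ≤ m := by exact_mod_cast hm
  rcases ha.le hv with h4 | h4 | h4
  · rw [h1, abs_le] at h4
    omega
  · rw [h4, cpr_self cs h ha.1] at h1
    have h5 : (m : ℤ) = 1 := by omega
    rw [h5, one_smul] at h4
    have h6 : (n : ℤ) • b = 0 := by
      have := add_left_cancel (h4.trans (add_zero a).symm)
      exact this
    rcases smul_eq_zero.1 h6 with h7 | h7
    · have : (n : ℤ) ≠ 0 := by exact_mod_cast hn.ne'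
      exact this h7
    · exact hb.ne_zero h7
  · rw [h4, cpr_neg cs h a ha.1, cpr_self cs h ha.1] at h1
    omega

end long

/-! ### the Chevalley group -/

section chev

open CoxeterSystem Cfsg Cfsg.Lie Cfsg.Lie.ChevalleyDatum
open Cfsg.Agent.ChevalleyStructure Cfsg.Agent.ChevalleyStructure.Elts Cfsg.Agent.ChevalleyStructure.CoxeterGeom
  Cfsg.Agent.ChevalleyStructure.CoxeterGeomTypes Cfsg.Agent.ChevalleyStructure.NPerm
open Cfsg.Agent.Tits.Roots Cfsg.Agent.Tits.Core Cfsg.Agent.Nodes Cfsg.Agent.Nodes.Reps Cfsg.Agent.Nodes.BNOf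
  Cfsg.Agent.Nodes.RGDChev Cfsg.Agent.Nodes.Coroot Cfsg.Agent.Nodes.SubComb
open Cfsg.Agent.KFacts.RgdField Cfsg.Agent.KFacts.RgdChevCoord
open Cfsg.Agent.H46.Gen (Rt Pr NN xc_br xc_commute xc_add xc_zero xc_neg NN_sq NN_swap NN_neg)

variable {D : ChevalleyDatum} {l : ℕ} {M : CoxeterMatrix (Fin l)} (hp : IsType D l M) {W : Type*} [Group W]
  (cs : CoxeterSystem M W) {k : Type*} [Field k]

include cs in
theorem rt_iff (v : Fin l → ℤ) : Rt D l v ↔ IsRoot cs hp.isCartan v := (isRoot_iff hp cs v).symm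

include hp cs in
theorem pr_of {a b : Fin l → ℤ} (ha : Lg cs hp.isCartan a) (hb : Lg cs hp.isCartan b)
    (hab : cpr cs hp.isCartan b a = -1) : Pr D l a b := by
  have := finite_W hp cs
  have hba : cpr cs hp.isCartan a b = -1 := by rw [ha.symm hb, hab]
  have no : ∀ {v : Fin l → ℤ} {c : Fin l → ℤ} (_ : Lg cs hp.isCartan c), 3 ≤ |cpr cs hp.isCartan v c| → ¬ Rt D l v := by
    intro v c hc h1 h2
    rw [rt_iff hp cs] at h2
    rcases hc.le h2 with h3 | h3 | h3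
    · omega
    · rw [h3, cpr_self _ _ hc.1] at h1
      norm_num at h1
    · rw [h3, cpr_neg _ _ _ hc.1, cpr_self _ _ hc.1] at h1
      norm_num at h1
  have hs : IsRoot cs hp.isCartan (a + b) := ha.add_root hb.1 hab
  refine ⟨(rt_iff hp cs _).2 ha.1, (rt_iff hp cs _).2 hb.1, (rt_iff hp cs _).2 hs, ?_, ?_, ?_⟩
  · apply no ha
    have e : b - a = b + -a := by module
    rw [e, cpr_add _ _ _ _ ha.1, cpr_neg _ _ _ ha.1, cpr_self _ _ ha.1, hab]
    norm_num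
  · apply no ha
    rw [cpr_add _ _ _ _ ha.1, cpr_smul _ _ _ _ ha.1, cpr_self _ _ ha.1, hab]
    norm_num
  · apply no hb
    rw [cpr_add _ _ _ _ hb.1, cpr_smul _ _ _ _ hb.1, cpr_self _ _ hb.1, hba]
    norm_num

include cs in
theorem comm_of {a b : Fin l → ℤ} (ha : Lg cs hp.isCartan a) (hb : IsRoot cs hp.isCartan b)
    (hab : 0 ≤ cpr cs hp.isCartan b a) (t u : k) : Commute (xc hp a t) (xc hp b u) := by
  have := finite_W hp cs
  refine xc_commute hp ((rt_iff hp cs _).2 ha.1) ((rt_iff hp cs _).2 hb) ?_ (Or.inr fun m n hm hn h1 => ?_) t u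
  · rintro rfl
    rw [cpr_neg _ _ _ ha.1, cpr_self _ _ ha.1] at hab
    norm_num at hab
  · have h2 : ¬ IsRoot cs hp.isCartan ((m : ℤ) • a + (n : ℤ) • b) := ha.no_comb hb hab hm hn
    exact h2 ((rt_iff hp cs _).1 h1)

/-- the configuration of the roots `β, γ, γ'` -/
structure Cfg (cs : CoxeterSystem M W) (β γ γ' : Fin l → ℤ) : Prop where
  lb : Lg cs hp.isCartan β
  lg : Lg cs hp.isCartan γ
  lg' : Lg cs hp.isCartan γ'
  bg : cpr cs hp.isCartan β γ = -1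
  bg' : cpr cs hp.isCartan β γ' = -1
  gg : cpr cs hp.isCartan γ γ' = 0

variable {hp cs} {β γ γ' : Fin l → ℤ} (C : Cfg hp cs β γ γ')

include C

theorem Cfg.gb : cpr cs hp.isCartan γ β = -1 := by
  have := finite_W hp cs
  rw [C.lg.symm C.lb, C.bg]

theorem Cfg.gb' : cpr cs hp.isCartan γ' β = -1 := by
  have := finite_W hp cs
  rw [C.lg'.symm C.lb, C.bg']

theorem Cfg.gg' : cpr cs hp.isCartan γ' γ = 0 := by
  have := finite_W hp cs
  rw [C.lg'.symm C.lg, C.gg]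

theorem Cfg.swap : Cfg hp cs β γ' γ := ⟨C.lb, C.lg', C.lg, C.bg', C.bg, C.gg'⟩

theorem Cfg.neg : Cfg hp cs (-β) (-γ) (-γ') := by
  have := finite_W hp cs
  refine ⟨C.lb.neg, C.lg.neg, C.lg'.neg, ?_, ?_, ?_⟩
  · rw [cpr_neg_right _ _ _ C.lg.1, cpr_neg _ _ _ C.lg.1, C.bg]; norm_num
  · rw [cpr_neg_right _ _ _ C.lg'.1, cpr_neg _ _ _ C.lg'.1, C.bg']; norm_num
  · rw [cpr_neg_right _ _ _ C.lg'.1, cpr_neg _ _ _ C.lg'.1, C.gg]; norm_num

theorem Cfg.lu : Lg cs hp.isCartan (γ + β) := by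
  have := finite_W hp cs
  exact C.lg.add C.lb C.bg

theorem Cfg.lu' : Lg cs hp.isCartan (γ' + β) := by
  have := finite_W hp cs
  exact C.lg'.add C.lb C.bg'

theorem Cfg.ug : cpr cs hp.isCartan (γ' + β) γ = -1 := by
  have := finite_W hp cs
  rw [cpr_add _ _ _ _ C.lg.1, C.gg', C.bg]; norm_num

theorem Cfg.ug' : cpr cs hp.isCartan (γ + β) γ' = -1 := C.swap.ug

theorem Cfg.ld : Lg cs hp.isCartan (γ + (γ' + β)) := by
  have := finite_W hp cs
  exact C.lg.add C.lu' C.ug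

theorem Cfg.uu : cpr cs hp.isCartan (γ + β) (γ' + β) = 0 := by
  have := finite_W hp cs
  rw [cpr_add _ _ _ _ C.lu'.1, C.lg.symm C.lu', C.lb.symm C.lu', C.ug, cpr_add _ _ _ _ C.lb.1, C.gb', cpr_self _ _ C.lb.1]
  norm_num

/-- the configuration at `δ` -/
theorem Cfg.dn : Cfg hp cs (γ + (γ' + β)) (-γ) (-γ') := by
  have := finite_W hp cs
  refine ⟨C.ld, C.lg.neg, C.lg'.neg, ?_, ?_, C.neg.gg⟩
  · rw [cpr_neg_right _ _ _ C.lg.1, cpr_add _ _ _ _ C.lg.1, cpr_self _ _ C.lg.1, C.ug]; norm_num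
  · rw [cpr_neg_right _ _ _ C.lg'.1, cpr_add _ _ _ _ C.lg'.1, C.gg, cpr_add _ _ _ _ C.lg'.1, cpr_self _ _ C.lg'.1, C.bg']
    norm_num

/-- the configuration at `-β` -/
theorem Cfg.bn : Cfg hp cs (-β) (γ + β) (γ' + β) := by
  have := finite_W hp cs
  have e1 : cpr cs hp.isCartan (-β) (γ + β) = -1 := by
    rw [C.lb.neg.symm C.lu, cpr_neg_right _ _ _ C.lb.1, cpr_add _ _ _ _ C.lb.1, C.gb, cpr_self _ _ C.lb.1]; norm_num
  have e2 : cpr cs hp.isCartan (-β) (γ' + β) = -1 := by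
    rw [C.lb.neg.symm C.lu', cpr_neg_right _ _ _ C.lb.1, cpr_add _ _ _ _ C.lb.1, C.gb', cpr_self _ _ C.lb.1]; norm_num
  exact ⟨C.lb.neg, C.lu, C.lu', e1, e2, C.uu⟩

/-- the configuration at `-δ` -/
theorem Cfg.dm : Cfg hp cs (-(γ + (γ' + β))) (γ + β) (γ' + β) := by
  have := finite_W hp cs
  have e : -(γ + (γ' + β)) = -(γ + β) + -γ' := by module
  have e' : -(γ + (γ' + β)) = -(γ' + β) + -γ := by module
  refine ⟨C.ld.neg, C.lu, C.lu', ?_, ?_, C.uu⟩
  · rw [e, cpr_add _ _ _ _ C.lu.1, cpr_neg _ _ _ C.lu.1, cpr_neg _ _ _ C.lu.1, cpr_self _ _ C.lu.1, C.lg'.symm C.lu, C.ug']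
    norm_num
  · rw [e', cpr_add _ _ _ _ C.lu'.1, cpr_neg _ _ _ C.lu'.1, cpr_neg _ _ _ C.lu'.1, cpr_self _ _ C.lu'.1, C.lg.symm C.lu', C.ug]
    norm_num

end chev

section final

open CoxeterSystem Cfsg Cfsg.Lie Cfsg.Lie.ChevalleyDatum
open Cfsg.Agent.ChevalleyStructure Cfsg.Agent.ChevalleyStructure.Elts Cfsg.Agent.ChevalleyStructure.CoxeterGeom
  Cfsg.Agent.ChevalleyStructure.CoxeterGeomTypes Cfsg.Agent.ChevalleyStructure.NPerm
open Cfsg.Agent.Tits.Roots Cfsg.Agent.Tits.Core Cfsg.Agent.Nodes Cfsg.Agent.Nodes.Reps Cfsg.Agent.Nodes.BNOf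
  Cfsg.Agent.Nodes.RGDChev Cfsg.Agent.Nodes.Coroot Cfsg.Agent.Nodes.SubComb
open Cfsg.Agent.KFacts.RgdField Cfsg.Agent.KFacts.RgdChevCoord
open Cfsg.Agent.H46.Gen (Rt Pr NN xc_br xc_commute xc_add xc_zero xc_neg NN_sq NN_swap NN_neg)
open Cfsg.Agent.BpExc.Fr Cfsg.Agent.BpExc.LangFr Cfsg.Agent.BpExc.HX
open Cfsg.Agent.H398.RG (Cond MK le_MK conj_MK)

universe u

variable {D : ChevalleyDatum} {l : ℕ} {M : CoxeterMatrix (Fin l)} {hp : IsType D l M} {W : Type*} [Group W]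
  {cs : CoxeterSystem M W} {k : Type u} [Field k]

theorem xc_inj' {v : Fin l → ℤ} (hv : IsRoot cs hp.isCartan v) : Function.Injective (xc (K := k) hp v) := by
  obtain ⟨r, hr, rfl⟩ := (isRoot_iff hp cs v).1 hv
  exact xc_inj hp hr

theorem mem_XX_iff {v : Fin l → ℤ} (hv : IsRoot cs hp.isCartan v) {y : ↥(D.group k)} :
    y ∈ XX D l k v ↔ ∃ t, y = xc hp v t := by
  obtain ⟨r, hr, rfl⟩ := (isRoot_iff hp cs v).1 hv
  exact mem_XX_xc hp hr

include hp in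
theorem NN_ne {a b : Fin l → ℤ} (h : Pr D l a b) : (NN D l a b : k) ≠ 0 := by
  intro h0
  have h1 := congrArg (Int.cast : ℤ → k) (NN_sq hp h)
  rw [Int.cast_mul, h0, zero_mul, Int.cast_one] at h1
  exact zero_ne_one h1

theorem commute_left {a b : Fin l → ℤ} (ha : Lg cs hp.isCartan a) (hb : Lg cs hp.isCartan b)
    (hab : cpr cs hp.isCartan b a = -1) (t u : k) : Commute (xc hp a t) (xc hp (a + b) u) := by
  have := finite_W hp cs
  refine comm_of hp cs ha (ha.add_root hb.1 hab) ?_ t u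
  rw [cpr_add _ _ _ _ ha.1, cpr_self _ _ ha.1, hab]
  norm_num

variable {α : MulAut ↥(D.group k)} {θ : (Fin l → ℤ) ≃+ (Fin l → ℤ)} {r e : ℕ} [Fact r.Prime] [CharP k r]
  {β γ γ' : Fin l → ℤ}

theorem exists_tri [IsAlgClosed k] (hσ : IsFrob r e α) (he : r ^ e = r)
    (F : Fr cs hp.isCartan (TT D k) (XX D l k) α θ) (C : Cfg hp cs β γ γ') (h1 : θ β = β) (h2 : θ γ = γ') (h3 : θ γ' = γ) :
    Nonempty (Tri α r (xc hp γ) (xc hp γ') (xc hp β) (xc (K := k) hp (γ + β)) (xc hp (γ' + β)) (xc hp (γ + (γ' + β)))) := by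
  have := finite_W hp cs
  obtain ⟨c, hc, hc1⟩ := fr_xc hp cs hσ F C.lg.1
  obtain ⟨c', hc', hc1'⟩ := fr_xc hp cs hσ F C.lg'.1
  obtain ⟨cd, hcd, hcd1⟩ := fr_xc hp cs hσ F C.ld.1
  have hθd : θ (γ + (γ' + β)) = γ + (γ' + β) := by
    rw [map_add, map_add, h1, h2, h3]
    abel
  simp only [he, h2] at hc1
  simp only [he, h3] at hc1'
  simp only [he, hθd] at hcd1
  have p1 : Pr D l γ β := pr_of hp cs C.lg C.lb C.bg
  have p2 : Pr D l γ' β := pr_of hp cs C.lg' C.lb C.bg'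
  have p3 : Pr D l γ (γ' + β) := pr_of hp cs C.lg C.lu' C.ug
  have p4 : Pr D l γ' (γ + β) := pr_of hp cs C.lg' C.lu C.ug'
  have ed : γ' + (γ + β) = γ + (γ' + β) := by abel
  refine ⟨{ c := c, c' := c', cd := cd, e1 := (NN D l γ β : k), e2 := (NN D l γ' β : k), e3 := (NN D l γ (γ' + β) : k),
            e4 := (NN D l γ' (γ + β) : k), hc := hc, hc' := hc', he1 := NN_ne (hp := hp) p1, he2 := NN_ne (hp := hp) p2, he3 := NN_ne (hp := hp) p3,
            he4 := NN_ne (hp := hp) p4, αA := hc1, αB := hc1', αd := hcd1, addD := xc_add hp _, injA := xc_inj' C.lg.1,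
            injU := xc_inj' C.lu.1, injD := xc_inj' C.ld.1, com1 := xc_br hp p1, com2 := xc_br hp p2,
            com3 := xc_br hp p3, com4 := ?_, cAB := ?_, cAU := ?_, cBU := ?_, cUU := ?_, cDA := ?_, cDB := ?_,
            cDU := ?_, cDV := ?_ }⟩
  · intro a s
    rw [xc_br hp p4, ed]
  · intro a b
    exact comm_of hp cs C.lg C.lg'.1 C.gg'.ge a b
  · intro a b
    exact commute_left (hp := hp) C.lg C.lb C.bg a b
  · intro a b
    exact commute_left (hp := hp) C.lg' C.lb C.bg' a b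
  · intro a b
    exact (comm_of hp cs C.lu' C.lu.1 C.uu.ge b a).symm
  · intro a b
    exact (commute_left (hp := hp) C.lg C.lu' C.ug b a).symm
  · intro a b
    rw [← ed]
    exact (commute_left (hp := hp) C.lg' C.lu C.ug' b a).symm
  · intro a b
    have h4 := commute_left (hp := hp) (k := k) C.lu C.lg' (by rw [C.lg'.symm C.lu, C.ug']) b a
    have e5 : γ + β + γ' = γ + (γ' + β) := by abel
    rw [e5] at h4
    exact h4.symm
  · intro a b
    have h4 := commute_left (hp := hp) (k := k) C.lu' C.lg (by rw [C.lg.symm C.lu', C.ug]) b a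
    have e5 : γ' + β + γ = γ + (γ' + β) := by abel
    rw [e5] at h4
    exact h4.symm

/-- the step for subgroups -/
theorem step' [IsAlgClosed k] (hσ : IsFrob r e α) (he : r ^ e = r)
    (F : Fr cs hp.isCartan (TT D k) (XX D l k) α θ) (C : Cfg hp cs β γ γ') (h1 : θ β = β) (h2 : θ γ = γ') (h3 : θ γ' = γ)
    {x : ↥(D.group k)} (hx : x ∈ XX D l k β) (hx1 : x ≠ 1) (hxα : α x = x) {N : Subgroup ↥(D.group k)}
    (hN1 : ∀ g ∈ XX D l k γ, α (α g) = g → ⁅g * α g, x⁆ ∈ N)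
    (hN2 : ∀ g ∈ XX D l k γ, α (α g) = g → ∀ n ∈ N, (g * α g) * n * (g * α g)⁻¹ ∈ N) :
    (∀ d ∈ XX D l k (γ + (γ' + β)), α d = d → d ∈ N) ∧ ∀ u ∈ XX D l k (γ + β), α (α u) = u → u * α u ∈ N := by
  obtain ⟨T⟩ := exists_tri hσ he F C h1 h2 h3
  obtain ⟨s, rfl⟩ := (mem_XX_iff (hp := hp) C.lb.1).1 hx
  have hs : s ≠ 0 := by
    rintro rfl
    exact hx1 (xc_zero hp β)
  obtain ⟨h4, h5⟩ := T.step hs hxα (N := N) (fun a ha => hN1 _ ((mem_XX_iff (hp := hp) C.lg.1).2 ⟨a, rfl⟩) ha)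
    fun a ha => hN2 _ ((mem_XX_iff (hp := hp) C.lg.1).2 ⟨a, rfl⟩) ha
  constructor
  · intro d hd hd1
    obtain ⟨t, rfl⟩ := (mem_XX_iff (hp := hp) C.ld.1).1 hd
    exact h4 t hd1
  · intro u hu hu1
    obtain ⟨t, rfl⟩ := (mem_XX_iff (hp := hp) C.lu.1).1 hu
    exact h5 t hu1

/-- the step for a subgroup containing `x` -/
theorem step'' [IsAlgClosed k] (hσ : IsFrob r e α) (he : r ^ e = r)
    (F : Fr cs hp.isCartan (TT D k) (XX D l k) α θ) (C : Cfg hp cs β γ γ') (h1 : θ β = β) (h2 : θ γ = γ') (h3 : θ γ' = γ)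
    {x : ↥(D.group k)} (hx : x ∈ XX D l k β) (hx1 : x ≠ 1) (hxα : α x = x) {N : Subgroup ↥(D.group k)} (hxN : x ∈ N)
    (hN2 : ∀ g ∈ XX D l k γ, α (α g) = g → ∀ n ∈ N, (g * α g) * n * (g * α g)⁻¹ ∈ N) :
    (∀ d ∈ XX D l k (γ + (γ' + β)), α d = d → d ∈ N) ∧ ∀ u ∈ XX D l k (γ + β), α (α u) = u → u * α u ∈ N :=
  step' hσ he F C h1 h2 h3 hx hx1 hxα
    (fun g hg hg1 => by
      rw [commutatorElement_def]
      exact N.mul_mem (hN2 g hg hg1 x hxN) (N.inv_mem hxN)) hN2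

/-- there are nontrivial fixed elements -/
theorem exists_fixed_xc [IsAlgClosed k] (hσ : IsFrob r e α) (he : r ^ e = r)
    (F : Fr cs hp.isCartan (TT D k) (XX D l k) α θ) {a : Fin l → ℤ} (ha : IsRoot cs hp.isCartan a) (h : θ a = a) :
    ∃ x ∈ XX D l k a, x ≠ 1 ∧ α x = x := by
  obtain ⟨c, hc, hc1⟩ := fr_xc hp cs hσ F ha
  simp only [he, h] at hc1
  obtain ⟨S, hS, hS'⟩ := exists_roots (Q := r) (r := r) (Fact.out : r.Prime).one_lt dvd_rfl hc
  obtain ⟨t, htS, ht0⟩ : ∃ t ∈ S, t ≠ 0 := by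
    by_contra hcon
    push Not at hcon
    have h1 : S ⊆ {0} := fun t ht => by rw [Finset.mem_singleton]; exact hcon t ht
    have h2 := Finset.card_le_card h1
    rw [hS, Finset.card_singleton] at h2
    exact absurd h2 (not_le.2 (Fact.out : r.Prime).one_lt)
  refine ⟨xc hp a t, (mem_XX_iff (hp := hp) ha).2 ⟨t, rfl⟩, fun h3 => ht0 ?_, ?_⟩
  · apply xc_inj' (hp := hp) ha
    rw [h3, xc_zero hp]
  · rw [hc1, hS' t htS]

/-- **(U)**: the condition on the base pair for components with `γ ⊥ θγ`. -/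
theorem condU [IsAlgClosed k] (hσ : IsFrob r e α) (he : r ^ e = r)
    (F : Fr cs hp.isCartan (TT D k) (XX D l k) α θ) (C : Cfg hp cs β γ γ') (h1 : θ β = β) (h2 : θ γ = γ') (h3 : θ γ' = γ)
    {K X₀ Y₀ : Subgroup ↥(D.group k)} (hX₀ : ∀ u, u ∈ X₀ ↔ u ∈ XX D l k β ∧ α u = u)
    (hY₀ : ∀ u ∈ Y₀, u ∈ XX D l k (-β) ∧ α u = u) (hY1 : Y₀ ≠ ⊥) (hYM : Y₀ ≤ MK K X₀)
    (hK1 : ∀ g ∈ XX D l k γ, α (α g) = g → g * α g ∈ K) (hK2 : ∀ g ∈ XX D l k (-γ), α (α g) = g → g * α g ∈ K)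
    (hK3 : ∀ g ∈ XX D l k (γ + β), α (α g) = g → g * α g ∈ K) : Cond K X₀ Y₀ := by
  have := finite_W hp cs
  have n1 : θ (-β) = -β := by rw [map_neg, h1]
  have n2 : θ (-γ) = -γ' := by rw [map_neg, h2]
  have n3 : θ (-γ') = -γ := by rw [map_neg, h3]
  have n4 : θ (γ + β) = γ' + β := by rw [map_add, h1, h2]
  have n5 : θ (γ' + β) = γ + β := by rw [map_add, h1, h3]
  have n6 : θ (γ + (γ' + β)) = γ + (γ' + β) := by
    rw [map_add, map_add, h1, h2, h3]
    abel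
  have n7 : θ (-(γ + (γ' + β))) = -(γ + (γ' + β)) := by rw [map_neg, n6]
  have hMK : ∀ g : ↥(D.group k), g ∈ K → ∀ n ∈ MK K X₀, g * n * g⁻¹ ∈ MK K X₀ := fun g hg n hn => conj_MK hg hn
  -- fixed elements
  obtain ⟨x₁, hx₁, hx₁1, hx₁α⟩ := exists_fixed_xc (hp := hp) hσ he F C.lb.1 h1
  obtain ⟨d₁, hd₁, hd₁1, hd₁α⟩ := exists_fixed_xc (hp := hp) hσ he F C.ld.1 n6
  obtain ⟨z₁, hz₁, hz₁1, hz₁α⟩ := exists_fixed_xc (hp := hp) hσ he F C.ld.neg.1 n7
  obtain ⟨y₁, hy₁Y, hy₁1⟩ : ∃ y ∈ Y₀, y ≠ 1 := by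
    by_contra hcon
    push Not at hcon
    exact hY1 ((Subgroup.eq_bot_iff_forall _).2 hcon)
  obtain ⟨hy₁, hy₁α⟩ := hY₀ y₁ hy₁Y
  have hx₁M : x₁ ∈ MK K X₀ := le_MK K X₀ ((hX₀ x₁).2 ⟨hx₁, hx₁α⟩)
  have hy₁M : y₁ ∈ MK K X₀ := hYM hy₁Y
  have v1 : γ + β + -β = γ := by abel
  have v2 : -γ + (-γ' + -β) = -(γ + (γ' + β)) := by abel
  have v3 : γ + β + -(γ + (γ' + β)) = -γ' := by abel
  have v4 : γ + β + (γ' + β + -(γ + (γ' + β))) = β := by abel
  have v5 : -γ + (-γ' + (γ + (γ' + β))) = β := by abel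
  -- the elements of `M`
  obtain ⟨-, uM⟩ := step'' hσ he F C h1 h2 h3 hx₁ hx₁1 hx₁α hx₁M fun g hg hg1 => hMK _ (hK1 g hg hg1)
  obtain ⟨-, gM⟩ := step'' hσ he F C.bn n1 n4 n5 hy₁ hy₁1 hy₁α hy₁M fun g hg hg1 => hMK _ (hK3 g hg hg1)
  rw [v1] at gM
  obtain ⟨dM, -⟩ := step'' hσ he F C.neg n1 n2 n3 hy₁ hy₁1 hy₁α hy₁M fun g hg hg1 => hMK _ (hK2 g hg hg1)
  rw [v2] at dM
  obtain ⟨-, gM'⟩ := step'' hσ he F C.dm n7 n4 n5 hz₁ hz₁1 hz₁α (dM z₁ hz₁ hz₁α)
    fun g hg hg1 => hMK _ (hK3 g hg hg1)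
  rw [v3] at gM'
  have gnM : ∀ g ∈ XX D l k (-γ), α (α g) = g → g * α g ∈ MK K X₀ := by
    intro g hg hg1
    have h4 : α g ∈ XX D l k (-γ') := by
      have := (F.map (-γ) C.lg.neg.1 g).2 hg
      rwa [n2] at this
    have h5 := gM' (α g) h4 (by rw [hg1])
    rw [hg1] at h5
    obtain ⟨a, ha⟩ := (mem_XX_iff (hp := hp) C.lg.neg.1).1 hg
    obtain ⟨b, hb⟩ := (mem_XX_iff (hp := hp) C.lg'.neg.1).1 h4
    have h6 : Commute (xc hp (-γ) a) (xc hp (-γ') b) := comm_of hp cs C.lg.neg C.lg'.neg.1 C.neg.gg'.ge a b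
    rw [← ha, ← hb] at h6
    rw [h6.eq]
    exact h5
  -- the normal subgroup
  intro N hNM hN hY
  suffices hsuff : ∀ u ∈ XX D l k β, α u = u → u ∈ N from fun u hu => hsuff u ((hX₀ u).1 hu).1 ((hX₀ u).1 hu).2
  obtain ⟨x, hxX, n, hn, hy⟩ := hY y₁ hy₁Y
  obtain ⟨hx, hxα⟩ := (hX₀ x).1 hxX
  by_cases hx1 : x = 1
  · rw [hx1, one_mul] at hy
    have hyN : y₁ ∈ N := by rw [hy]; exact hn
    obtain ⟨dN, -⟩ := step'' hσ he F C.neg n1 n2 n3 hy₁ hy₁1 hy₁α hyN fun g hg hg1 => hN _ (gnM g hg hg1)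
    rw [v2] at dN
    obtain ⟨bN, -⟩ := step'' hσ he F C.dm n7 n4 n5 hz₁ hz₁1 hz₁α (dN z₁ hz₁ hz₁α)
      fun g hg hg1 => hN _ (uM g hg hg1)
    rw [v4] at bN
    exact bN
  · have hcomm : ∀ g ∈ XX D l k γ, (g * α g) * y₁ = y₁ * (g * α g) := by
      intro g hg
      have h4 : α g ∈ XX D l k γ' := by
        have := (F.map γ C.lg.1 g).2 hg
        rwa [h2] at this
      obtain ⟨a, ha⟩ := (mem_XX_iff (hp := hp) C.lg.1).1 hg
      obtain ⟨b, hb⟩ := (mem_XX_iff (hp := hp) C.lg'.1).1 h4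
      obtain ⟨c, hc⟩ := (mem_XX_iff (hp := hp) C.lb.neg.1).1 hy₁
      have h6 : Commute (xc hp γ a) (xc hp (-β) c) := comm_of hp cs C.lg C.lb.neg.1 (by
        rw [cpr_neg _ _ _ C.lg.1, C.bg]; norm_num) a c
      have h7 : Commute (xc hp γ' b) (xc hp (-β) c) := comm_of hp cs C.lg' C.lb.neg.1 (by
        rw [cpr_neg _ _ _ C.lg'.1, C.bg']; norm_num) b c
      rw [← ha, ← hc] at h6
      rw [← hb, ← hc] at h7
      exact (h6.mul_left h7).eq
    obtain ⟨dN, -⟩ := step' hσ he F C h1 h2 h3 hx hx1 hxα (N := N) (fun g hg hg1 => by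
      have h4 := gM g hg hg1
      have h5 := hcomm g hg
      have h6 : x = y₁ * n⁻¹ := by rw [hy]; group
      rw [h6, commutatorElement_def]
      have h7 : g * α g * (y₁ * n⁻¹) * (g * α g)⁻¹ * (y₁ * n⁻¹)⁻¹ =
          y₁ * (((g * α g) * n⁻¹ * (g * α g)⁻¹) * n) * y₁⁻¹ := by
        calc g * α g * (y₁ * n⁻¹) * (g * α g)⁻¹ * (y₁ * n⁻¹)⁻¹ =
            ((g * α g) * y₁) * n⁻¹ * (g * α g)⁻¹ * n * y₁⁻¹ := by group
          _ = (y₁ * (g * α g)) * n⁻¹ * (g * α g)⁻¹ * n * y₁⁻¹ := by rw [h5]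
          _ = _ := by group
      rw [h7]
      exact hN y₁ hy₁M _ (N.mul_mem (hN _ h4 _ (N.inv_mem hn)) hn)) fun g hg hg1 => hN _ (gM g hg hg1)
    obtain ⟨bN, -⟩ := step'' hσ he F C.dn n6 n2 n3 hd₁ hd₁1 hd₁α (dN d₁ hd₁ hd₁α)
      fun g hg hg1 => hN _ (gnM g hg hg1)
    rw [v5] at bN
    exact bN

theorem lg_of_sl (hs : Cfsg.Agent.KFacts.RgdSL.SL cs hp.isCartan) {a : Fin l → ℤ} (ha : IsRoot cs hp.isCartan a) :
    Lg cs hp.isCartan a := by
  have := finite_W hp cs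
  exact ⟨ha, fun b hb h1 h2 => abs_le.2 (hs.abs_le hb ha h1 h2)⟩

end final

end Cfsg.Agent.H380.RG
end

-- part: H380/RG/Zee
section
/-!
# S3509: the condition on the base pair for components of type `²A_2`, `q = 3` (helper380)

`β = γ + γ'`, `γ' = θ γ`, `θ β = β`: `z = h_β(-1)` lies in every normal subgroup `N` with `Y ≤ X N`, it inverts
`E / X`, `E = (X_γ X_γ' X_β)^α`, `E ≤ M`, so `[z, E] ≤ N` and `X = [[z, E], E] ≤ N`.

* `E3_mul`, `E3_inv` : the group `X_γ X_γ' X_β`;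
* `condZ` : `Cond K X Y`.
-/

set_option autoImplicit false
set_option linter.unusedSectionVars false

namespace Cfsg.Agent.H380.RG

open scoped commutatorElement
open CoxeterSystem Cfsg Cfsg.Lie Cfsg.Lie.ChevalleyDatum
open Cfsg.Agent.ChevalleyStructure Cfsg.Agent.ChevalleyStructure.Elts Cfsg.Agent.ChevalleyStructure.CoxeterGeom
  Cfsg.Agent.ChevalleyStructure.CoxeterGeomTypes Cfsg.Agent.ChevalleyStructure.NPerm
open Cfsg.Agent.Tits.Roots Cfsg.Agent.Tits.Core Cfsg.Agent.Nodes Cfsg.Agent.Nodes.Reps Cfsg.Agent.Nodes.BNOf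
  Cfsg.Agent.Nodes.RGDChev Cfsg.Agent.Nodes.Coroot Cfsg.Agent.Nodes.SubComb
open Cfsg.Agent.KFacts.RgdField Cfsg.Agent.KFacts.RgdChevCoord
open Cfsg.Agent.H46.Gen (Rt Pr NN xc_br xc_commute xc_add xc_zero xc_neg NN_sq NN_swap NN_neg)
open Cfsg.Agent.BpExc.Fr Cfsg.Agent.BpExc.LangFr Cfsg.Agent.BpExc.HX
open Cfsg.Agent.H398.RG (Cond MK le_MK conj_MK)

universe u

variable {D : ChevalleyDatum} {l : ℕ} {M : CoxeterMatrix (Fin l)} {hp : IsType D l M} {W : Type*} [Group W]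
  {cs : CoxeterSystem M W} {k : Type u} [Field k]

section Zee

variable {γ γ' : Fin l → ℤ}

variable (hp) in
/-- `x_γ(a) x_γ'(b) x_β(c)` -/
noncomputable def E3 (γ γ' : Fin l → ℤ) (a b c : k) : ↥(D.group k) := xc hp γ a * xc hp γ' b * xc hp (γ + γ') c

variable (Lγ : Lg cs hp.isCartan γ) (Lγ' : Lg cs hp.isCartan γ') (hgg : cpr cs hp.isCartan γ' γ = -1)

include Lγ Lγ' hgg

theorem E3_mul (a b c a' b' c' : k) : E3 hp γ γ' a b c * E3 hp γ γ' a' b' c' =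
    E3 hp γ γ' (a + a') (b + b') (c + c' - (NN D l γ γ' : k) * (a' * b)) := by
  have := finite_W hp cs
  have c1 : ∀ t u : k, xc hp (γ + γ') t * xc hp γ u = xc hp γ u * xc hp (γ + γ') t := fun t u =>
    (commute_left (hp := hp) Lγ Lγ' hgg u t).eq.symm
  have c2 : ∀ t u : k, xc hp (γ + γ') t * xc hp γ' u = xc hp γ' u * xc hp (γ + γ') t := by
    intro t u
    have h1 := commute_left (hp := hp) (k := k) Lγ' Lγ (by rw [Lγ.symm Lγ', hgg]) u t
    rw [add_comm γ' γ] at h1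
    exact h1.eq.symm
  have c3 : xc hp γ' b * xc hp γ a' = xc hp γ a' * xc hp γ' b * xc hp (γ + γ') (-((NN D l γ γ' : k) * (a' * b))) := by
    have h1 := xc_br hp (pr_of hp cs Lγ Lγ' hgg) a' b
    rw [xc_neg, ← h1, commutatorElement_def]
    have h2 : xc hp γ a' * xc hp γ' b * (xc hp γ a' * xc hp γ' b * (xc hp γ a')⁻¹ * (xc hp γ' b)⁻¹)⁻¹ =
      xc hp γ a' * xc hp γ' b * (xc hp γ' b * xc hp γ a' * (xc hp γ' b)⁻¹ * (xc hp γ a')⁻¹) := by group
    rw [h2]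
    have h3 : Commute (xc hp γ a' * xc hp γ' b) (xc hp γ' b * xc hp γ a' * (xc hp γ' b)⁻¹ * (xc hp γ a')⁻¹) := by
      have h4 : xc hp γ' b * xc hp γ a' * (xc hp γ' b)⁻¹ * (xc hp γ a')⁻¹ =
          xc hp (γ + γ') (-((NN D l γ γ' : k) * (a' * b))) := by
        rw [xc_neg, ← h1, commutatorElement_def]
        group
      rw [h4]
      have h5 : Commute (xc hp (γ + γ') (-((NN D l γ γ' : k) * (a' * b)))) (xc hp γ a') := c1 _ _
      have h6 : Commute (xc hp (γ + γ') (-((NN D l γ γ' : k) * (a' * b)))) (xc hp γ' b) := c2 _ _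
      exact (h5.mul_right h6).symm
    rw [h3.eq]
    group
  unfold E3
  have e1 : xc hp γ (a + a') = xc hp γ a * xc hp γ a' := xc_add hp γ a a'
  have e2 : xc hp γ' (b + b') = xc hp γ' b * xc hp γ' b' := xc_add hp γ' b b'
  have e3 : xc hp (γ + γ') (c + c' - (NN D l γ γ' : k) * (a' * b)) =
      xc hp (γ + γ') (-((NN D l γ γ' : k) * (a' * b))) * xc hp (γ + γ') c * xc hp (γ + γ') c' := by
    rw [← xc_add, ← xc_add]
    congr 1
    ring
  rw [e1, e2, e3]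
  calc xc hp γ a * xc hp γ' b * xc hp (γ + γ') c * (xc hp γ a' * xc hp γ' b' * xc hp (γ + γ') c') =
      xc hp γ a * xc hp γ' b * (xc hp (γ + γ') c * xc hp γ a') * xc hp γ' b' * xc hp (γ + γ') c' := by group
    _ = xc hp γ a * (xc hp γ' b * xc hp γ a') * (xc hp (γ + γ') c * xc hp γ' b') * xc hp (γ + γ') c' := by
      rw [c1]; group
    _ = xc hp γ a * (xc hp γ a' * xc hp γ' b * xc hp (γ + γ') (-((NN D l γ γ' : k) * (a' * b)))) *
        (xc hp γ' b' * xc hp (γ + γ') c) * xc hp (γ + γ') c' := by rw [c2, c3]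
    _ = xc hp γ a * xc hp γ a' * xc hp γ' b * (xc hp (γ + γ') (-((NN D l γ γ' : k) * (a' * b))) * xc hp γ' b') *
        xc hp (γ + γ') c * xc hp (γ + γ') c' := by group
    _ = _ := by rw [c2]; group

omit Lγ Lγ' hgg in
theorem E3_zero : E3 hp γ γ' (0 : k) 0 0 = 1 := by
  unfold E3
  rw [xc_zero, xc_zero, xc_zero, mul_one, mul_one]

omit Lγ Lγ' hgg in
theorem E3_beta (c : k) : E3 hp γ γ' 0 0 c = xc hp (γ + γ') c := by
  unfold E3
  rw [xc_zero, xc_zero, one_mul, one_mul]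

theorem E3_inv (a b c : k) : (E3 hp γ γ' a b c)⁻¹ = E3 hp γ γ' (-a) (-b) (-c - (NN D l γ γ' : k) * (a * b)) := by
  rw [inv_eq_iff_mul_eq_one, E3_mul Lγ Lγ' hgg, ← E3_zero (hp := hp) (γ := γ) (γ' := γ')]
  congr 1 <;> ring

/-- a change of the last parameter -/
theorem E3_eq (a b c c' : k) : E3 hp γ γ' a b c = E3 hp γ γ' a b c' * xc hp (γ + γ') (c - c') := by
  rw [← E3_beta (hp := hp), E3_mul Lγ Lγ' hgg]
  congr 1 <;> ring

/-- the commutator -/
theorem E3_comm (a b c a' b' c' : k) : ⁅E3 hp γ γ' a b c, E3 hp γ γ' a' b' c'⁆ =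
    xc hp (γ + γ') ((NN D l γ γ' : k) * (a * b' - a' * b)) := by
  rw [commutatorElement_def, E3_inv Lγ Lγ' hgg, E3_inv Lγ Lγ' hgg, E3_mul Lγ Lγ' hgg, E3_mul Lγ Lγ' hgg, E3_mul Lγ Lγ' hgg,
    ← E3_beta (hp := hp)]
  congr 1 <;> ring

end Zee

section zelt

open Cfsg.Agent.H167.EX (ph ph_up ph_lo wS_sq hS_neg_sq)
open Cfsg.Agent.Nodes.RGDFoldSL (wS hS psi_hS)
open Cfsg.Agent.ChevalleyStructure.SL2Hom (up lo)
open Cfsg.Agent.H469.Exc.SigFr

/-- the element `h_β(-1)` -/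
theorem exists_zelt {β : Fin l → ℤ} (hβ : IsRoot cs hp.isCartan β) : ∃ z : ↥(D.group k),
    (∀ t : k, t ≠ 0 → (xc hp β t * xc hp (-β) (-t⁻¹) * xc hp β t) ^ 2 = z) ∧ z ^ 2 = 1 ∧
    ∀ v, IsRoot cs hp.isCartan v → ∀ u : k, z * xc hp v u * z⁻¹ = xc hp v ((-1 : k) ^ (cpr cs hp.isCartan v β) * u) := by
  obtain ⟨s, hs, rfl⟩ := (isRoot_iff hp cs β).1 hβ
  have e1 : ∀ t : k, ph hp k hs (up t) = xc hp (vec D l s) t := fun t => by
    rw [ph_up]
    exact Subtype.ext (coe_xc hp hs t).symm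
  have e2 : ∀ t : k, ph hp k hs (lo t) = xc hp (-vec D l s) t := fun t => by
    rw [ph_lo, ← vec_neg hp hs]
    exact Subtype.ext (coe_xc hp (neg_lt hp.inList hs) t).symm
  refine ⟨ph hp k hs (hS (-1)), fun t ht => ?_, ?_, ?_⟩
  · have e4 : up t * lo (-t⁻¹) * up t = wS t := mul_assoc _ _ _
    rw [← e1, ← e2, ← map_mul, ← map_mul, ← map_pow, e4, wS_sq ht]
  · rw [← map_pow, hS_neg_sq, map_one]
  · intro v hv u
    obtain ⟨s', hs', rfl⟩ := (isRoot_iff hp cs v).1 hv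
    apply Subtype.ext
    rw [Subgroup.coe_mul, Subgroup.coe_mul, Subgroup.coe_inv, coe_xc hp hs', coe_xc hp hs']
    have e3 : ((ph hp k hs (hS (-1)) : ↥(D.group k)) : GL D.Idx k) = hG hp.inList s (-1) := psi_hS hp.inList hs (-1)
    rw [e3, Cfsg.Agent.H412.OT.hG_conj_xG hp.inList hs hs' (neg_ne_zero.2 one_ne_zero),
      Cfsg.Agent.H3.OT.cpr_vec' hp cs hs hs']

end zelt

variable {α : MulAut ↥(D.group k)} {θ : (Fin l → ℤ) ≃+ (Fin l → ℤ)} {r e : ℕ} [Fact r.Prime] [CharP k r]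
  {γ γ' : Fin l → ℤ}

theorem NN_one {a b : Fin l → ℤ} (h : Pr D l a b) (hp : IsType D l M) : (NN D l a b : k) * (NN D l a b : k) = 1 := by
  rw [← Int.cast_mul, NN_sq hp h, Int.cast_one]

/-- the coefficients of `α` on `X_β` and `X_(-β)` are inverse to each other -/
theorem coef_mul [IsAlgClosed k] (hσ : IsFrob r e α) (he : r ^ e = r) (F : Fr cs hp.isCartan (TT D k) (XX D l k) α θ)
    (Lγ : Lg cs hp.isCartan γ) (Lγ' : Lg cs hp.isCartan γ') (hgg : cpr cs hp.isCartan γ' γ = -1)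
    (h2 : θ γ = γ') (h3 : θ γ' = γ) : ∃ cb cm : k, cb * cm = 1 ∧
      (∀ t, α (xc hp (γ + γ') t) = xc hp (γ + γ') (cb * t ^ r)) ∧
      ∀ t, α (xc hp (-(γ + γ')) t) = xc hp (-(γ + γ')) (cm * t ^ r) := by
  have := finite_W hp cs
  have Lβ : Lg cs hp.isCartan (γ + γ') := Lγ.add Lγ' hgg
  have hgg' : cpr cs hp.isCartan γ γ' = -1 := by rw [Lγ.symm Lγ', hgg]
  have g1 : cpr cs hp.isCartan γ (γ + γ') = 1 := by
    rw [Lγ.symm Lβ, cpr_add _ _ _ _ Lγ.1, cpr_self _ _ Lγ.1, hgg]; norm_num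
  have g2 : cpr cs hp.isCartan γ' (γ + γ') = 1 := by
    rw [Lγ'.symm Lβ, cpr_add _ _ _ _ Lγ'.1, cpr_self _ _ Lγ'.1, hgg']; norm_num
  have h1 : θ (γ + γ') = γ + γ' := by rw [map_add, h2, h3, add_comm]
  obtain ⟨cb, hcb, hcb1⟩ := fr_xc hp cs hσ F Lβ.1
  obtain ⟨cm, hcm, hcm1⟩ := fr_xc hp cs hσ F Lβ.neg.1
  obtain ⟨c, hc, hc1⟩ := fr_xc hp cs hσ F Lγ.1
  obtain ⟨cn, hcn, hcn1⟩ := fr_xc hp cs hσ F Lγ'.neg.1
  simp only [he, h1] at hcb1
  simp only [he, map_neg, h1] at hcm1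
  simp only [he, h2] at hc1
  simp only [he, map_neg, h3] at hcn1
  refine ⟨cb, cm, ?_, hcb1, hcm1⟩
  have p1 : Pr D l (-(γ + γ')) γ := pr_of hp cs Lβ.neg Lγ (by rw [cpr_neg_right _ _ _ Lβ.1, g1])
  have p2 : Pr D l (-(γ + γ')) γ' := pr_of hp cs Lβ.neg Lγ' (by rw [cpr_neg_right _ _ _ Lβ.1, g2])
  have w1 : -(γ + γ') + γ = -γ' := by abel
  have w2 : -(γ + γ') + γ' = -γ := by abel
  have w3 : γ + γ' + -γ' = γ := by abel
  have w4 : γ + γ' + -γ = γ' := by abel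
  have p3 : Pr D l (γ + γ') (-γ') := by
    have := p1.next hp
    rwa [neg_neg, w1] at this
  have p4 : Pr D l (γ + γ') (-γ) := by
    have := p2.next hp
    rwa [neg_neg, w2] at this
  have n3 : _root_.Cfsg.Agent.H46.Gen.NN D l (γ + γ') (-γ') = _root_.Cfsg.Agent.H46.Gen.NN D l (-(γ + γ')) γ := by
    have := NN_neg hp p1
    rwa [neg_neg, w1] at this
  have n4 : _root_.Cfsg.Agent.H46.Gen.NN D l (γ + γ') (-γ) = _root_.Cfsg.Agent.H46.Gen.NN D l (-(γ + γ')) γ' := by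
    have := NN_neg hp p2
    rwa [neg_neg, w2] at this
  -- first relation
  have e1 := congrArg α (xc_br hp p1 (1 : k) 1)
  rw [map_commutatorElement, hcm1, hc1, xc_br hp p2, w1, w2, hcn1] at e1
  have f1 := xc_inj' (hp := hp) Lγ.neg.1 e1
  -- second relation
  have e2 := congrArg α (xc_br hp p3 (1 : k) 1)
  rw [map_commutatorElement, hcb1, hcn1, xc_br hp p4, w3, w4, hc1] at e2
  have f2 := xc_inj' (hp := hp) Lγ'.1 e2
  rw [n3, n4] at f2
  have q1 := NN_one (k := k) p1 hp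
  have q2 := NN_one (k := k) p2 hp
  obtain ⟨x, hx⟩ : ∃ x : k, x = (NN D l (-(γ + γ')) γ : k) := ⟨_, rfl⟩
  obtain ⟨y, hy⟩ : ∃ y : k, y = (NN D l (-(γ + γ')) γ' : k) := ⟨_, rfl⟩
  rw [← hx, ← hy] at f1 f2
  rw [← hx] at q1
  rw [← hy] at q2
  simp only [one_pow, mul_one] at f1 f2
  have q3 : x ^ r * x ^ r = 1 := by rw [← mul_pow, q1, one_pow]
  have f3 : (c * cn) * (cb * cm) = (c * cn) * 1 := by
    have : (y * (cm * c)) * (y * (cb * cn)) = (cn * x ^ r) * (c * x ^ r) := by rw [f1, f2]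
    calc (c * cn) * (cb * cm) = (y * y) * ((c * cn) * (cb * cm)) := by rw [q2, one_mul]
      _ = (y * (cm * c)) * (y * (cb * cn)) := by ring
      _ = (cn * x ^ r) * (c * x ^ r) := this
      _ = (c * cn) * (x ^ r * x ^ r) := by ring
      _ = (c * cn) * 1 := by rw [q3]
  exact mul_left_cancel₀ (mul_ne_zero hc hcn) f3

theorem xc_zpow (v : Fin l → ℤ) (a : k) (n : ℤ) : xc hp v (n * a) = xc hp v a ^ n := by
  have h1 : ∀ m : ℕ, xc hp v (m * a) = xc hp v a ^ m := by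
    intro m
    induction m with
    | zero => rw [Nat.cast_zero, zero_mul, pow_zero, xc_zero]
    | succ m ih => rw [Nat.cast_succ, add_mul, one_mul, xc_add, ih, pow_succ]
  obtain ⟨m, rfl | rfl⟩ := n.eq_nat_or_neg
  · rw [Int.cast_natCast, zpow_natCast, h1]
  · rw [Int.cast_neg, Int.cast_natCast, neg_mul, xc_neg, h1, zpow_neg, zpow_natCast]

theorem exists_cubic [IsAlgClosed k] {c : k} (hc : c ≠ 0) (ν : k) : ∃ κ : k, c * κ ^ 3 - ν = κ := by
  open Polynomial in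
  obtain ⟨κ, hκ⟩ := IsAlgClosed.exists_root (C c * X ^ 3 - X - C ν : Polynomial k) (by
    have h1 : (C c * X ^ 3 - X - C ν : Polynomial k).natDegree = 3 := by
      compute_degree!
    have h2 : (C c * X ^ 3 - X - C ν : Polynomial k) ≠ 0 := by
      intro h
      rw [h, Polynomial.natDegree_zero] at h1
      omega
    rw [Polynomial.degree_eq_natDegree h2, h1]
    exact_mod_cast (by norm_num : (3 : ℕ) ≠ 0))
  refine ⟨κ, ?_⟩
  rw [Polynomial.IsRoot.def] at hκ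
  simp only [Polynomial.eval_sub, Polynomial.eval_mul, Polynomial.eval_C, Polynomial.eval_pow, Polynomial.eval_X] at hκ
  linear_combination hκ

/-- **(Z)**: the condition on the base pair for components with `β = γ + θγ`, `q = 3`. -/
theorem condZ [IsAlgClosed k] (hr3 : r = 3) (hσ : IsFrob r e α) (he : r ^ e = r)
    (F : Fr cs hp.isCartan (TT D k) (XX D l k) α θ)
    (Lγ : Lg cs hp.isCartan γ) (Lγ' : Lg cs hp.isCartan γ') (hgg : cpr cs hp.isCartan γ' γ = -1)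
    (h2 : θ γ = γ') (h3 : θ γ' = γ) {K X₀ Y₀ : Subgroup ↥(D.group k)}
    (hX₀ : ∀ u, u ∈ X₀ ↔ u ∈ XX D l k (γ + γ') ∧ α u = u) (hY₀ : ∀ u, u ∈ Y₀ ↔ u ∈ XX D l k (-(γ + γ')) ∧ α u = u)
    (hYM : Y₀ ≤ MK K X₀)
    (hK : ∀ g₁ ∈ XX D l k γ, ∀ g₂ ∈ XX D l k γ', ∀ g₃ ∈ XX D l k (γ + γ'), α (g₁ * g₂ * g₃) = g₁ * g₂ * g₃ →
      g₁ * g₂ * g₃ ∈ K) : Cond K X₀ Y₀ := by
  subst hr3
  have := finite_W hp cs
  have hthree : ∀ a : k, a + a + a = 0 := by
    intro a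
    have h4 : ((3 : ℕ) : k) = 0 := CharP.cast_eq_zero k 3
    have h5 : a + a + a = ((3 : ℕ) : k) * a := by push_cast; ring
    rw [h5, h4, zero_mul]
  have hgg' : cpr cs hp.isCartan γ γ' = -1 := by rw [Lγ.symm Lγ', hgg]
  have Lβ : Lg cs hp.isCartan (γ + γ') := Lγ.add Lγ' hgg
  have g1 : cpr cs hp.isCartan γ (γ + γ') = 1 := by
    rw [Lγ.symm Lβ, cpr_add _ _ _ _ Lγ.1, cpr_self _ _ Lγ.1, hgg]; norm_num
  have g2 : cpr cs hp.isCartan γ' (γ + γ') = 1 := by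
    rw [Lγ'.symm Lβ, cpr_add _ _ _ _ Lγ'.1, cpr_self _ _ Lγ'.1, hgg']; norm_num
  obtain ⟨cb, cm, hcc, hb, hm⟩ := coef_mul (hp := hp) hσ he F Lγ Lγ' hgg h2 h3
  have hcb : cb ≠ 0 := by
    rintro rfl
    rw [zero_mul] at hcc
    exact zero_ne_one hcc
  obtain ⟨c, hc, hc1⟩ := fr_xc hp cs hσ F Lγ.1
  obtain ⟨c', hc', hc1'⟩ := fr_xc hp cs hσ F Lγ'.1
  simp only [he, h2] at hc1
  simp only [he, h3] at hc1'
  obtain ⟨ν, hν⟩ : ∃ ν : k, ν = (NN D l γ γ' : k) := ⟨_, rfl⟩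
  have hν0 : ν ≠ 0 := by
    rw [hν]
    exact NN_ne (hp := hp) (pr_of hp cs Lγ Lγ' hgg)
  -- the torus element
  obtain ⟨t, ht, ht0⟩ : ∃ t : k, cb * t ^ 3 = t ∧ t ≠ 0 := by
    obtain ⟨S, hS, hS'⟩ := exists_roots (Q := 3) (r := 3) (by norm_num) dvd_rfl hcb
    by_contra hcon
    push Not at hcon
    have h1 : S ⊆ {0} := fun t ht => by rw [Finset.mem_singleton]; exact hcon t (hS' t ht)
    have h2 := Finset.card_le_card h1
    rw [hS, Finset.card_singleton] at h2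
    omega
  have hcb2 : cb * t ^ 2 = 1 := by
    apply mul_right_cancel₀ ht0
    rw [one_mul, mul_assoc, ← pow_succ]
    exact ht
  have hcm : cm = t ^ 2 := by
    apply mul_left_cancel₀ hcb
    rw [hcc, hcb2]
  obtain ⟨z, hz1, hz2, hz3⟩ := exists_zelt (k := k) (hp := hp) (cs := cs) Lβ.1
  obtain ⟨x₁, hx₁⟩ : ∃ x₁ : ↥(D.group k), x₁ = xc hp (γ + γ') t := ⟨_, rfl⟩
  obtain ⟨y₁, hy₁⟩ : ∃ y₁ : ↥(D.group k), y₁ = xc hp (-(γ + γ')) (-t⁻¹) := ⟨_, rfl⟩
  have hx₁α : α x₁ = x₁ := by rw [hx₁, hb, ht]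
  have hy₁α : α y₁ = y₁ := by
    rw [hy₁, hm, hcm]
    congr 1
    field_simp
    try ring
  have hx₁X : x₁ ∈ X₀ := (hX₀ _).2 ⟨by rw [hx₁]; exact (mem_XX_iff (hp := hp) Lβ.1).2 ⟨t, rfl⟩, hx₁α⟩
  have hy₁Y : y₁ ∈ Y₀ := (hY₀ _).2 ⟨by rw [hy₁]; exact (mem_XX_iff (hp := hp) Lβ.neg.1).2 ⟨_, rfl⟩, hy₁α⟩
  have hx₁M : x₁ ∈ MK K X₀ := le_MK K X₀ hx₁X
  have hy₁M : y₁ ∈ MK K X₀ := hYM hy₁Y
  have hw2 : (x₁ * y₁ * x₁) ^ 2 = z := by rw [hx₁, hy₁]; exact hz1 t ht0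
  have hzM : z ∈ MK K X₀ := by
    rw [← hw2]
    exact Subgroup.pow_mem _ (Subgroup.mul_mem _ (Subgroup.mul_mem _ hx₁M hy₁M) hx₁M) 2
  have hzα : α z = z := by
    rw [← hw2, map_pow, map_mul, map_mul, hx₁α, hy₁α]
  have hzE : ∀ a b κ : k, z * E3 hp γ γ' a b κ * z⁻¹ = E3 hp γ γ' (-a) (-b) κ := by
    intro a b κ
    have k1 := hz3 γ Lγ.1 a
    have k2 := hz3 γ' Lγ'.1 b
    have k3 := hz3 (γ + γ') Lβ.1 κ
    rw [g1, zpow_one, neg_one_mul] at k1
    rw [g2, zpow_one, neg_one_mul] at k2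
    rw [cpr_self _ _ Lβ.1] at k3
    have k4 : ((-1 : k) ^ (2 : ℤ)) * κ = κ := by
      rw [show (2 : ℤ) = ((2 : ℕ) : ℤ) from rfl, zpow_natCast]
      ring
    rw [k4] at k3
    unfold E3
    rw [← k1, ← k2]
    conv_rhs => rw [← k3]
    group
  have hαE : ∀ a b κ : k, α (E3 hp γ γ' a b κ) =
      E3 hp γ γ' (c' * b ^ 3) (c * a ^ 3) (cb * κ ^ 3 - ν * (c' * b ^ 3 * (c * a ^ 3))) := by
    intro a b κ
    have k1 : α (E3 hp γ γ' a b κ) = E3 hp γ γ' 0 (c * a ^ 3) 0 * E3 hp γ γ' (c' * b ^ 3) 0 0 *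
        E3 hp γ γ' 0 0 (cb * κ ^ 3) := by
      unfold E3
      rw [map_mul, map_mul, hc1, hc1', hb]
      simp only [xc_zero, one_mul, mul_one]
    rw [k1, E3_mul Lγ Lγ' hgg, E3_mul Lγ Lγ' hgg, hν]
    (with_reducible congr 1) <;> ring
  -- the fixed elements
  have hex : ∀ a : k, c' * c ^ 3 * a ^ (3 ^ 2) = a → ∃ κ, α (E3 hp γ γ' a (c * a ^ 3) κ) = E3 hp γ γ' a (c * a ^ 3) κ := by
    intro a ha
    have ha' : c' * (c * a ^ 3) ^ 3 = a := by
      have ha2 : c' * (c * a ^ 3) ^ 3 = c' * c ^ 3 * a ^ (3 ^ 2) := by ring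
      rw [ha2, ha]
    obtain ⟨κ, hκ⟩ := exists_cubic hcb (ν * (a * (c * a ^ 3)))
    refine ⟨κ, ?_⟩
    rw [hαE, ha', hκ]
  have hKE : ∀ a b κ : k, α (E3 hp γ γ' a b κ) = E3 hp γ γ' a b κ → E3 hp γ γ' a b κ ∈ K := fun a b κ h =>
    hK _ ((mem_XX_iff (hp := hp) Lγ.1).2 ⟨a, rfl⟩) _ ((mem_XX_iff (hp := hp) Lγ'.1).2 ⟨b, rfl⟩) _
      ((mem_XX_iff (hp := hp) Lβ.1).2 ⟨κ, rfl⟩) h
  -- `[z, e]`
  have hf : ∀ a b κ : k, z * E3 hp γ γ' a b κ * z⁻¹ * (E3 hp γ γ' a b κ)⁻¹ = E3 hp γ γ' a b (ν * (a * b)) := by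
    intro a b κ
    rw [hzE, E3_inv Lγ Lγ' hgg, E3_mul Lγ Lγ' hgg, ← hν]
    (with_reducible congr 1)
    · linear_combination -hthree a
    · linear_combination -hthree b
    · linear_combination -hthree (ν * (a * b))
  have heM : ∀ a b κ : k, α (E3 hp γ γ' a b κ) = E3 hp γ γ' a b κ → E3 hp γ γ' a b κ ∈ MK K X₀ := by
    intro a b κ h
    have k1 := hKE a b κ h
    have k2 : z * (E3 hp γ γ' a b κ * z⁻¹ * (E3 hp γ γ' a b κ)⁻¹) ∈ MK K X₀ :=
      Subgroup.mul_mem _ hzM (conj_MK k1 (Subgroup.inv_mem _ hzM))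
    have k3 : z * (E3 hp γ γ' a b κ * z⁻¹ * (E3 hp γ γ' a b κ)⁻¹) = E3 hp γ γ' a b (ν * (a * b)) := by
      rw [← hf a b κ]
      group
    have k4 := E3_eq (hp := hp) Lγ Lγ' hgg a b κ (ν * (a * b))
    have k5 : α (xc hp (γ + γ') (κ - ν * (a * b))) = xc hp (γ + γ') (κ - ν * (a * b)) := by
      have k6 : xc hp (γ + γ') (κ - ν * (a * b)) = (E3 hp γ γ' a b (ν * (a * b)))⁻¹ * E3 hp γ γ' a b κ := by
        rw [k4]; group
      rw [k6, ← k3]
      simp only [map_mul, map_inv, hzα, h]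
    rw [k4]
    refine Subgroup.mul_mem _ ?_ (le_MK K X₀ ((hX₀ _).2 ⟨(mem_XX_iff (hp := hp) Lβ.1).2 ⟨_, rfl⟩, k5⟩))
    rw [← k3]
    exact k2
  -- the normal subgroup
  intro N hNM hN hY
  suffices hsuff : ∀ u ∈ XX D l k (γ + γ'), α u = u → u ∈ N from fun u hu => hsuff u ((hX₀ u).1 hu).1 ((hX₀ u).1 hu).2
  obtain ⟨x₂, hx₂, n₂, hn₂, hy⟩ := hY y₁ hy₁Y
  have hw4 : (x₁ * y₁ * x₁) ^ 4 = 1 := by
    rw [show (4 : ℕ) = 2 * 2 from rfl, pow_mul, hw2, hz2]
  have hwN : x₁ * y₁ * x₁ ∈ N := by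
    obtain ⟨x₃, hx₃⟩ : ∃ x₃, x₃ = x₁ * x₂ * x₁ := ⟨_, rfl⟩
    obtain ⟨n₃, hn₃⟩ : ∃ n₃, n₃ = x₁⁻¹ * n₂ * x₁⁻¹⁻¹ := ⟨_, rfl⟩
    have hn₃N : n₃ ∈ N := by
      rw [hn₃]
      exact hN _ (Subgroup.inv_mem _ hx₁M) _ hn₂
    have hx₃X : x₃ ∈ X₀ := by
      rw [hx₃]
      exact Subgroup.mul_mem _ (Subgroup.mul_mem _ hx₁X hx₂) hx₁X
    have hx₃M : x₃ ∈ MK K X₀ := le_MK K X₀ hx₃X
    have hw : x₁ * y₁ * x₁ = x₃ * n₃ := by
      rw [hx₃, hn₃, hy]
      group
    have hx₃3 : x₃ ^ 3 = 1 := by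
      obtain ⟨τ, hτ⟩ := (mem_XX_iff (hp := hp) Lβ.1).1 ((hX₀ _).1 hx₃X).1
      rw [hτ, pow_succ, pow_two, ← xc_add, ← xc_add, hthree, xc_zero]
    have hw3 : (x₃ * n₃) ^ 3 ∈ N := by
      have e1 : (x₃ * n₃) ^ 3 = x₃ ^ 3 * ((x₃⁻¹ * (x₃⁻¹ * n₃ * x₃⁻¹⁻¹) * x₃⁻¹⁻¹) * (x₃⁻¹ * n₃ * x₃⁻¹⁻¹) * n₃) := by
        rw [pow_succ, pow_two, pow_succ, pow_two]
        group
      have hi := Subgroup.inv_mem _ hx₃M
      rw [e1, hx₃3, one_mul]
      exact N.mul_mem (N.mul_mem (hN _ hi _ (hN _ hi _ hn₃N)) (hN _ hi _ hn₃N)) hn₃N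
    rw [hw] at hw4 ⊢
    have e2 : x₃ * n₃ = (x₃ * n₃) ^ 4 * ((x₃ * n₃) ^ 3)⁻¹ := by group
    rw [e2, hw4, one_mul]
    exact N.inv_mem hw3
  have hzN : z ∈ N := by
    rw [← hw2]
    exact N.pow_mem hwN 2
  -- the final commutator
  have hu : c' * c ^ 3 ≠ 0 := mul_ne_zero hc' (pow_ne_zero _ hc)
  obtain ⟨a, ha, ha1⟩ := exists_adm (Q := 3) (r := 3) (by norm_num) dvd_rfl hu (one_ne_zero (α := k)) 0
  have ha0 : a ≠ 0 := by
    rintro rfl
    apply ha1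
    ring
  obtain ⟨a', ha', ha'1⟩ := exists_adm (Q := 3) (r := 3) (by norm_num) dvd_rfl hu
    (mul_ne_zero hν0 (mul_ne_zero ha0 hc)) (-(ν * (c * a ^ 3)))
  obtain ⟨κ, hκ⟩ := hex a ha
  obtain ⟨κ', hκ'⟩ := hex a' ha'
  have hfN : E3 hp γ γ' a (c * a ^ 3) (ν * (a * (c * a ^ 3))) ∈ N := by
    rw [← hf a (c * a ^ 3) κ]
    have k1 : z * E3 hp γ γ' a (c * a ^ 3) κ * z⁻¹ * (E3 hp γ γ' a (c * a ^ 3) κ)⁻¹ =
      z * (E3 hp γ γ' a (c * a ^ 3) κ * z⁻¹ * (E3 hp γ γ' a (c * a ^ 3) κ)⁻¹) := by group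
    rw [k1]
    exact N.mul_mem hzN (hN _ (heM _ _ _ hκ) _ (N.inv_mem hzN))
  have hfα : α (E3 hp γ γ' a (c * a ^ 3) (ν * (a * (c * a ^ 3)))) = E3 hp γ γ' a (c * a ^ 3) (ν * (a * (c * a ^ 3))) := by
    rw [← hf a (c * a ^ 3) κ]
    simp only [map_mul, map_inv, hzα, hκ]
  obtain ⟨τ₀, hτ₀⟩ : ∃ τ₀ : k, τ₀ = ν * (a * (c * a' ^ 3) - a' * (c * a ^ 3)) := ⟨_, rfl⟩
  have hτ₀0 : τ₀ ≠ 0 := by
    intro h0
    apply ha'1
    rw [← h0, hτ₀]
    ring
  have hcomm : ⁅E3 hp γ γ' a (c * a ^ 3) (ν * (a * (c * a ^ 3))), E3 hp γ γ' a' (c * a' ^ 3) κ'⁆ =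
      xc hp (γ + γ') τ₀ := by
    rw [E3_comm Lγ Lγ' hgg, ← hν, hτ₀]
  have hτN : xc hp (γ + γ') τ₀ ∈ N := by
    rw [← hcomm, commutatorElement_def]
    have k1 := hN _ (heM _ _ _ hκ') _ (N.inv_mem hfN)
    have k2 := N.mul_mem hfN k1
    have k3 : ∀ f e' : ↥(D.group k), f * e' * f⁻¹ * e'⁻¹ = f * (e' * f⁻¹ * e'⁻¹) := fun f e' => by group
    rw [k3]
    exact k2
  have hτα : α (xc hp (γ + γ') τ₀) = xc hp (γ + γ') τ₀ := by
    rw [← hcomm, map_commutatorElement, hfα, hκ']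
  intro u hu huα
  obtain ⟨τ, rfl⟩ := (mem_XX_iff (hp := hp) Lβ.1).1 hu
  rw [hb] at huα hτα
  obtain ⟨n, hn⟩ := multiple_of_fix (r := 3) hτ₀0 (xc_inj' (hp := hp) Lβ.1 huα) (xc_inj' (hp := hp) Lβ.1 hτα)
  rw [hn, xc_zpow]
  exact N.zpow_mem hτN n

/-- **(Z)** in terms of `β` and `a`, `a + θ a = β`. -/
theorem condZ_lg [IsAlgClosed k] (hr3 : r = 3) (hσ : IsFrob r e α) (he : r ^ e = r)
    (F : Fr cs hp.isCartan (TT D k) (XX D l k) α θ) {β a : Fin l → ℤ}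
    (Lβ : Lg cs hp.isCartan β) (La : Lg cs hp.isCartan a) (haβ : cpr cs hp.isCartan a β = 1)
    (h1 : θ β = β) (h2 : a + θ a = β) {K X₀ Y₀ : Subgroup ↥(D.group k)}
    (hX₀ : ∀ u, u ∈ X₀ ↔ u ∈ XX D l k β ∧ α u = u) (hY₀ : ∀ u, u ∈ Y₀ ↔ u ∈ XX D l k (-β) ∧ α u = u)
    (hYM : Y₀ ≤ MK K X₀)
    (hK : ∀ g₁ ∈ XX D l k a, ∀ g₂ ∈ XX D l k (θ a), ∀ g₃ ∈ XX D l k β, α (g₁ * g₂ * g₃) = g₁ * g₂ * g₃ →
      g₁ * g₂ * g₃ ∈ K) : Cond K X₀ Y₀ := by
  have := finite_W hp cs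
  have e1 : θ a = β + -a := by rw [← h2]; abel
  have hβa : cpr cs hp.isCartan β a = 1 := by rw [Lβ.symm La, haβ]
  have e2 : cpr cs hp.isCartan (-a) β = -1 := by rw [cpr_neg _ _ _ Lβ.1, haβ]
  have La' : Lg cs hp.isCartan (θ a) := by
    rw [e1]
    exact Lβ.add La.neg e2
  have hgg : cpr cs hp.isCartan (θ a) a = -1 := by
    rw [e1, cpr_add _ _ _ _ La.1, cpr_neg _ _ _ La.1, cpr_self _ _ La.1, hβa]
    norm_num
  have h3 : θ (θ a) = a := by
    have h4 : θ (a + θ a) = β := by rw [h2, h1]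
    rw [map_add, ← h2, add_comm a] at h4
    exact add_left_cancel h4
  subst h2
  exact condZ (hp := hp) hr3 hσ he F La La' hgg rfl h3 hX₀ hY₀ hYM hK

end Cfsg.Agent.H380.RG
end

private theorem dce_25451c69c55b : _root_.True := by
  try have : _root_.True := by simp only [_root_.Cfsg.Agent.H380.RG.E3.congr_simp]
  exact _root_.True.intro
end

-- part: H866/TD/Cls
section
prune_inst 0x70103d040462100000180000e2001c06f600059000288801c8200b400c80ef0028028921bcb0100a902022cc603c0068135c0560c20000000a200400013c068910a80002a0080000020080000004400000000000000000000000000000000000000400000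
set_option linter.all false
open scoped Cfsg.Agent.FastGrp

/-!
# S3509, `³D₄(q)`: the classes of outer automorphisms of order three, `3 ∤ q` (helper866)

* `classes` : an automorphism of order three which is not inner is conjugate to `st q τ` or to
  `conj (Φ₀ A) * st q τ`, `A ∈ SL₂(F_q)`, `A ^ 3 = 1`, `A ≠ 1`, `τ ≠ 1`.
-/

set_option autoImplicit false
set_option linter.unusedSectionVars false
set_option maxHeartbeats 400000

namespace Cfsg.Agent.H866.TD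

open CoxeterSystem Cfsg.Agent.ChevalleyStructure.CoxeterGeom Cfsg.Agent.Tits.Roots Cfsg.Agent.Tits.Core
  Cfsg.Agent.Tits.Exchange Cfsg.Agent.Nodes.Reps Cfsg.Agent.Nodes.BNOf Cfsg.Agent.Nodes.StabComb
  Cfsg.Agent.Nodes.Bruhat Cfsg.Agent.Nodes.OppDec Cfsg.Agent.Nodes.LeviDec Cfsg.Agent.Nodes.RGDTwGen
  Cfsg.Agent.Nodes.RGDChev Cfsg.Agent.Nodes.RGDFold Cfsg.Agent.Nodes.RGDFoldSL
open Cfsg.Agent.KFacts.RgdOpp Cfsg.Agent.KFacts.RgdAut Cfsg.Agent.KFacts.RgdDiag Cfsg.Agent.KFacts.RgdRigid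
  Cfsg.Agent.KFacts.RgdField Cfsg.Agent.KFacts.RgdTau Cfsg.Agent.KFacts.RgdNodes
open Cfsg.Lie Cfsg.Agent.ChevalleyStructure Cfsg.Agent.ChevalleyStructure.Elts
open Cfsg.Agent.ChevalleyStructure.SL2Hom (up lo mem_closure_SL2)
open Cfsg.Agent.KFacts.TwDFour.Out
open Cfsg.Agent.Nodes.RGDTwD4 Cfsg.Agent.Nodes.RGDTwNode.D4
open Cfsg.Agent.CpAut.RgdFix Cfsg.Agent.CpAut.RgdConj Cfsg.Agent.CpAut.RgdTwStd Cfsg.Agent.CpAut.RgdTwD4
open Cfsg.Agent.H28.FamFour (st_mul st_one)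
open Cfsg.Agent.H866.D4Wf.Frame Cfsg.Agent.H866.D4Wf.SLThree

variable {K : Type} [Field K] [Fintype K] {q : ℕ} (hK : Fintype.card K = q ^ 3)
  {φ : K →+* K} (hφ : ∀ x, φ x = x ^ q)

/-- Hilbert 90 for an automorphism of order three -/
theorem hilbert {σ : K ≃+* K} (hσ : ∀ a, σ (σ (σ a)) = a) (hne : ∃ a, σ a ≠ a) {c : K}
    (hc : c * σ c * σ (σ c) = 1) : ∃ u : K, u ≠ 0 ∧ c * σ u = u := by
  obtain ⟨l, hl⟩ := exists_indep hσ hne c (c * σ c)
  refine ⟨_, hl, ?_⟩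
  simp only [map_add, map_mul, hσ]
  linear_combination l * hc

include hK in
/-- the scalars of the short root group -/
theorem exists_T (hq : IsPrimePow q) {u : K} (hu : u ≠ 0) : ∃ s ∈ T K q, (chD hφ hK 1 s : K) = u := by
  obtain ⟨e, he⟩ : ∃ e : KD φ 1, (e : K) = (u ^ ((q ^ 2 + q) / 2))⁻¹ := ⟨⟨_, mem_KD1 hK hφ _⟩, rfl⟩
  have hNf : φ (u ^ (q ^ 2 + q + 1))⁻¹ = (u ^ (q ^ 2 + q + 1))⁻¹ := by
    rw [map_inv₀, hφ, ← pow_mul]
    congr 1
    have h1 : (q ^ 2 + q + 1) * q = Fintype.card K - 1 + (q ^ 2 + q + 1) := by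
      rw [hK]
      have h2 : 1 ≤ q ^ 3 := Nat.one_le_pow _ _ hq.pos
      have h3 : (q ^ 2 + q + 1) * q = q ^ 3 + q ^ 2 + q := by ring
      omega
    rw [h1, pow_add, FiniteField.pow_card_sub_one_eq_one u hu, one_mul]
  obtain ⟨d, hd⟩ : ∃ d : KD φ 0, (d : K) = (u ^ (q ^ 2 + q + 1))⁻¹ := ⟨⟨_, mem_Fx.2 hNf⟩, rfl⟩
  have he0 : e ≠ 0 := by
    intro h
    rw [h] at he
    exact inv_ne_zero (pow_ne_zero _ hu) he.symm
  have hd0 : d ≠ 0 := by
    intro h
    rw [h] at hd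
    exact inv_ne_zero (pow_ne_zero _ hu) hd.symm
  refine ⟨PhiD hφ hK 1 (hS e) * PhiD hφ hK 0 (hS d), mul_mem (PhiD_hS hφ hK 1 e he0) (PhiD_hS hφ hK 0 d hd0), ?_⟩
  rw [ch_mul hK hφ (PhiD_hS hφ hK 1 e he0) (PhiD_hS hφ hK 0 d hd0)]
  show (chD hφ hK 1 (PhiD hφ hK 1 (hS e)) : K) * (chD hφ hK 1 (PhiD hφ hK 0 (hS d)) : K) = u
  rw [ch01 hφ hK d hd0, chD_hS hφ hK 1 e he0, hd, inv_inv]
  show (e : K) ^ 2 * _ = u
  have h2 : (q ^ 2 + q) / 2 * 2 = q ^ 2 + q := by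
    apply Nat.div_mul_cancel
    have h3 : q ^ 2 + q = q * (q + 1) := by ring
    rw [h3]
    exact (Nat.even_mul_succ_self q).two_dvd
  rw [he, inv_pow, ← pow_mul, h2, pow_succ (n := q ^ 2 + q), ← mul_assoc, inv_mul_cancel₀ (pow_ne_zero _ hu), one_mul]

include hK in
theorem ch_st {t : ↥(twistedD4 K q)} (ht : t ∈ T K q) (τ : K ≃+* K) (i : Fin 2) :
    chD hφ hK i (st q τ t) = rs hφ τ i (chD hφ hK i t) := by
  have ht' : st q τ t ∈ T K q := (st_T τ t).2 ht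
  have h1 := act_up hK hφ ht' i 1
  have h2 := congrArg (st q τ) (act_up hK hφ ht i 1)
  rw [map_mul, map_mul, map_inv, st_up, st_up, map_one, map_mul, map_one, h1] at h2
  have h3 := (coordD hφ hK i).inj h2
  rwa [mul_one, mul_one] at h3

include hK in
/-- `q = 1 mod 3` -/
theorem classes_one (hq : IsPrimePow q) (h3 : q % 3 = 1) {x : MulAut ↥(twistedD4 K q)} (hx : x ^ 3 = 1)
    (hout : ∀ g, x ≠ MulAut.conj g) :
    ∃ (g : ↥(twistedD4 K q)) (A : Matrix.SpecialLinearGroup (Fin 2) (KD φ 0)) (τ : K ≃+* K), A ^ 3 = 1 ∧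
      τ ^ 3 = 1 ∧ τ ≠ 1 ∧ (MulAut.conj g)⁻¹ * x * MulAut.conj g = MulAut.conj (PhiD hφ hK 0 A) * st q τ := by
  obtain ⟨g, t, τ, ht, hτ, hg⟩ := norm_T hK hφ hq h3 hx
  have hτ1 : τ ≠ 1 := by
    rintro rfl
    have e1 : (st q (1 : K ≃+* K) : MulAut ↥(twistedD4 K q)) = 1 := by
      ext1 y
      exact st_one y
    rw [e1, mul_one] at hg
    refine hout (g * t * g⁻¹) ?_
    have e : x = MulAut.conj g * ((MulAut.conj g)⁻¹ * x * MulAut.conj g) * (MulAut.conj g)⁻¹ := by group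
    rw [e, hg, map_mul, map_mul, map_inv]
  have h3' := norm_eq_one hK hφ hτ (by rw [← hg]; exact conj_pow_three hK hφ hx)
  have ht1 : st q τ t ∈ T K q := (st_T τ t).2 ht
  have ht2 : st q τ (st q τ t) ∈ T K q := (st_T τ _).2 ht1
  obtain ⟨c₀, hc₀⟩ : ∃ c, c = chD hφ hK 0 t := ⟨_, rfl⟩
  obtain ⟨c₁, hc₁⟩ : ∃ c : K, c = (chD hφ hK 1 t : K) := ⟨_, rfl⟩
  have hN : ∀ i, chD hφ hK i t * rs hφ τ i (chD hφ hK i t) * rs hφ τ i (rs hφ τ i (chD hφ hK i t)) = 1 := by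
    intro i
    have h4 := congrArg (chD hφ hK i) h3'
    rw [ch_one hK hφ, ch_mul hK hφ (mul_mem ht ht1) ht2, ch_mul hK hφ ht ht1, ch_st hK hφ ht1, ch_st hK hφ ht] at h4
    exact h4
  have h0 : c₀ ^ 3 = 1 := by
    have h4 := hN 0
    rw [rs_zero hK hφ hq hτ, rs_zero hK hφ hq hτ, ← hc₀] at h4
    rw [pow_succ, pow_two]
    exact h4
  have h1 : c₁ * τ c₁ * τ (τ c₁) = 1 := by
    have h4 := congrArg (fun a : KD φ 1 => (a : K)) (hN 1)
    rw [hc₁]
    exact h4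
  have hc0 : c₀ ≠ 0 := by
    intro h
    rw [h, zero_pow three_ne_zero] at h0
    exact zero_ne_one h0
  have hc0' : (c₀ : K) ≠ 0 := fun h => hc0 (Subtype.ext h)
  have hτc : τ (c₀ : K) = c₀ := tau_fix hK hφ hq hτ (mem_Fx.1 c₀.2)
  have h0' : (c₀ : K) ^ 3 = 1 := by
    have := congrArg (fun a : KD φ 0 => (a : K)) h0
    exact this
  -- the correction
  obtain ⟨u, hu, hu'⟩ := hilbert (σ := τ) (fun a => by
      have : (τ ^ 3) a = a := by rw [hτ]; rfl
      exact this) (by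
      by_contra hcon
      push Not at hcon
      exact hτ1 (RingEquiv.ext hcon)) (c := c₁ * (c₀ : K)⁻¹) (by
      rw [map_mul, map_mul, map_inv₀, map_inv₀, hτc, hτc]
      field_simp
      linear_combination h1 - h0')
  obtain ⟨s, hs, hsu⟩ := exists_T hK hφ hq hu
  have hst : st q τ s ∈ T K q := (st_T τ s).2 hs
  obtain ⟨d, hd⟩ : ∃ d : KD φ 0, d = c₀⁻¹ := ⟨_, rfl⟩
  have hd0 : d ≠ 0 := by rw [hd]; exact inv_ne_zero hc0
  have hd2 : d ^ 2 = c₀ := by
    rw [hd]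
    field_simp
    rw [← h0]
  obtain ⟨t', ht'⟩ : ∃ t', t' = s⁻¹ * t * st q τ s := ⟨_, rfl⟩
  have ht'T : t' ∈ T K q := by rw [ht']; exact mul_mem (mul_mem (inv_mem hs) ht) hst
  have hch : ∀ i, chD hφ hK i s * chD hφ hK i t' = chD hφ hK i t * rs hφ τ i (chD hφ hK i s) := by
    intro i
    rw [← ch_mul hK hφ hs ht'T, ht', ← ch_st hK hφ hs, ← ch_mul hK hφ ht hst]
    congr 1
    group
  have hPd := PhiD_hS hφ hK 0 d hd0
  have hcj : MulAut.conj ((PhiD hφ hK 0 (hS d))⁻¹ * t') = 1 := by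
    refine conj_eq_one_of_ch hK hφ (mul_mem (inv_mem hPd) ht'T) fun i => ?_
    have h4 : chD hφ hK i (PhiD hφ hK 0 (hS d)) * chD hφ hK i ((PhiD hφ hK 0 (hS d))⁻¹ * t') = chD hφ hK i t' := by
      rw [← ch_mul hK hφ hPd (mul_mem (inv_mem hPd) ht'T), mul_inv_cancel_left]
    have h5 : chD hφ hK i (PhiD hφ hK 0 (hS d)) = chD hφ hK i t' := by
      have hi : i = 0 ∨ i = 1 := by fin_cases i <;> simp
      rcases hi with rfl | rfl
      · rw [chD_hS hφ hK 0 d hd0, hd2, hc₀]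
        have h6 := hch 0
        rw [rs_zero hK hφ hq hτ, mul_comm (chD hφ hK 0 t)] at h6
        exact (mul_left_cancel₀ (ch_ne_zero hK hφ hs 0) h6).symm
      · apply Subtype.ext
        rw [ch01 hφ hK d hd0]
        have h6 := congrArg (fun a : KD φ 1 => (a : K)) (hch 1)
        have h7 : (chD hφ hK 1 s : K) * (chD hφ hK 1 t' : K) = (chD hφ hK 1 t : K) * τ (chD hφ hK 1 s : K) := h6
        rw [hsu, ← hc₁] at h7
        have h8 : (d : K) = (c₀ : K)⁻¹ := by rw [hd]; rfl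
        rw [h8, inv_inv]
        apply mul_left_cancel₀ hu
        rw [h7]
        have h9 : c₁ * τ u = u * c₀ := by
          field_simp at hu'
          linear_combination hu'
        exact h9.symm
    rw [h5] at h4
    exact mul_left_cancel₀ (ch_ne_zero hK hφ ht'T i) (by rw [h4, mul_one])
  have hct : MulAut.conj t' = MulAut.conj (PhiD hφ hK 0 (hS d)) := by
    rw [map_mul, map_inv] at hcj
    exact (inv_mul_eq_one.1 hcj).symm
  refine ⟨g * s, hS d, τ, ?_, hτ, hτ1, ?_⟩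
  · apply Subtype.ext
    rw [Matrix.SpecialLinearGroup.coe_pow, coe_hS hd0]
    have h4 : d ^ 3 = 1 := by rw [hd, inv_pow, h0, inv_one]
    have h5 : (!![d, 0; 0, d⁻¹] : Matrix (Fin 2) (Fin 2) (KD φ 0)) ^ 3 = !![d ^ 3, 0; 0, (d ^ 3)⁻¹] := by
      rw [pow_succ, pow_two, Matrix.mul_fin_two, Matrix.mul_fin_two]
      ext i j
      (revert i j; simp [pow_succ, mul_assoc, _root_.Fin.forall_fin_succ])
    rw [h5, h4, inv_one, Matrix.SpecialLinearGroup.coe_one, Matrix.one_fin_two]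
  · rw [map_mul, mul_inv_rev]
    have e : (MulAut.conj s)⁻¹ * (MulAut.conj g)⁻¹ * x * (MulAut.conj g * MulAut.conj s) =
        (MulAut.conj s)⁻¹ * ((MulAut.conj g)⁻¹ * x * MulAut.conj g) * MulAut.conj s := by group
    rw [e, hg, conj_st_conj hK hφ, ← ht', hct]

include hK in
/-- **The outer automorphisms of order three of `³D₄(q)`, `3 ∤ q`.** -/
theorem classes (hq : IsPrimePow q) (h3 : q % 3 ≠ 0) {x : MulAut ↥(twistedD4 K q)} (hx : x ^ 3 = 1)
    (hout : ∀ g, x ≠ MulAut.conj g) :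
    (∃ (g : ↥(twistedD4 K q)) (τ : K ≃+* K), τ ^ 3 = 1 ∧ τ ≠ 1 ∧
      (MulAut.conj g)⁻¹ * x * MulAut.conj g = st q τ) ∨
    (∃ (g : ↥(twistedD4 K q)) (A : Matrix.SpecialLinearGroup (Fin 2) (KD φ 0)) (τ : K ≃+* K), A ^ 3 = 1 ∧ A ≠ 1 ∧
      τ ^ 3 = 1 ∧ τ ≠ 1 ∧ (MulAut.conj g)⁻¹ * x * MulAut.conj g = MulAut.conj (PhiD hφ hK 0 A) * st q τ) := by
  have h12 : q % 3 = 1 ∨ q % 3 = 2 := by omega
  rcases h12 with h1 | h2
  · obtain ⟨g, A, τ, hA, hτ, hτ1, hg⟩ := classes_one hK hφ hq h1 hx hout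
    by_cases hA1 : A = 1
    · left
      rw [hA1, map_one, map_one, one_mul] at hg
      exact ⟨g, τ, hτ, hτ1, hg⟩
    · exact Or.inr ⟨g, A, τ, hA, hA1, hτ, hτ1, hg⟩
  · have hx1 : x ≠ 1 := fun h => hout 1 (by rw [h, map_one])
    have hinn : ∀ g z : ↥(twistedD4 K q), (MulAut.conj g)⁻¹ * x * MulAut.conj g = MulAut.conj z → False := by
      intro g z hg
      refine hout (g * z * g⁻¹) ?_
      have e : x = MulAut.conj g * ((MulAut.conj g)⁻¹ * x * MulAut.conj g) * (MulAut.conj g)⁻¹ := by group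
      rw [e, hg, map_mul, map_mul, map_inv]
    rcases two_cases hK hφ hq h2 hx hx1 with ⟨g, A, τ, hA, hA1, hτ, hg⟩ | ⟨g, τ, hτ, hτ1, hg⟩ | ⟨g, hg⟩
    · right
      refine ⟨g, A, τ, hA, ?_, hτ, ?_, hg⟩
      · rintro rfl
        exact hA1 (by simp)
      · rintro rfl
        have e1 : (st q (1 : K ≃+* K) : MulAut ↥(twistedD4 K q)) = 1 := by
          ext1 y
          exact st_one y
        rw [e1, mul_one] at hg
        exact hinn g _ hg
    · exact Or.inl ⟨g, τ, hτ, hτ1, hg⟩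
    · exact absurd hg fun h => hinn g _ h

end Cfsg.Agent.H866.TD
end

-- part: H911/TD/Psi
section
prune_inst 0x603058000062120000180000e0003c66d6000490002b880048200b400c80ef000d038f213dd0100a1020aacc00340068134c04708200000000200c00013d06a990895206a258a904260009801004400000000000000000000000000000000000000400000
set_option linter.all false
open scoped Cfsg.Agent.FastGrp

/-!
# S3509, `³D₄(q)`, second class of outer automorphisms of order three (helper911)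

`x₀ = conj (Φ₀ A) * st q τ`, `A ∈ SL₂(F_q)`, `τ ^ 3 = 1`, `τ ≠ 1`, `Fx = C(x₀)`.

* `Psi` : `SL₂(F_q) →* ³D₄(q)` onto `⟨X ![1,2] ⊓ Fx, X ![-1,-2] ⊓ Fx⟩`, commuting with `Φ₀ (SL₂(F_q))`.
* `imgH`, `card_Xf`, `psi_range`, `psi_ker`.
* `cond_one`, `nsa_one` : condition and conclusion of helper398's / helper884's component theorem, `q % 3 = 1`.
-/

set_option autoImplicit false
set_option linter.unusedSectionVars false
set_option maxHeartbeats 400000

namespace Cfsg.Agent.H911.TD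

open CoxeterSystem Cfsg.Agent.ChevalleyStructure.CoxeterGeom Cfsg.Agent.Tits.Roots Cfsg.Agent.Tits.Core
  Cfsg.Agent.Tits.Exchange Cfsg.Agent.Nodes.Reps Cfsg.Agent.Nodes.BNOf Cfsg.Agent.Nodes.StabComb
  Cfsg.Agent.Nodes.Bruhat Cfsg.Agent.Nodes.OppDec Cfsg.Agent.Nodes.LeviDec Cfsg.Agent.Nodes.RGDTwGen
  Cfsg.Agent.Nodes.RGDChev Cfsg.Agent.Nodes.RGDFold Cfsg.Agent.Nodes.RGDFoldSL
open Cfsg.Agent.KFacts.RgdOpp Cfsg.Agent.KFacts.RgdAut Cfsg.Agent.KFacts.RgdDiag Cfsg.Agent.KFacts.RgdRigid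
  Cfsg.Agent.KFacts.RgdField Cfsg.Agent.KFacts.RgdTau Cfsg.Agent.KFacts.RgdNodes
open Cfsg.Lie Cfsg.Agent.ChevalleyStructure Cfsg.Agent.ChevalleyStructure.Elts
open Cfsg.Agent.ChevalleyStructure.SL2Hom (up lo mem_closure_SL2)
open Cfsg.Agent.KFacts.TwDFour.Out
open Cfsg.Agent.Nodes.RGDTwD4 Cfsg.Agent.Nodes.RGDTwNode.D4
open Cfsg.Agent.CpAut.RgdFix Cfsg.Agent.CpAut.RgdConj Cfsg.Agent.CpAut.RgdTwStd Cfsg.Agent.CpAut.RgdTwD4
open Cfsg.Agent.H28.FamFour (st_mul st_one)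
open Cfsg.Agent.H866.D4Wf.Frame Cfsg.Agent.H866.D4Wf.SLThree
open Cfsg.Agent.H398.RG (Base Cond MK MK_le_self le_MK cond_of_perfect)
open Cfsg.Agent.H884.NA (ImgH nsa_base)
open Cfsg.Agent.H873.RG (NSA)
open Cfsg.Agent.BpExc.FamField (exists_pow_eq forall_pow_iff)

theorem c_12 : ∀ k < chevD4.nroots, (V chevD4 Nodes.RGDTwD4.J k = ![1, 2] ↔ k ∈ [21, 20, 17]) := by decide +kernel
theorem c_n12 : ∀ k < chevD4.nroots, (V chevD4 Nodes.RGDTwD4.J k = ![-1, -2] ↔ k ∈ [6, 3, 2]) := by decide +kernel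

variable {K : Type} [Field K] [Fintype K] {q : ℕ} (hK : Fintype.card K = q ^ 3)
  {φ : K →+* K} (hφ : ∀ x, φ x = x ^ q)

section tau

include hK hφ in
/-- the fixed field of an automorphism of order three -/
theorem fix_tau (hq : IsPrimePow q) {τ : K ≃+* K} (hτ : τ ^ 3 = 1) (hτ1 : τ ≠ 1) {a : K} (ha : τ a = a) : φ a = a := by
  obtain ⟨r, hr⟩ := CharP.exists K
  have : Fact r.Prime := ⟨CharP.char_is_prime K r⟩
  obtain ⟨n, hn0, hn⟩ := H27.Exc.exists_pow (r := r) three_pos hq hK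
  obtain ⟨j, hj⟩ := exists_pow_eq r τ
  have hcard : Nat.card K = r ^ (n * 3) := by rw [Nat.card_eq_fintype_card, hK, hn, pow_mul]
  have h1 : ∀ b : K, b ^ r ^ (j * 3) = b := by
    intro b
    have h2 := Cfsg.Agent.BpExc.FamField.pow_apply_of hj 3 b
    rw [hτ] at h2
    exact h2.symm
  have h2 : n ∣ j := by
    have h3 := (forall_pow_iff (F := K) r hcard (j * 3)).1 h1
    exact Nat.dvd_of_mul_dvd_mul_right three_pos h3
  obtain ⟨m, rfl⟩ := h2
  have h3 : ∀ (m : ℕ) (b : K), b ^ r ^ (n * m) = φ^[m] b := by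
    intro m
    induction m with
    | zero => intro b; rw [mul_zero, pow_zero, pow_one]; rfl
    | succ m ih =>
      intro b
      rw [mul_add, mul_one, pow_add, pow_mul, ih, ← hn, ← hφ, Function.iterate_succ_apply']
  have h4 : ∀ b : K, τ b = φ^[m] b := fun b => by rw [hj, h3]
  have hthree : ∀ b : K, φ^[3] b = b := fun b => phi_three hφ hK b
  have h5 : ∀ (k : ℕ) (b : K), φ^[3 * k] b = b := by
    intro k
    induction k with
    | zero => intro b; rfl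
    | succ k ih => intro b; rw [mul_add, mul_one, Function.iterate_add_apply, hthree, ih]
  have h6 : ∀ b : K, φ^[m] b = φ^[m % 3] b := by
    intro b
    conv_lhs => rw [← Nat.div_add_mod m 3]
    rw [Function.iterate_add_apply, h5]
  rw [h4, h6] at ha
  have h7 : m % 3 < 3 := Nat.mod_lt _ three_pos
  interval_cases hm : m % 3
  · exact absurd (RingEquiv.ext fun b => by rw [h4, h6]; first | rfl | (rw [hm]; rfl)) hτ1
  · exact ha
  · have h8 : φ (φ a) = a := ha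
    have h9 := phi_three hφ hK a
    rw [h8] at h9
    exact h9

end tau

section comm

include hK hφ in
theorem comm_sr0_12 {a b : ↥(twistedD4 K q)} (ha : a ∈ X φ q ![1, 0]) (hb : b ∈ X φ q ![1, 2]) : a * b = b * a :=
  X_comm_of hK hφ c_sr0 (by decide +kernel) c_12 (by decide +kernel) (by decide +kernel) ha hb
include hK hφ in
theorem comm_sr0_n12 {a b : ↥(twistedD4 K q)} (ha : a ∈ X φ q ![1, 0]) (hb : b ∈ X φ q ![-1, -2]) : a * b = b * a :=
  X_comm_of hK hφ c_sr0 (by decide +kernel) c_n12 (by decide +kernel) (by decide +kernel) ha hb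
include hK hφ in
theorem comm_nsr0_12 {a b : ↥(twistedD4 K q)} (ha : a ∈ X φ q ![-1, 0]) (hb : b ∈ X φ q ![1, 2]) : a * b = b * a :=
  X_comm_of hK hφ c_nsr0 (by decide +kernel) c_12 (by decide +kernel) (by decide +kernel) ha hb
include hK hφ in
theorem comm_nsr0_n12 {a b : ↥(twistedD4 K q)} (ha : a ∈ X φ q ![-1, 0]) (hb : b ∈ X φ q ![-1, -2]) : a * b = b * a :=
  X_comm_of hK hφ c_nsr0 (by decide +kernel) c_n12 (by decide +kernel) (by decide +kernel) ha hb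

include hK in
theorem L0_comm {A : Matrix.SpecialLinearGroup (Fin 2) (KD φ 0)} {u : ↥(twistedD4 K q)}
    (hu : u ∈ X φ q ![1, 2] ∨ u ∈ X φ q ![-1, -2]) : PhiD hφ hK 0 A * u = u * PhiD hφ hK 0 A := by
  have h3 : Subgroup.closure (Set.range (up (F := KD φ 0)) ∪ Set.range (lo (F := KD φ 0))) ≤
      (Subgroup.centralizer {u}).comap (PhiD hφ hK 0) := by
    rw [Subgroup.closure_le]
    rintro _ (⟨a, rfl⟩ | ⟨a, rfl⟩)
    · show PhiD hφ hK 0 (up a) ∈ Subgroup.centralizer {u}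
      rw [Subgroup.mem_centralizer_singleton_iff]
      have h0 : PhiD hφ hK 0 (up a) ∈ X φ q ![1, 0] := by rw [← sr0_eq]; exact (mem_X hφ hK 0 _).2 ⟨a, rfl⟩
      rcases hu with hu | hu
      · exact comm_sr0_12 hK hφ h0 hu
      · exact comm_sr0_n12 hK hφ h0 hu
    · show PhiD hφ hK 0 (lo a) ∈ Subgroup.centralizer {u}
      rw [Subgroup.mem_centralizer_singleton_iff]
      have e : (-sr 0 : Fin 2 → ℤ) = ![-1, 0] := by decide
      have h0 : PhiD hφ hK 0 (lo a) ∈ X φ q ![-1, 0] := by rw [← e]; exact (mem_negX hK hφ 0 _).2 ⟨a, rfl⟩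
      rcases hu with hu | hu
      · exact comm_nsr0_12 hK hφ h0 hu
      · exact comm_nsr0_n12 hK hφ h0 hu
  exact Subgroup.mem_centralizer_singleton_iff.1 (h3 (mem_closure_SL2 A))

end comm

section psi

/-- the Weyl element `![0,1] ↦ ![1,2]` -/
noncomputable def mm : ↥(twistedD4 K q) := n hφ 1 * n hφ 0

include hK in
theorem cj_mm {z z' z'' : Fin 2 → ℤ} (hz : z ∈ rts) (hz' : z' ∈ rts) (h1 : _root_.Cfsg.Agent.ChevalleyStructure.CoxeterGeom.rep cs isCartan (cs.simple 0) z = z')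
    (h2 : rep cs isCartan (cs.simple 1) z' = z'') (y : ↥(twistedD4 K q)) :
    y ∈ X φ q z'' ↔ (mm hφ)⁻¹ * y * mm hφ ∈ X φ q z := by
  obtain ⟨r, hr⟩ := CharP.exists K
  have : Fact r.Prime := ⟨CharP.char_is_prime K r⟩
  have e1 := (rgd' hK hφ r).conj 0 z (isRoot_of_mem hz)
  have e2 := (rgd' hK hφ r).conj 1 z' (isRoot_of_mem hz')
  rw [h1] at e1
  rw [h2] at e2
  rw [← e2, mem_cj, ← e1, mem_cj]
  unfold mm
  rw [show (n hφ 0)⁻¹ * ((n hφ 1)⁻¹ * y * n hφ 1) * n hφ 0 = (n hφ 1 * n hφ 0)⁻¹ * y * (n hφ 1 * n hφ 0) by group]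

include hK in
theorem mem_12 (y : ↥(twistedD4 K q)) :
    y ∈ X φ q ![1, 2] ↔ ∃ a : KD φ 1, y = mm hφ * PhiD hφ hK 1 (up a) * (mm hφ)⁻¹ := by
  rw [cj_mm hK hφ (z := ![0, 1]) (z' := ![1, 1]) (by decide) (by decide) (by rw [rep0]; norm_num)
    (by rw [rep1]; norm_num), ← sr1_eq, mem_X hφ hK 1]
  constructor
  · rintro ⟨a, ha⟩
    exact ⟨a, by rw [← ha]; group⟩
  · rintro ⟨a, rfl⟩
    exact ⟨a, by group⟩

include hK in
theorem mem_n12 (y : ↥(twistedD4 K q)) :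
    y ∈ X φ q ![-1, -2] ↔ ∃ a : KD φ 1, y = mm hφ * PhiD hφ hK 1 (lo a) * (mm hφ)⁻¹ := by
  have e : (-sr 1 : Fin 2 → ℤ) = ![0, -1] := by decide
  rw [cj_mm hK hφ (z := ![0, -1]) (z' := ![-1, -1]) (by decide) (by decide) (by rw [rep0]; norm_num)
    (by rw [rep1]; norm_num), ← e, mem_negX hK hφ 1]
  constructor
  · rintro ⟨a, ha⟩
    exact ⟨a, by rw [← ha]; group⟩
  · rintro ⟨a, rfl⟩
    exact ⟨a, by group⟩

theorem st_mm (τ : K ≃+* K) : st q τ (mm hφ) = mm hφ := by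
  unfold mm
  rw [map_mul, st_n, st_n]

/-- `F_q` inside `F_{q³}` -/
noncomputable def inc : KD φ 0 →+* KD φ 1 :=
  Subfield.inclusion (show KD φ 0 ≤ KD φ 1 by
    intro a _
    rw [F3_eq_top hK hφ]
    exact Subfield.mem_top a)

/-- **the homomorphism** -/
noncomputable def Psi : Matrix.SpecialLinearGroup (Fin 2) (KD φ 0) →* ↥(twistedD4 K q) :=
  (MulAut.conj (mm hφ)).toMonoidHom.comp ((PhiD hφ hK 1).comp (Matrix.SpecialLinearGroup.map (inc hK hφ)))

theorem psi_up (s : KD φ 0) : Psi hK hφ (up s) = mm hφ * PhiD hφ hK 1 (up (inc hK hφ s)) * (mm hφ)⁻¹ := by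
  have h1 : Matrix.SpecialLinearGroup.map (inc hK hφ) (up s) = up (inc hK hφ s) := by
    refine Subtype.ext (Matrix.ext fun i j => ?_)
    show inc hK hφ ((up s).1 i j) = (up (inc hK hφ s)).1 i j
    (revert i j; simp only [up, _root_.Fin.forall_fin_succ, Fin.isValue, _root_.Matrix.of_apply, _root_.Matrix.cons_val', _root_.Matrix.cons_val_fin_one, _root_.Matrix.cons_val_zero, _root_.Matrix.cons_val_succ, _root_.forall_const, _root_.map_one, _root_.and_self, _root_.map_zero, _root_.implies_true])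
  show mm hφ * PhiD hφ hK 1 (Matrix.SpecialLinearGroup.map (inc hK hφ) (up s)) * (mm hφ)⁻¹ = _
  rw [h1]

theorem psi_lo (s : KD φ 0) : Psi hK hφ (lo s) = mm hφ * PhiD hφ hK 1 (lo (inc hK hφ s)) * (mm hφ)⁻¹ := by
  have h1 : Matrix.SpecialLinearGroup.map (inc hK hφ) (lo s) = lo (inc hK hφ s) := by
    refine Subtype.ext (Matrix.ext fun i j => ?_)
    show inc hK hφ ((lo s).1 i j) = (lo (inc hK hφ s)).1 i j
    (revert i j; simp only [lo, _root_.Fin.forall_fin_succ, Fin.isValue, _root_.Matrix.of_apply, _root_.Matrix.cons_val', _root_.Matrix.cons_val_fin_one, _root_.Matrix.cons_val_zero, _root_.Matrix.cons_val_succ, _root_.forall_const, _root_.map_one, _root_.map_zero, _root_.and_self, _root_.implies_true])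
  show mm hφ * PhiD hφ hK 1 (Matrix.SpecialLinearGroup.map (inc hK hφ) (lo s)) * (mm hφ)⁻¹ = _
  rw [h1]

theorem psi_up_mem (s : KD φ 0) : Psi hK hφ (up s) ∈ X φ q ![1, 2] :=
  (mem_12 hK hφ _).2 ⟨_, psi_up hK hφ s⟩

theorem psi_lo_mem (s : KD φ 0) : Psi hK hφ (lo s) ∈ X φ q ![-1, -2] :=
  (mem_n12 hK hφ _).2 ⟨_, psi_lo hK hφ s⟩

theorem psi_up_eq_one {s : KD φ 0} (h : Psi hK hφ (up s) = 1) : s = 0 := by
  rw [psi_up] at h
  have h1 : PhiD hφ hK 1 (up (inc hK hφ s)) = 1 := by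
    have h2 : PhiD hφ hK 1 (up (inc hK hφ s)) = (mm hφ)⁻¹ * 1 * mm hφ := by rw [← h]; group
    rw [h2]; group
  by_contra hs
  exact (coordD hφ hK 1).ne_one (fun h2 => hs ((inc hK hφ).injective (by rw [h2, map_zero]))) h1

/-- `Ψ` commutes with `Φ₀` -/
theorem psi_comm (A B : Matrix.SpecialLinearGroup (Fin 2) (KD φ 0)) :
    PhiD hφ hK 0 A * Psi hK hφ B = Psi hK hφ B * PhiD hφ hK 0 A := by
  have h3 : Subgroup.closure (Set.range (up (F := KD φ 0)) ∪ Set.range (lo (F := KD φ 0))) ≤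
      (Subgroup.centralizer {PhiD hφ hK 0 A}).comap (Psi hK hφ) := by
    rw [Subgroup.closure_le]
    rintro _ (⟨a, rfl⟩ | ⟨a, rfl⟩)
    · show Psi hK hφ (up a) ∈ Subgroup.centralizer {PhiD hφ hK 0 A}
      rw [Subgroup.mem_centralizer_singleton_iff]
      exact (L0_comm hK hφ (Or.inl (psi_up_mem hK hφ a))).symm
    · show Psi hK hφ (lo a) ∈ Subgroup.centralizer {PhiD hφ hK 0 A}
      rw [Subgroup.mem_centralizer_singleton_iff]
      exact (L0_comm hK hφ (Or.inr (psi_lo_mem hK hφ a))).symm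
  exact (Subgroup.mem_centralizer_singleton_iff.1 (h3 (mem_closure_SL2 B))).symm

end psi

section fix

variable (A : Matrix.SpecialLinearGroup (Fin 2) (KD φ 0)) {τ : K ≃+* K}

/-- the automorphism -/
noncomputable abbrev xo (τ : K ≃+* K) : MulAut ↥(twistedD4 K q) := MulAut.conj (PhiD hφ hK 0 A) * st q τ

/-- the fixed points -/
noncomputable abbrev Fxo (τ : K ≃+* K) : Subgroup ↥(twistedD4 K q) :=
  MonoidHom.eqLocus (xo hK hφ A τ).toMonoidHom (MonoidHom.id _)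

theorem mem_Fxo {y : ↥(twistedD4 K q)} : y ∈ Fxo hK hφ A τ ↔ xo hK hφ A τ y = y := Iff.rfl

theorem xo_apply (y : ↥(twistedD4 K q)) :
    xo hK hφ A τ y = PhiD hφ hK 0 A * st q τ y * (PhiD hφ hK 0 A)⁻¹ := rfl

theorem xo_12 {y : ↥(twistedD4 K q)} (hy : y ∈ X φ q ![1, 2] ∨ y ∈ X φ q ![-1, -2]) : xo hK hφ A τ y = st q τ y := by
  rw [xo_apply, L0_comm hK hφ, mul_inv_cancel_right]
  rcases hy with hy | hy
  · exact Or.inl ((fixX_st hK hφ τ (isRoot_of_mem (by decide)) y).2 hy)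
  · exact Or.inr ((fixX_st hK hφ τ (isRoot_of_mem (by decide)) y).2 hy)

theorem xo_psi (hq : IsPrimePow q) (hτ : τ ^ 3 = 1) (B : Matrix.SpecialLinearGroup (Fin 2) (KD φ 0)) :
    xo hK hφ A τ (Psi hK hφ B) = Psi hK hφ B := by
  have h1 : st q τ (Psi hK hφ B) = Psi hK hφ B := by
    show st q τ (mm hφ * PhiD hφ hK 1 (Matrix.SpecialLinearGroup.map (inc hK hφ) B) * (mm hφ)⁻¹) =
      mm hφ * PhiD hφ hK 1 (Matrix.SpecialLinearGroup.map (inc hK hφ) B) * (mm hφ)⁻¹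
    rw [map_mul, map_mul, map_inv, st_mm, st_Phi hK hφ]
    congr 3
    apply Subtype.ext
    ext s t
    show τ (B.1 s t : K) = (B.1 s t : K)
    exact tau_fix hK hφ hq hτ (mem_Fx.1 (B.1 s t).2)
  rw [xo_apply, h1, psi_comm, mul_inv_cancel_right]

theorem psi_mem_Fxo (hq : IsPrimePow q) (hτ : τ ^ 3 = 1) (B : Matrix.SpecialLinearGroup (Fin 2) (KD φ 0)) :
    Psi hK hφ B ∈ Fxo hK hφ A τ := xo_psi hK hφ A hq hτ B

theorem up_iff (hq : IsPrimePow q) (hτ : τ ^ 3 = 1) (hτ1 : τ ≠ 1) (y : ↥(twistedD4 K q)) :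
    y ∈ X φ q ![1, 2] ⊓ Fxo hK hφ A τ ↔ ∃ t, Psi hK hφ (up t) = y := by
  constructor
  · rintro ⟨h1, h2⟩
    have h3 : xo hK hφ A τ y = y := h2
    rw [xo_12 hK hφ A (Or.inl h1)] at h3
    obtain ⟨a, rfl⟩ := (mem_12 hK hφ y).1 h1
    rw [map_mul, map_mul, map_inv, st_mm, st_up] at h3
    have h4 := mul_left_cancel (mul_right_cancel h3)
    have h5 := (coordD hφ hK 1).inj h4
    have h6 : τ (a : K) = a := congrArg (fun b : KD φ 1 => (b : K)) h5
    have h7 := fix_tau hK hφ hq hτ hτ1 h6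
    refine ⟨⟨a, mem_Fx.2 h7⟩, ?_⟩
    rw [psi_up]
    congr 3
  · rintro ⟨t, rfl⟩
    exact ⟨psi_up_mem hK hφ t, psi_mem_Fxo hK hφ A hq hτ _⟩

theorem lo_inj {a b : KD φ 1} (h : PhiD hφ hK 1 (lo a) = PhiD hφ hK 1 (lo b)) : a = b := by
  have h1 : PhiD hφ hK 1 (lo a * (lo b)⁻¹) = 1 := by rw [map_mul, map_inv, h, mul_inv_cancel]
  have h2 := (ker_Phi hK hφ 1 h1).1
  have h3 : lo a * (lo b)⁻¹ = lo (a - b) := by
    rw [mul_inv_eq_iff_eq_mul]
    refine Subtype.ext (Matrix.ext fun i j => ?_)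
    show (lo a).1 i j = ((lo (a - b)).1 * (lo b).1) i j
    (revert i j; simp only [lo, Matrix.mul_apply, Fin.sum_univ_two, _root_.Fin.forall_fin_succ, Fin.isValue, _root_.Matrix.of_apply, _root_.Matrix.cons_val', _root_.Matrix.cons_val_fin_one, _root_.Matrix.cons_val_zero, _root_.Matrix.cons_val_one, _root_.mul_one, _root_.Matrix.cons_val_succ, _root_.MulZeroClass.mul_zero, _root_.zero_add, _root_.implies_true, _root_.and_true, _root_.MulZeroClass.zero_mul, _root_.add_zero, _root_.one_mul, _root_.sub_add_cancel, _root_.and_self])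
  rw [h3] at h2
  have h4 : (a - b : KD φ 1) = 0 := by
    have e : ((lo (a - b)).1 : Matrix (Fin 2) (Fin 2) (KD φ 1)) 1 0 = a - b := by simp [lo]
    rw [← e]; exact h2
  exact sub_eq_zero.1 h4

theorem lo_iff (hq : IsPrimePow q) (hτ : τ ^ 3 = 1) (hτ1 : τ ≠ 1) (y : ↥(twistedD4 K q)) :
    y ∈ X φ q ![-1, -2] ⊓ Fxo hK hφ A τ ↔ ∃ t, Psi hK hφ (lo t) = y := by
  constructor
  · rintro ⟨h1, h2⟩
    have h3 : xo hK hφ A τ y = y := h2
    rw [xo_12 hK hφ A (Or.inr h1)] at h3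
    obtain ⟨a, rfl⟩ := (mem_n12 hK hφ y).1 h1
    rw [map_mul, map_mul, map_inv, st_mm, st_lo hK hφ] at h3
    have h4 := mul_left_cancel (mul_right_cancel h3)
    have h5 := lo_inj hK hφ h4
    have h6 : τ (a : K) = a := congrArg (fun b : KD φ 1 => (b : K)) h5
    have h7 := fix_tau hK hφ hq hτ hτ1 h6
    refine ⟨⟨a, mem_Fx.2 h7⟩, ?_⟩
    rw [psi_lo]
    congr 3
  · rintro ⟨t, rfl⟩
    exact ⟨psi_lo_mem hK hφ t, psi_mem_Fxo hK hφ A hq hτ _⟩

/-- the fixed points form a group of order `q` -/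
theorem card_Xf (hq : IsPrimePow q) (hτ : τ ^ 3 = 1) (hτ1 : τ ≠ 1) :
    Nat.card ↥(X φ q ![1, 2] ⊓ Fxo hK hφ A τ : Subgroup ↥(twistedD4 K q)) = q := by
  refine Eq.trans ?_ (card_KD0 hK hφ hq)
  refine (Nat.card_eq_of_bijective
    (fun t : KD φ 0 => (⟨Psi hK hφ (up t), (up_iff hK hφ A hq hτ hτ1 _).2 ⟨t, rfl⟩⟩ :
      ↥(X φ q ![1, 2] ⊓ Fxo hK hφ A τ : Subgroup ↥(twistedD4 K q)))) ⟨fun a b h => ?_, fun y => ?_⟩).symm
  · have h1 : Psi hK hφ (up a) = Psi hK hφ (up b) := congrArg Subtype.val h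
    have h2 : Psi hK hφ (up (a - b)) = 1 := by
      have h3 : (up (a - b) : Matrix.SpecialLinearGroup (Fin 2) (KD φ 0)) = up a * (up b)⁻¹ := by
        rw [eq_mul_inv_iff_mul_eq, ← Cfsg.Agent.H884.NA.up_add, sub_add_cancel]
      rw [h3, map_mul, map_inv, h1, mul_inv_cancel]
    exact sub_eq_zero.1 (psi_up_eq_one hK hφ h2)
  · obtain ⟨t, ht⟩ := (up_iff hK hφ A hq hτ hτ1 _).1 y.2
    exact ⟨t, Subtype.ext ht⟩

theorem imgH (hq : IsPrimePow q) (hτ : τ ^ 3 = 1) (hτ1 : τ ≠ 1) :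
    ImgH q (X φ q ![1, 2] ⊓ Fxo hK hφ A τ) (X φ q ![-1, -2] ⊓ Fxo hK hφ A τ) := by
  have := Fintype.ofFinite (KD φ 0)
  refine ⟨KD φ 0, inferInstance, this, Psi hK hφ, ?_, up_iff hK hφ A hq hτ hτ1, lo_iff hK hφ A hq hτ hτ1,
    fun t ht => psi_up_eq_one hK hφ ht⟩
  rw [← Nat.card_eq_fintype_card, card_KD0 hK hφ hq]

theorem psi_range (hq : IsPrimePow q) (hτ : τ ^ 3 = 1) (hτ1 : τ ≠ 1) :
    (Psi hK hφ).range = (X φ q ![1, 2] ⊓ Fxo hK hφ A τ) ⊔ (X φ q ![-1, -2] ⊓ Fxo hK hφ A τ) := by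
  apply le_antisymm
  · have h3 : Subgroup.closure (Set.range (up (F := KD φ 0)) ∪ Set.range (lo (F := KD φ 0))) ≤
        ((X φ q ![1, 2] ⊓ Fxo hK hφ A τ) ⊔ (X φ q ![-1, -2] ⊓ Fxo hK hφ A τ)).comap (Psi hK hφ) := by
      rw [Subgroup.closure_le]
      rintro _ (⟨a, rfl⟩ | ⟨a, rfl⟩)
      · exact (le_sup_left : X φ q ![1, 2] ⊓ Fxo hK hφ A τ ≤ _) ((up_iff hK hφ A hq hτ hτ1 _).2 ⟨a, rfl⟩)
      · exact (le_sup_right : X φ q ![-1, -2] ⊓ Fxo hK hφ A τ ≤ _) ((lo_iff hK hφ A hq hτ hτ1 _).2 ⟨a, rfl⟩)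
    rintro _ ⟨B, rfl⟩
    exact h3 (mem_closure_SL2 B)
  · refine sup_le ?_ ?_
    · intro y hy
      obtain ⟨t, ht⟩ := (up_iff hK hφ A hq hτ hτ1 _).1 hy
      exact ⟨_, ht⟩
    · intro y hy
      obtain ⟨t, ht⟩ := (lo_iff hK hφ A hq hτ hτ1 _).1 hy
      exact ⟨_, ht⟩

end fix

section nsa

variable {G : Type*} [Group G] {p : ℕ} [Fact p.Prime] {K X Y P Q T : Subgroup G}

/-- `⟨X, Y⟩` is perfect -/
theorem perfect_XY {m : ℕ} (hI : ImgH m X Y) (h4 : 4 ≤ m) : ⁅X ⊔ Y, X ⊔ Y⁆ = X ⊔ Y := by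
  obtain ⟨F, _, _, f, hF, hX, hY, -⟩ := hI
  have hr : f.range = X ⊔ Y := by
    apply le_antisymm
    · have h3 : Subgroup.closure (Set.range (up (F := F)) ∪ Set.range (lo (F := F))) ≤ (X ⊔ Y).comap f := by
        rw [Subgroup.closure_le]
        rintro _ (⟨a, rfl⟩ | ⟨a, rfl⟩)
        · exact (le_sup_left : X ≤ _) ((hX _).2 ⟨a, rfl⟩)
        · exact (le_sup_right : Y ≤ _) ((hY _).2 ⟨a, rfl⟩)
      rintro _ ⟨B, rfl⟩
      exact h3 (mem_closure_SL2 B)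
    · refine sup_le ?_ ?_
      · intro y hy
        obtain ⟨t, ht⟩ := (hX y).1 hy
        exact ⟨_, ht⟩
      · intro y hy
        obtain ⟨t, ht⟩ := (hY y).1 hy
        exact ⟨_, ht⟩
  have h4' : 4 ≤ Nat.card F := by rw [Nat.card_eq_fintype_card, hF]; exact h4
  have hperf := (Cfsg.Agent.SignalizersComponents.SLQuasisimple.isQuasisimple_two (F := F) h4').1
  have h1 : commutator (Matrix.SpecialLinearGroup (Fin 2) F) = ⊤ := hperf.commutator_eq_top
  rw [← hr, MonoidHom.range_eq_map, ← Subgroup.map_commutator, ← commutator_def, h1]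

end nsa

end Cfsg.Agent.H911.TD

private theorem dce_1e66d8113375 : _root_.True := by
  try have : _root_.True := by simp only [_root_.Cfsg.Agent.H911.TD.inc.congr_simp]
  try have : _root_.True := by simp only [_root_.Cfsg.Agent.H911.TD.mm.congr_simp]
  exact _root_.True.intro
end

-- part: H922/RG/MTwo_mg
section
prune_inst 0x501019000462100000000000c0001c06e600049000288801c8400a400480af20040289203520100a1820aa0c00340068134c04708200000000200400013c068910880204b148a000200080000004400000000000000000000000000000000000000400000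
set_option linter.all false
open scoped Cfsg.Agent.FastGrp

-- part: H351/RG/NiX
section
/-!
# S3509, row `³D₄(q)`: two exclusions (helper351)

* `act` : the action of `P ≤ N(M)` on `M / Z(M)`, faithful if `M` is perfect and `C_P(M) = 1` (`act_injective`);
* `not_exc` : `|P| = q³` and `(q, k) ∈ {(4, 5), (5, 5), (9, 6)}` : `M / Z(M)` is not `A_k`;
* `not_a8` : `M ≤ K`, the Sylow 2-subgroups of `K` of order 8 : `M / Z(M)` is not `A₈`.
-/

set_option autoImplicit false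

namespace Cfsg.Agent.H351.RG

open Subgroup

variable {Y : Type*} [Group Y] {M P : Subgroup Y}

/-- conjugation -/
def conjM (hPn : ∀ g ∈ P, ∀ x ∈ M, g * x * g⁻¹ ∈ M) : P →* MulAut M where
  toFun g :=
    { toFun := fun x => ⟨(g : Y) * x * (g : Y)⁻¹, hPn g g.2 x x.2⟩
      invFun := fun x => ⟨(g : Y)⁻¹ * x * g, by
        have h := hPn _ (inv_mem g.2) x x.2
        rwa [inv_inv] at h⟩
      left_inv := fun x => Subtype.ext (by simp [mul_assoc])
      right_inv := fun x => Subtype.ext (by simp only [mul_assoc, _root_.mul_inv_cancel_left, _root_.mul_inv_cancel, _root_.mul_one])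
      map_mul' := fun x y => Subtype.ext (by simp only [mul_assoc, _root_.Subgroup.coe_mul, _root_.MulMemClass.mk_mul_mk, _root_.inv_mul_cancel_left]) }
  map_one' := by
    ext x
    simp only [_root_.OneMemClass.coe_one, _root_.one_mul, _root_.inv_one, _root_.mul_one, _root_.Subtype.coe_eta, _root_.MulEquiv.coe_mk, _root_.Equiv.coe_fn_mk, _root_.MulAut.one_apply]
  map_mul' g h := by
    ext x
    simp only [mul_assoc, _root_.Subgroup.coe_mul, _root_.mul_inv_rev, _root_.MulEquiv.coe_mk, _root_.Equiv.coe_fn_mk, _root_.MulAut.mul_apply]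

theorem coe_conjM (hPn : ∀ g ∈ P, ∀ x ∈ M, g * x * g⁻¹ ∈ M) (g : P) (x : M) :
    ((conjM hPn g x : M) : Y) = (g : Y) * x * (g : Y)⁻¹ := rfl

/-- automorphisms act on the central quotient -/
def qmap (α : MulAut M) : (M ⧸ center M) →* (M ⧸ center M) :=
  QuotientGroup.map _ _ α.toMonoidHom (by
    intro z hz
    rw [mem_comap, mem_center_iff]
    intro g
    obtain ⟨g', rfl⟩ := α.surjective g
    have h := (mem_center_iff.1 hz) g'
    show α g' * α z = α z * α g'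
    rw [← map_mul, h, map_mul])

theorem qmap_mk (α : MulAut M) (x : M) : qmap α (QuotientGroup.mk x) = QuotientGroup.mk (α x) := rfl

/-- the action on the central quotient -/
def act (hPn : ∀ g ∈ P, ∀ x ∈ M, g * x * g⁻¹ ∈ M) : P →* MulAut (M ⧸ center M) where
  toFun g :=
    { toFun := qmap (conjM hPn g)
      invFun := qmap (conjM hPn g⁻¹)
      left_inv := fun x => by
        induction x using QuotientGroup.induction_on with
        | H x =>
          rw [qmap_mk, qmap_mk, ← MulAut.mul_apply, ← map_mul, inv_mul_cancel, map_one, MulAut.one_apply]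
      right_inv := fun x => by
        induction x using QuotientGroup.induction_on with
        | H x =>
          rw [qmap_mk, qmap_mk, ← MulAut.mul_apply, ← map_mul, mul_inv_cancel, map_one, MulAut.one_apply]
      map_mul' := fun x y => map_mul _ x y }
  map_one' := by
    refine MulEquiv.ext fun x => ?_
    induction x using QuotientGroup.induction_on with
    | H x =>
      change qmap (conjM hPn 1) (QuotientGroup.mk x) = QuotientGroup.mk x
      rw [qmap_mk, map_one, MulAut.one_apply]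
  map_mul' g h := by
    refine MulEquiv.ext fun x => ?_
    induction x using QuotientGroup.induction_on with
    | H x =>
      change qmap (conjM hPn (g * h)) (QuotientGroup.mk x) = qmap (conjM hPn g) (qmap (conjM hPn h) (QuotientGroup.mk x))
      rw [qmap_mk, qmap_mk, qmap_mk, map_mul, MulAut.mul_apply]

theorem act_mk (hPn : ∀ g ∈ P, ∀ x ∈ M, g * x * g⁻¹ ∈ M) (g : P) (x : M) :
    act hPn g (QuotientGroup.mk x) = QuotientGroup.mk (conjM hPn g x) := rfl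

/-- an automorphism of a perfect group acting trivially modulo the centre is trivial -/
theorem eq_of_quot (hperf : ⁅M, M⁆ = M) (α : MulAut M) (h : ∀ x, (α x) * x⁻¹ ∈ center M) (x : M) : α x = x := by
  have htop : commutator M = ⊤ := by
    apply Subgroup.map_injective M.subtype_injective
    rw [commutator_def, map_commutator, ← MonoidHom.range_eq_map, range_subtype, hperf]
  let f : M →* M :=
    { toFun := fun x => α x * x⁻¹
      map_one' := by simp only [_root_.map_one, _root_.inv_one, _root_.mul_one]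
      map_mul' := fun a b => by
        have h1 := (mem_center_iff.1 (h b)) (a⁻¹)
        have h2 : α (a * b) * (a * b)⁻¹ = α a * (α b * b⁻¹ * a⁻¹) := by
          rw [map_mul]
          group
        rw [h2, ← h1]
        group }
  have hker : commutator M ≤ f.ker := by
    rw [commutator_def, commutator_le]
    intro a _ b _
    rw [MonoidHom.mem_ker, map_commutatorElement, commutatorElement_eq_one_iff_mul_comm]
    exact ((mem_center_iff.1 (h b)) (f a))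
  have hx : x ∈ f.ker := hker (htop ▸ mem_top x)
  have h1 : α x * x⁻¹ = 1 := hx
  exact mul_inv_eq_one.1 h1

theorem act_injective (hperf : ⁅M, M⁆ = M) (hPn : ∀ g ∈ P, ∀ x ∈ M, g * x * g⁻¹ ∈ M)
    (hPc : ∀ g ∈ P, (∀ x ∈ M, g * x = x * g) → g = 1) : Function.Injective (act hPn) := by
  rw [injective_iff_map_eq_one]
  intro g hg
  have h1 : ∀ x : M, conjM hPn g x = x := by
    refine eq_of_quot hperf _ fun x => ?_
    have h2 : act hPn g (QuotientGroup.mk x) = QuotientGroup.mk x := by rw [hg, MulAut.one_apply]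
    rw [act_mk] at h2
    have h3 : (QuotientGroup.mk (conjM hPn g x * x⁻¹) : M ⧸ center M) = 1 := by
      rw [QuotientGroup.mk_mul, h2, ← QuotientGroup.mk_mul, mul_inv_cancel, QuotientGroup.mk_one]
    exact (QuotientGroup.eq_one_iff _).1 h3
  apply Subtype.ext
  refine hPc g g.2 fun x hx => ?_
  have h2 := congrArg Subtype.val (h1 ⟨x, hx⟩)
  rw [coe_conjM] at h2
  exact mul_inv_eq_iff_eq_mul.1 h2

theorem card_dvd_aut (hperf : ⁅M, M⁆ = M) (hPn : ∀ g ∈ P, ∀ x ∈ M, g * x * g⁻¹ ∈ M)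
    (hPc : ∀ g ∈ P, (∀ x ∈ M, g * x = x * g) → g = 1) {A : Type*} [Group A] (e : (M ⧸ center M) ≃* A) :
    Nat.card P ∣ Nat.card (MulAut A) := by
  have h1 := Subgroup.card_dvd_of_injective (act hPn) (act_injective hperf hPn hPc)
  have h2 : Nat.card (MulAut (M ⧸ center M)) = Nat.card (MulAut A) := Nat.card_congr (MulAut.congr e).toEquiv
  rwa [h2] at h1

/-- **`(q, k) ∈ {(4, 5), (5, 5), (9, 6)}`** -/
theorem not_exc [Finite M] (hperf : ⁅M, M⁆ = M) (hPn : ∀ g ∈ P, ∀ x ∈ M, g * x * g⁻¹ ∈ M)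
    (hPc : ∀ g ∈ P, (∀ x ∈ M, g * x = x * g) → g = 1) {q k : ℕ} (hP : Nat.card P = q ^ 3)
    (h : (q = 4 ∧ k = 5) ∨ (q = 5 ∧ k = 5) ∨ (q = 9 ∧ k = 6)) :
    ¬ Nonempty ((M ⧸ center M) ≃* alternatingGroup (Fin k)) := by
  rintro ⟨e⟩
  have h1 := card_dvd_aut hperf hPn hPc e
  rw [hP] at h1
  have h5 : Nat.card (MulAut (alternatingGroup (Fin 5))) = 120 := by
    rw [← Nat.card_congr (Equiv.ofBijective _ (Cfsg.Agent.S2119.result 5 (by norm_num) (by norm_num))),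
      Nat.card_eq_fintype_card, Fintype.card_perm, Fintype.card_fin]
    decide
  rcases h with ⟨rfl, rfl⟩ | ⟨rfl, rfl⟩ | ⟨rfl, rfl⟩
  · rw [h5] at h1
    revert h1
    decide
  · rw [h5] at h1
    revert h1
    decide
  · rw [Cfsg.Agent.H824.ProdLem.card_aut_a6] at h1
    revert h1
    decide

/-- **`A₈`** -/
theorem not_a8 {K : Subgroup Y} [Finite K] (hMK : M ≤ K) (S : Sylow 2 ↥K) (hS : Nat.card S = 8) :
    ¬ Nonempty ((M ⧸ center M) ≃* alternatingGroup (Fin 8)) := by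
  rintro ⟨e⟩
  have h1 : Nat.card (alternatingGroup (Fin 8)) = 20160 := by
    have h := two_mul_nat_card_alternatingGroup (α := Fin 8)
    rw [Nat.card_perm, Nat.card_eq_fintype_card (α := Fin 8), Fintype.card_fin] at h
    have h2 : (8 : ℕ).factorial = 40320 := by decide
    omega
  have h2 : Nat.card (M ⧸ center M) ∣ Nat.card M := Subgroup.card_quotient_dvd_card _
  have h3 : Nat.card M ∣ Nat.card K := Subgroup.card_dvd_of_le hMK
  rw [Nat.card_congr e.toEquiv, h1] at h2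
  have h4 : 2 ^ 6 ∣ Nat.card K := (by norm_num : 2 ^ 6 ∣ 20160).trans (h2.trans h3)
  have h5 : 2 ^ 6 ∣ Nat.card S := by
    rw [S.card_eq_multiplicity]
    exact pow_dvd_pow 2 ((Nat.Prime.pow_dvd_iff_le_factorization Nat.prime_two Nat.card_pos.ne').1 h4)
  rw [hS] at h5
  revert h5
  decide

end Cfsg.Agent.H351.RG
end

-- part: H922/RG/MTwo
section
/-!
# S3509, `³D₄(q)`, outer automorphisms of the second class: `MTwo` from a base pair (helper922)

`C` the fixed points of `x₀`, `Base r C X Y P Q T`, `X, Y` the images of the unitriangular groups of `SL₂(q)`, `q ≥ 4`.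

* `mtwo_of_base` : `MTwo x₀ Φ r`, `M = ⟨X ^ C⟩`.
-/

set_option autoImplicit false
set_option linter.unusedSectionVars false

namespace Cfsg.Agent.H922.RG

open Cfsg Cfsg.Agent.H398.RG Cfsg.Agent.H884.NA Cfsg.Agent.H873.RG Cfsg.Agent.H911.TD
open Cfsg.Agent.ChevalleyStructure.SL2Hom (up lo mem_closure_SL2)

variable {K₀ : Type} [Group K₀]

/-- the fixed points -/
def Cx (x₀ : MulAut K₀) : Subgroup K₀ where
  carrier := {y | x₀ y = y}
  one_mem' := map_one x₀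
  mul_mem' := by
    intro a b ha hb
    change x₀ (a * b) = a * b
    rw [map_mul, show x₀ a = a from ha, show x₀ b = b from hb]
  inv_mem' := by
    intro a ha
    change x₀ a⁻¹ = a⁻¹
    rw [map_inv, show x₀ a = a from ha]

theorem mem_Cx {x₀ : MulAut K₀} {y : K₀} : y ∈ Cx x₀ ↔ x₀ y = y := Iff.rfl

/-- the range of the homomorphism of `ImgH` -/
theorem imgH_range {G : Type*} [Group G] {q : ℕ} {X X' : Subgroup G} (h : ImgH q X X') :
    ∃ (F : Type) (_ : Field F) (_ : Fintype F) (φ : Matrix.SpecialLinearGroup (Fin 2) F →* G), Fintype.card F = q ∧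
      φ.range = X ⊔ X' := by
  obtain ⟨F, _, _, φ, hF, h1, h2, h3⟩ := h
  refine ⟨F, _, _, φ, hF, le_antisymm ?_ (sup_le ?_ ?_)⟩
  · rintro _ ⟨A, rfl⟩
    have h4 : Subgroup.closure (Set.range (up (F := F)) ∪ Set.range (lo (F := F))) ≤ (X ⊔ X').comap φ := by
      rw [Subgroup.closure_le]
      rintro _ (⟨a, rfl⟩ | ⟨a, rfl⟩)
      · exact Subgroup.mem_sup_left ((h1 _).2 ⟨a, rfl⟩)
      · exact Subgroup.mem_sup_right ((h2 _).2 ⟨a, rfl⟩)
    exact h4 (mem_closure_SL2 A)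
  · intro y hy
    obtain ⟨t, rfl⟩ := (h1 y).1 hy
    exact ⟨_, rfl⟩
  · intro y hy
    obtain ⟨t, rfl⟩ := (h2 y).1 hy
    exact ⟨_, rfl⟩

/-- the condition for `q ≥ 4` -/
theorem cond_of_img {G : Type*} [Group G] {r : ℕ} [Fact r.Prime] {C X Y P Q T : Subgroup G} [Finite C]
    (hB : Base r C X Y P Q T) {q : ℕ} (h4 : 4 ≤ q) (hI : ImgH q X Y) : Cond C X Y := by
  obtain ⟨k, hk, hY⟩ := hB.conjY
  refine cond_of_perfect (p := r) hB.leX (hY ▸ cj_le_MK hk) hB.pgrp ?_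
  obtain ⟨F, _, _, φ, hF, hφ⟩ := imgH_range hI
  rw [← hφ, MonoidHom.range_eq_map, ← Subgroup.map_commutator]
  have h5 : commutator (Matrix.SpecialLinearGroup (Fin 2) F) = ⊤ :=
    Cfsg.Agent.TwoFusion.SLTwoFacts.commutator_eq_top (by rw [hF]; omega)
  rw [commutator_def] at h5
  rw [h5]

/-- `(q, k) ∈ {(4, 5), (5, 5), (9, 6)}`, `|P| ∤ 1440` -/
theorem not_exc_of {Y : Type*} [Group Y] {M P : Subgroup Y} [Finite M] (hperf : ⁅M, M⁆ = M)
    (hPn : ∀ g ∈ P, ∀ x ∈ M, g * x * g⁻¹ ∈ M)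
    (hPc : ∀ g ∈ P, (∀ x ∈ M, g * x = x * g) → g = 1) {q k : ℕ} (hP : ¬ Nat.card P ∣ 1440)
    (h : (q = 4 ∧ k = 5) ∨ (q = 5 ∧ k = 5) ∨ (q = 9 ∧ k = 6)) :
    ¬ Nonempty ((M ⧸ Subgroup.center M) ≃* alternatingGroup (Fin k)) := by
  rintro ⟨e⟩
  have h1 := H351.RG.card_dvd_aut hperf hPn hPc e
  have h5 : Nat.card (MulAut (alternatingGroup (Fin 5))) = 120 := by
    rw [← Nat.card_congr (Equiv.ofBijective _ (Cfsg.Agent.S2119.result 5 (by norm_num) (by norm_num))),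
      Nat.card_eq_fintype_card, Fintype.card_perm, Fintype.card_fin]
    decide
  rcases h with ⟨-, rfl⟩ | ⟨-, rfl⟩ | ⟨-, rfl⟩
  · rw [h5] at h1
    exact hP (h1.trans (by norm_num))
  · rw [h5] at h1
    exact hP (h1.trans (by norm_num))
  · rw [Cfsg.Agent.H824.ProdLem.card_aut_a6] at h1
    exact hP h1

/-- `M / Z(M)` is simple, nonabelian, not alternating, `q ≥ 4`: the exceptional pairs are excluded by a subgroup `R` of `C`,
`|R| ∤ 1440`, such that no element `≠ 1` of `R` centralises `M` -/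
theorem nsa_of_base' {G : Type*} [Group G] {r : ℕ} [Fact r.Prime] {C X Y P Q T : Subgroup G} [Finite C]
    (hB : Base r C X Y P Q T) {q e : ℕ} (hq : q = r ^ e) (h4 : 4 ≤ q) (hI : ImgH q X Y)
    (hR : q = 4 ∨ q = 5 ∨ q = 9 → ∃ R : Subgroup G, (∀ g ∈ R, ∀ m ∈ MK C X, g * m * g⁻¹ ∈ MK C X) ∧
      ¬ Nat.card R ∣ 1440 ∧ ∀ g ∈ R, (∀ m ∈ MK C X, g * m = m * g) → g = 1) :
    NSA (MK C X ⧸ Subgroup.center (MK C X)) := by
  have hc := cond_of_img hB h4 hI
  obtain ⟨-, -, hMC, -, hperf, h1, h2⟩ := hB.all hc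
  refine ⟨h1, h2, ?_⟩
  rintro ⟨n, hn, ⟨f⟩⟩
  by_cases hex : ExcAlt q n
  · have hfM : Finite (MK C X) := Finite.of_injective _ (Subgroup.inclusion_injective hMC)
    have h5 : (q = 4 ∧ n = 5) ∨ (q = 5 ∧ n = 5) ∨ (q = 9 ∧ n = 6) := by
      rcases hex with h | h | h | h
      · exact Or.inl h
      · exact Or.inr (Or.inl h)
      · exact Or.inr (Or.inr h)
      · omega
    obtain ⟨R, hRC, hRc, hR1⟩ := hR (by
      rcases h5 with h | h | h
      · exact Or.inl h.1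
      · exact Or.inr (Or.inl h.1)
      · exact Or.inr (Or.inr h.1))
    exact not_exc_of (P := R) hperf hRC hR1 hRc h5 ⟨f⟩
  · exact not_alt_base hB hq hI hn hex (QuotientGroup.mk' _) (QuotientGroup.mk'_surjective _)
      (by rw [QuotientGroup.ker_mk']) f

/-- `q ^ 3 ∤ 1440` -/
theorem cube_not_dvd {q : ℕ} (h : q = 4 ∨ q = 5 ∨ q = 9) : ¬ q ^ 3 ∣ 1440 := by
  rcases h with rfl | rfl | rfl <;> norm_num

/-- the same with a subgroup `R` of order `q ^ 3` -/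
theorem nsa_of_base {G : Type*} [Group G] {r : ℕ} [Fact r.Prime] {C X Y P Q T : Subgroup G} [Finite C]
    (hB : Base r C X Y P Q T) {q e : ℕ} (hq : q = r ^ e) (h4 : 4 ≤ q) (hI : ImgH q X Y)
    (hR : q = 4 ∨ q = 5 ∨ q = 9 → ∃ R : Subgroup G, (∀ g ∈ R, ∀ m ∈ MK C X, g * m * g⁻¹ ∈ MK C X) ∧
      Nat.card R = q ^ 3 ∧ ∀ g ∈ R, (∀ m ∈ MK C X, g * m = m * g) → g = 1) :
    NSA (MK C X ⧸ Subgroup.center (MK C X)) :=
  nsa_of_base' hB hq h4 hI fun h => by
    obtain ⟨R, h1, h2, h3⟩ := hR h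
    exact ⟨R, h1, h2 ▸ cube_not_dvd h, h3⟩

/-- **`MTwo` from a base pair**, `R` any group of fixed points with `|R| ∤ 1440` -/
theorem mtwo_of_base' [Finite K₀] {x₀ : MulAut K₀} {F : Type} [Field F] (Φ : Matrix.SpecialLinearGroup (Fin 2) F →* K₀)
    {r : ℕ} [Fact r.Prime] {X Y P Q T : Subgroup K₀} (hB : Base r (Cx x₀) X Y P Q T) {q e : ℕ} (hq : q = r ^ e)
    (h4 : 4 ≤ q) (hI : ImgH q X Y)
    (hR : q = 4 ∨ q = 5 ∨ q = 9 → ∃ R ≤ Cx x₀, ¬ Nat.card R ∣ 1440)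
    (hC : ∀ y, x₀ y = y → (∀ m ∈ MK (Cx x₀) X, y * m = m * y) → y = 1)
    (hΦ : ∀ u ∈ X, ∀ B, u * Φ B = Φ B * u) : MTwo x₀ Φ r := by
  have hc := cond_of_img hB h4 hI
  obtain ⟨hXM, -, hMC, hn, hperf, -, -⟩ := hB.all hc
  have hNSA := nsa_of_base' hB hq h4 hI (fun h => by
    obtain ⟨R, hRC, hRc⟩ := hR h
    exact ⟨R, fun g hg m hm => conj_MK (hRC hg) hm, hRc, fun g hg hm => hC g (hRC hg) hm⟩)
  refine ⟨MK (Cx x₀) X, fun m hm => hMC hm, fun y hy m hm => conj_MK (show y ∈ Cx x₀ from hy) hm, hperf, hNSA, hC, ?_⟩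
  obtain ⟨⟨x, hx⟩, hx1⟩ := (Subgroup.ne_bot_iff_exists_ne_one).1 hB.ne
  exact ⟨x, hXM hx, fun h => hx1 (Subtype.ext h), (imgH_props hq hI).2.2 x hx, hΦ x hx⟩

/-- **`MTwo` from a base pair**, `K` a group of fixed points, `⟨X ^ K⟩` normalised by all fixed points -/
theorem mtwo_of_baseN [Finite K₀] {x₀ : MulAut K₀} {F : Type} [Field F] (Φ : Matrix.SpecialLinearGroup (Fin 2) F →* K₀)
    {r : ℕ} [Fact r.Prime] {K X Y P Q T : Subgroup K₀} (hB : Base r K X Y P Q T) (hK : ∀ k ∈ K, x₀ k = k)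
    (hN : ∀ y, x₀ y = y → ∀ m ∈ MK K X, y * m * y⁻¹ ∈ MK K X) {q e : ℕ} (hq : q = r ^ e)
    (h4 : 4 ≤ q) (hI : ImgH q X Y)
    (hR : q = 4 ∨ q = 5 ∨ q = 9 → ∃ R : Subgroup K₀, (∀ g ∈ R, x₀ g = g) ∧ Nat.card R = q ^ 3)
    (hC : ∀ y, x₀ y = y → (∀ m ∈ MK K X, y * m = m * y) → y = 1)
    (hΦ : ∀ u ∈ X, ∀ B, u * Φ B = Φ B * u) : MTwo x₀ Φ r := by
  have hc := cond_of_img hB h4 hI
  obtain ⟨hXM, -, hMC, hn, hperf, -, -⟩ := hB.all hc
  have hNSA := nsa_of_base hB hq h4 hI (fun h => by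
    obtain ⟨R, hRC, hRc⟩ := hR h
    exact ⟨R, fun g hg m hm => hN g (hRC g hg) m hm, hRc, fun g hg hm => hC g (hRC g hg) hm⟩)
  refine ⟨MK K X, fun m hm => hK m (hMC hm), hN, hperf, hNSA, hC, ?_⟩
  obtain ⟨⟨x, hx⟩, hx1⟩ := (Subgroup.ne_bot_iff_exists_ne_one).1 hB.ne
  exact ⟨x, hXM hx, fun h => hx1 (Subtype.ext h), (imgH_props hq hI).2.2 x hx, hΦ x hx⟩

end Cfsg.Agent.H922.RG
end

-- part: H202/TD/TorOne
section
/-!
# S3509, `³D₄(q)`: the torus and the reflections (helper202)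

* `act_lo` : the action of the torus on the negative simple root groups;
* `n_conj_T` : `n i ⁻¹ t n i = Φ i (hS (χ i t))⁻¹ t`;
* `Good3 t` : the characters of `t` are cube roots of unity in `F_q`; `good_n0`, `good_n1`.
-/

set_option autoImplicit false
set_option linter.unusedSectionVars false
set_option maxHeartbeats 400000

namespace Cfsg.Agent.H202.TD

open CoxeterSystem Cfsg.Agent.ChevalleyStructure.CoxeterGeom Cfsg.Agent.Tits.Roots Cfsg.Agent.Tits.Core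
  Cfsg.Agent.Tits.Exchange Cfsg.Agent.Nodes.Reps Cfsg.Agent.Nodes.BNOf Cfsg.Agent.Nodes.StabComb
  Cfsg.Agent.Nodes.Bruhat Cfsg.Agent.Nodes.OppDec Cfsg.Agent.Nodes.LeviDec Cfsg.Agent.Nodes.RGDTwGen
  Cfsg.Agent.Nodes.RGDChev Cfsg.Agent.Nodes.RGDFold Cfsg.Agent.Nodes.RGDFoldSL Cfsg.Agent.Nodes.NormalForm
open Cfsg.Agent.KFacts.RgdOpp Cfsg.Agent.KFacts.RgdAut Cfsg.Agent.KFacts.RgdDiag Cfsg.Agent.KFacts.RgdRigid
  Cfsg.Agent.KFacts.RgdField Cfsg.Agent.KFacts.RgdTau Cfsg.Agent.KFacts.RgdNodes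
open Cfsg.Lie Cfsg.Agent.ChevalleyStructure Cfsg.Agent.ChevalleyStructure.Elts
open Cfsg.Agent.ChevalleyStructure.SL2Hom (up lo mem_closure_SL2)
open Cfsg.Agent.KFacts.TwDFour.Out
open Cfsg.Agent.Nodes.RGDTwD4 Cfsg.Agent.Nodes.RGDTwNode.D4
open Cfsg.Agent.CpAut.RgdFix Cfsg.Agent.CpAut.RgdConj Cfsg.Agent.CpAut.RgdTwStd Cfsg.Agent.CpAut.RgdTwD4
open Cfsg.Agent.H28.FamFour (st_mul st_one)
open Cfsg.Agent.BpExc.FamField (exists_pow_eq forall_pow_iff)
open Cfsg.Agent.H866.D4Wf.Frame Cfsg.Agent.H866.D4Wf.SLThree Cfsg.Agent.H866.TD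

section SL

variable {F : Type*} [Field F]

theorem lo_form {a : F} (_ha : a ≠ 0) : lo a = up a⁻¹ * wS (-a⁻¹) * up a⁻¹ := by
  unfold wS
  rw [inv_neg, neg_neg, inv_inv]
  have e : up a⁻¹ * up (-a⁻¹) = (1 : Matrix.SpecialLinearGroup (Fin 2) F) := by
    rw [← up_inv', mul_inv_cancel]
  have e' : up (-a⁻¹) * up a⁻¹ = (1 : Matrix.SpecialLinearGroup (Fin 2) F) := by
    rw [← up_inv', inv_mul_cancel]
  calc lo a = 1 * lo a * 1 := by rw [one_mul, mul_one]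
    _ = (up a⁻¹ * up (-a⁻¹)) * lo a * (up (-a⁻¹) * up a⁻¹) := by rw [e, e']
    _ = _ := by simp only [mul_assoc]

theorem wS_eq {c : F} (hc : c ≠ 0) : wS c = hS c * wS 1 := by
  apply Subtype.ext
  rw [Matrix.SpecialLinearGroup.coe_mul, coe_wS hc, coe_hS hc, coe_wS one_ne_zero, Matrix.mul_fin_two]
  simp

theorem wS_conj {c : F} (hc : c ≠ 0) : (wS 1)⁻¹ * hS c * wS 1 = (hS c)⁻¹ := by
  rw [mul_assoc, ← wS_eq hc, inv_mul_eq_iff_eq_mul, eq_mul_inv_iff_mul_eq]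
  apply Subtype.ext
  rw [Matrix.SpecialLinearGroup.coe_mul, coe_wS hc, coe_hS hc, coe_wS one_ne_zero, Matrix.mul_fin_two]
  simp [hc]

end SL

variable {K : Type} [Field K] [Fintype K] {q : ℕ} (hK : Fintype.card K = q ^ 3)
  {φ : K →+* K} (hφ : ∀ x, φ x = x ^ q)

include hK in
/-- the action of the torus on the negative root groups -/
theorem act_lo {t : ↥(twistedD4 K q)} (ht : t ∈ T K q) (i : Fin 2) (a : KD φ i) :
    t * PhiD hφ hK i (lo a) * t⁻¹ = PhiD hφ hK i (lo ((chD hφ hK i t)⁻¹ * a)) := by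
  obtain ⟨r, hr⟩ := CharP.exists K
  have : Fact r.Prime := ⟨CharP.char_is_prime K r⟩
  have : Finite CoxeterMatrix.G₂.Group := finiteW cs
  have R := rgd' hK hφ r
  have hlo0 : lo (0 : KD φ i) = 1 := by
    apply Subtype.ext
    ext s t
    (revert s t; simp only [lo, _root_.Fin.forall_fin_succ, _root_.Matrix.of_apply, _root_.Matrix.cons_val', _root_.Matrix.cons_val_fin_one, _root_.Matrix.SpecialLinearGroup.coe_one, _root_.SetLike.coe_eq_coe, Fin.isValue, _root_.Matrix.cons_val_zero, _root_.Matrix.cons_val_succ, _root_.IsEmpty.forall_iff, _root_.and_true, _root_.Matrix.one_apply_eq, Nat.reduceAdd, _root_.Fin.succ_zero_eq_one, _root_.ne_eq, _root_.zero_ne_one, _root_.not_false_eq_true, _root_.Matrix.one_apply_ne, _root_.and_self, _root_.Fin.succ_ne_zero, _root_.true_and])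
  by_cases ha : a = 0
  · rw [ha, mul_zero, hlo0, map_one, mul_one, mul_inv_cancel]
  obtain ⟨b, hb⟩ : ∃ b, t * PhiD hφ hK i (lo a) * t⁻¹ = PhiD hφ hK i (lo b) := by
    refine (mem_negX hK hφ i _).1 ?_
    rw [← R.tor _ (isRoot_sr cs isCartan i).neg t ht]
    exact conj_mem_cj.2 ((mem_negX hK hφ i _).2 ⟨_, rfl⟩)
  have hup : ∀ a, PhiD hφ hK i (up a) ∈ X φ q (sr i) := fun a => (mem_X hφ hK i _).2 ⟨a, rfl⟩
  have hwT : ∀ c : KD φ i, c ≠ 0 → Rp cs R.nsys (cs.simple i) (PhiD hφ hK i (wS c)) := by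
    intro c hc
    rw [wS_eq hc, map_mul, PhiD_wS]
    have := (rp_of_mem (cs := cs) (hN := R.nsys) (PhiD_hS hφ hK i c hc)).mul (rp_simple cs R.nsys i)
    rwa [one_mul] at this
  have hb0 : b ≠ 0 := by
    rintro rfl
    rw [hlo0, map_one] at hb
    have h1 : PhiD hφ hK i (lo a) = 1 := by
      have h2 : PhiD hφ hK i (lo a) = t⁻¹ * (t * PhiD hφ hK i (lo a) * t⁻¹) * t := by group
      rw [h2, hb]; group
    rw [lo_form ha, map_mul, map_mul] at h1
    have h3 : PhiD hφ hK i (wS (-a⁻¹)) ∈ RGD.B cs isCartan (T K q) (X φ q) := by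
      have hXB : ∀ a, PhiD hφ hK i (up a) ∈ RGD.B cs isCartan (T K q) (X φ q) := fun a =>
        RGD.X_le_B (isRoot_sr cs isCartan i) (sr_nonneg i) (hup a)
      have e : PhiD hφ hK i (wS (-a⁻¹)) = (PhiD hφ hK i (up a⁻¹))⁻¹ * (PhiD hφ hK i (up a⁻¹) *
        PhiD hφ hK i (wS (-a⁻¹)) * PhiD hφ hK i (up a⁻¹)) * (PhiD hφ hK i (up a⁻¹))⁻¹ := by group
      rw [e, h1]
      exact mul_mem (mul_mem (inv_mem (hXB _)) (one_mem _)) (inv_mem (hXB _))
    have h1 := cell_one_of_mem (hN := R.nsys) h3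
    have h2 := cell_of_rp (h := isCartan) (X := X φ q) (hwT (-a⁻¹) (neg_ne_zero.2 (inv_ne_zero ha)))
    have h3 := Cell.unique R h1 h2
    have h4 := cs.length_simple i
    rw [← h3, cs.length_one] at h4
    exact absurd h4 (by norm_num)
  obtain ⟨c, hc⟩ : ∃ c, c = chD hφ hK i t := ⟨_, rfl⟩
  have hc0 : c ≠ 0 := by rw [hc]; exact ch_ne_zero hK hφ ht i
  have hb' := hb
  rw [lo_form ha, lo_form hb0, map_mul, map_mul, map_mul, map_mul] at hb
  have h1 : PhiD hφ hK i (up (c * a⁻¹)) * (t * PhiD hφ hK i (wS (-a⁻¹)) * t⁻¹) * PhiD hφ hK i (up (c * a⁻¹)) =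
      PhiD hφ hK i (up b⁻¹) * PhiD hφ hK i (wS (-b⁻¹)) * PhiD hφ hK i (up b⁻¹) := by
    rw [← hb, hc, ← act_up hK hφ ht i]
    group
  have hrt : Rp cs R.nsys (cs.simple i) (t * PhiD hφ hK i (wS (-a⁻¹)) * t⁻¹) := by
    have := ((rp_of_mem (cs := cs) (hN := R.nsys) ht).mul (hwT (-a⁻¹) (neg_ne_zero.2 (inv_ne_zero ha)))).mul
      (rp_of_mem (cs := cs) (hN := R.nsys) (inv_mem ht))
    rwa [one_mul, mul_one] at this
  have hU : ∀ a, PhiD hφ hK i (up a) ∈ RGD.Sup (X φ q) (RGD.Pos cs isCartan) := fun a =>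
    RGD.le_Sup (S := RGD.Pos cs isCartan) ⟨isRoot_sr cs isCartan i, sr_nonneg i⟩ (hup a)
  have hN : ∀ a, PhiD hφ hK i (up a) ∈ RGD.Sup (X φ q) (NW cs isCartan (cs.simple i)) := fun a =>
    RGD.le_Sup (sr_mem_NW R i) (hup a)
  obtain ⟨h2, -, -⟩ := normal_form_unique R (hU _) (hU _) hrt (hwT (-b⁻¹) (neg_ne_zero.2 (inv_ne_zero hb0))) (hN _) (hN _) h1
  have h3 := (coordD hφ hK i).inj h2
  rw [hb', ← hc]
  congr 2
  rw [← inv_inv b, ← h3]
  field_simp

include hK in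
/-- conjugation of the torus by the reflections -/
theorem n_conj_T {t : ↥(twistedD4 K q)} (ht : t ∈ T K q) (i : Fin 2) :
    (n hφ i)⁻¹ * t * n hφ i = (PhiD hφ hK i (hS (chD hφ hK i t)))⁻¹ * t := by
  obtain ⟨c, hc⟩ : ∃ c, c = chD hφ hK i t := ⟨_, rfl⟩
  have hc0 : c ≠ 0 := by rw [hc]; exact ch_ne_zero hK hφ ht i
  have h1 : t * n hφ i * t⁻¹ = PhiD hφ hK i (wS c) := by
    have e1 := act_up hK hφ ht i 1
    have e2 := act_lo hK hφ ht i (-1⁻¹)
    rw [mul_one, ← hc] at e1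
    rw [← hc] at e2
    have e3 : c⁻¹ * -(1 : KD φ i)⁻¹ = -c⁻¹ := by rw [inv_one, mul_neg, mul_one]
    rw [e3] at e2
    unfold wS
    rw [map_mul, map_mul, ← e1, ← e2, ← PhiD_wS hφ hK i]
    show t * PhiD hφ hK i (up 1 * (lo (-(1 : KD φ i)⁻¹) * up 1)) * t⁻¹ = _
    rw [map_mul, map_mul]
    group
  rw [wS_eq hc0, map_mul, PhiD_wS] at h1
  have h2 := congrArg (PhiD hφ hK i) (wS_conj hc0)
  rw [map_mul, map_mul, map_inv, map_inv, PhiD_wS] at h2
  rw [← hc, ← h2]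
  have h3 : t * n hφ i = PhiD hφ hK i (hS c) * n hφ i * t := mul_inv_eq_iff_eq_mul.1 h1
  rw [mul_assoc, h3]
  simp only [mul_assoc]

include hK in
theorem ch_inv {t : ↥(twistedD4 K q)} (ht : t ∈ T K q) (i : Fin 2) : chD hφ hK i t⁻¹ = (chD hφ hK i t)⁻¹ := by
  refine eq_inv_of_mul_eq_one_left ?_
  rw [← ch_mul hK hφ (inv_mem ht) ht, inv_mul_cancel, ch_one hK hφ]

include hK in
theorem ch10 (e : KD φ 1) (he : e ≠ 0) (hf : φ (e : K) = e) :
    (chD hφ hK 0 (PhiD hφ hK 1 (hS e)) : K) = ((e : K) ^ 3)⁻¹ := by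
  have he' : (e : K) ≠ 0 := fun h => he (Subtype.ext h)
  apply chD_eq hφ hK 0 (PhiD_hS hφ hK 1 e he)
  have h1 : ((PhiD hφ hK 1 (hS e) : ↥(twistedD4 K q)) : GL chevD4.Idx K) =
      Elts.hG Nodes.RGDTwD4.hp.inList 18 (e : K) * (Elts.hG Nodes.RGDTwD4.hp.inList 13 (e : K) *
        (Elts.hG Nodes.RGDTwD4.hp.inList 12 (e : K) * 1)) :=
    Cfsg.Agent.ParSys.Fam.D4.coe_hS1 hφ (D4Fixed.twisted_le_fix hK hφ) e hf
  rw [h1]
  have h2 := (Cfsg.Agent.ParSys.Fam.D4.sc18 (K := K) he').1 1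
  have e3 : (e : K)⁻¹ * ((e : K)⁻¹ * ((e : K)⁻¹ * 1)) * 1 = ((e : K) ^ 3)⁻¹ := by
    rw [pow_succ, pow_two, mul_inv, mul_inv]; ring
  rw [e3] at h2
  exact h2

/-- the characters are cube roots of unity in `F_q` -/
structure Good3 (t : ↥(twistedD4 K q)) : Prop where
  mem : t ∈ T K q
  h0 : chD hφ hK 0 t ^ 3 = 1
  ne : chD hφ hK 0 t ≠ 1
  h1 : (chD hφ hK 1 t : K) ^ 3 = 1
  fx : φ (chD hφ hK 1 t : K) = chD hφ hK 1 t

variable {hK hφ}

theorem good_n0 {t : ↥(twistedD4 K q)} (ht : Good3 hK hφ t) : Good3 hK hφ ((n hφ 0)⁻¹ * t * n hφ 0) ∧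
    chD hφ hK 0 ((n hφ 0)⁻¹ * t * n hφ 0) = (chD hφ hK 0 t)⁻¹ ∧
      (chD hφ hK 1 ((n hφ 0)⁻¹ * t * n hφ 0) : K) = (chD hφ hK 0 t : K) * (chD hφ hK 1 t : K) := by
  have hc0 := ch_ne_zero hK hφ ht.mem 0
  have hP := PhiD_hS hφ hK 0 _ hc0
  have hc0' : (chD hφ hK 0 t : K) ≠ 0 := fun h => hc0 (Subtype.ext h)
  have e0 : chD hφ hK 0 ((n hφ 0)⁻¹ * t * n hφ 0) = (chD hφ hK 0 t)⁻¹ := by
    rw [n_conj_T hK hφ ht.mem, ch_mul hK hφ (inv_mem hP) ht.mem, ch_inv hK hφ hP, chD_hS hφ hK 0 _ hc0]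
    field_simp
  have e1 : (chD hφ hK 1 ((n hφ 0)⁻¹ * t * n hφ 0) : K) = (chD hφ hK 0 t : K) * (chD hφ hK 1 t : K) := by
    rw [n_conj_T hK hφ ht.mem, ch_mul hK hφ (inv_mem hP) ht.mem, ch_inv hK hφ hP]
    show (chD hφ hK 1 (PhiD hφ hK 0 (hS (chD hφ hK 0 t))) : K)⁻¹ * (chD hφ hK 1 t : K) = _
    rw [ch01 hφ hK _ hc0, inv_inv]
  have h0K : (chD hφ hK 0 t : K) ^ 3 = 1 := congrArg (fun a : KD φ 0 => (a : K)) ht.h0
  refine ⟨⟨?_, ?_, ?_, ?_, ?_⟩, e0, e1⟩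
  · rw [n_conj_T hK hφ ht.mem]
    exact mul_mem (inv_mem hP) ht.mem
  · rw [e0, inv_pow, ht.h0, inv_one]
  · rw [e0]
    intro h
    exact ht.ne (inv_eq_one.1 h)
  · rw [e1, mul_pow, h0K, ht.h1, one_mul]
  · rw [e1, map_mul, ht.fx]
    congr 1
    exact mem_Fx.1 (chD hφ hK 0 t).2

theorem good_n1 {t : ↥(twistedD4 K q)} (ht : Good3 hK hφ t) : Good3 hK hφ ((n hφ 1)⁻¹ * t * n hφ 1) ∧
    chD hφ hK 0 ((n hφ 1)⁻¹ * t * n hφ 1) = chD hφ hK 0 t ∧
      chD hφ hK 1 ((n hφ 1)⁻¹ * t * n hφ 1) = (chD hφ hK 1 t)⁻¹ := by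
  have hc1 := ch_ne_zero hK hφ ht.mem 1
  have hP := PhiD_hS hφ hK 1 _ hc1
  have e0 : chD hφ hK 0 ((n hφ 1)⁻¹ * t * n hφ 1) = chD hφ hK 0 t := by
    rw [n_conj_T hK hφ ht.mem, ch_mul hK hφ (inv_mem hP) ht.mem, ch_inv hK hφ hP]
    have h1 : chD hφ hK 0 (PhiD hφ hK 1 (hS (chD hφ hK 1 t))) = 1 := by
      apply Subtype.ext
      rw [ch10 hK hφ _ hc1 ht.fx, ht.h1, inv_one]
      rfl
    rw [h1, inv_one, one_mul]
  have e1 : chD hφ hK 1 ((n hφ 1)⁻¹ * t * n hφ 1) = (chD hφ hK 1 t)⁻¹ := by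
    rw [n_conj_T hK hφ ht.mem, ch_mul hK hφ (inv_mem hP) ht.mem, ch_inv hK hφ hP, chD_hS hφ hK 1 _ hc1]
    field_simp
  have e1' : (chD hφ hK 1 ((n hφ 1)⁻¹ * t * n hφ 1) : K) = (chD hφ hK 1 t : K)⁻¹ := by rw [e1]; rfl
  refine ⟨⟨?_, ?_, ?_, ?_, ?_⟩, e0, e1⟩
  · rw [n_conj_T hK hφ ht.mem]
    exact mul_mem (inv_mem hP) ht.mem
  · rw [e0, ht.h0]
  · rw [e0]
    exact ht.ne
  · rw [e1', inv_pow, ht.h1, inv_one]
  · rw [e1', map_inv₀, ht.fx]

/-! ### the automorphisms `conj t * st q τ` -/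

section beta

variable {τ : K ≃+* K}

theorem beta_n (t y : ↥(twistedD4 K q)) (i : Fin 2) :
    (MulAut.conj t * st q τ) (n hφ i * y * (n hφ i)⁻¹) =
      n hφ i * ((MulAut.conj ((n hφ i)⁻¹ * t * n hφ i) * st q τ) y) * (n hφ i)⁻¹ := by
  show t * st q τ (n hφ i * y * (n hφ i)⁻¹) * t⁻¹ =
    n hφ i * ((n hφ i)⁻¹ * t * n hφ i * st q τ y * ((n hφ i)⁻¹ * t * n hφ i)⁻¹) * (n hφ i)⁻¹
  rw [map_mul, map_mul, map_inv, st_n]
  group

variable (hK hφ) in
/-- no fixed points on the root group of `z` -/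
def NoFix (τ : K ≃+* K) (z : Fin 2 → ℤ) : Prop :=
  ∀ t, Good3 hK hφ t → ∀ y ∈ X φ q z, (MulAut.conj t * st q τ) y = y → y = 1

variable (hK hφ) in
/-- fixed points on the root group of `z` -/
def HasFix (τ : K ≃+* K) (z : Fin 2 → ℤ) : Prop :=
  ∀ t, Good3 hK hφ t → ∃ y ∈ X φ q z, (MulAut.conj t * st q τ) y = y ∧ y ≠ 1

theorem good_n {t : ↥(twistedD4 K q)} (ht : Good3 hK hφ t) (i : Fin 2) :
    Good3 hK hφ ((n hφ i)⁻¹ * t * n hφ i) := by
  fin_cases i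
  · exact (good_n0 ht).1
  · exact (good_n1 ht).1

theorem n_conj' (hK : Fintype.card K = q ^ 3) (i : Fin 2) {x : Fin 2 → ℤ} (hx : x ∈ rts) {a : ↥(twistedD4 K q)}
    (ha : a ∈ X φ q (_root_.Cfsg.Agent.ChevalleyStructure.CoxeterGeom.rep cs isCartan (cs.simple i) x)) : (n hφ i)⁻¹ * a * n hφ i ∈ X φ q x := by
  obtain ⟨r, hr⟩ := CharP.exists K
  have : Fact r.Prime := ⟨CharP.char_is_prime K r⟩
  rw [← (rgd' hK hφ r).conj i x (isRoot_of_mem hx)] at ha
  exact mem_cj.1 ha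

theorem NoFix.step {z : Fin 2 → ℤ} (h : NoFix hK hφ τ z) (hz : z ∈ rts) (i : Fin 2) :
    NoFix hK hφ τ (_root_.Cfsg.Agent.ChevalleyStructure.CoxeterGeom.rep cs isCartan (cs.simple i) z) := by
  intro t ht y hy hf
  have h1 := n_conj' (hφ := hφ) hK i hz hy
  have h2 := h _ (good_n ht i) _ h1 (by
    have h3 := beta_n (hφ := hφ) (τ := τ) t ((n hφ i)⁻¹ * y * n hφ i) i
    have e : n hφ i * ((n hφ i)⁻¹ * y * n hφ i) * (n hφ i)⁻¹ = y := by group
    rw [e, hf] at h3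
    have h4 : (MulAut.conj ((n hφ i)⁻¹ * t * n hφ i) * st q τ) ((n hφ i)⁻¹ * y * n hφ i) =
      (n hφ i)⁻¹ * y * n hφ i := by
      conv_rhs => rw [h3]
      group
    exact h4)
  have e : y = n hφ i * ((n hφ i)⁻¹ * y * n hφ i) * (n hφ i)⁻¹ := by group
  rw [e, h2]; group

theorem HasFix.step {z : Fin 2 → ℤ} (h : HasFix hK hφ τ z) (hz : z ∈ rts) (i : Fin 2) :
    HasFix hK hφ τ (_root_.Cfsg.Agent.ChevalleyStructure.CoxeterGeom.rep cs isCartan (cs.simple i) z) := by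
  intro t ht
  obtain ⟨y, hy, hf, hy1⟩ := h _ (good_n ht i)
  refine ⟨n hφ i * y * (n hφ i)⁻¹, n_conj hK hφ i hz hy, ?_, ?_⟩
  · rw [beta_n, hf]
  · intro h1
    apply hy1
    have e : y = (n hφ i)⁻¹ * (n hφ i * y * (n hφ i)⁻¹) * n hφ i := by group
    rw [e, h1]; group

theorem beta_up {t : ↥(twistedD4 K q)} (ht : t ∈ T K q) (i : Fin 2) (a : KD φ i) :
    (MulAut.conj t * st q τ) (PhiD hφ hK i (up a)) = PhiD hφ hK i (up (chD hφ hK i t * rs hφ τ i a)) := by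
  rw [MulAut.mul_apply, MulAut.conj_apply, st_up, act_up hK hφ ht]

theorem noFix_sr0 (hq : IsPrimePow q) (hτ : τ ^ 3 = 1) : NoFix hK hφ τ ![1, 0] := by
  intro t ht y hy hf
  rw [← sr0_eq] at hy
  obtain ⟨a, rfl⟩ := (mem_X hφ hK 0 y).1 hy
  rw [beta_up ht.mem, rs_zero hK hφ hq hτ] at hf
  have h1 := (coordD hφ hK 0).inj hf
  by_cases ha : a = 0
  · rw [ha]
    exact (coordD hφ hK 0).zero
  · exact absurd (mul_right_cancel₀ ha (h1.trans (one_mul a).symm)) ht.ne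

theorem noFix_long (hq : IsPrimePow q) (hτ : τ ^ 3 = 1) {z : Fin 2 → ℤ}
    (hz : z ∈ [(![1, 0] : Fin 2 → ℤ), ![1, 3], ![2, 3], ![-1, 0], ![-1, -3], ![-2, -3]]) : NoFix hK hφ τ z := by
  have h1 := noFix_sr0 (hK := hK) (hφ := hφ) hq hτ
  have h2 := h1.step (by decide) 1
  rw [rep1] at h2
  have h3 := h2.step (by decide) 0
  rw [rep0] at h3
  have h4 := h1.step (by decide) 0
  rw [rep0] at h4
  have h5 := h4.step (by decide) 1
  rw [rep1] at h5
  have h6 := h5.step (by decide) 0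
  rw [rep0] at h6
  norm_num at h2 h3 h4 h5 h6
  simp only [List.mem_cons, List.not_mem_nil, or_false] at hz
  rcases hz with rfl | rfl | rfl | rfl | rfl | rfl
  · exact h1
  · exact h2
  · exact h3
  · exact h4
  · exact h5
  · exact h6

end beta

end Cfsg.Agent.H202.TD
end

private theorem dce_8ed70c9705e4 : _root_.True := by
  try have : _root_.True := by simp only [_root_.Cfsg.Agent.H202.TD.HasFix.congr_simp]
  try have : _root_.True := by simp only [_root_.Cfsg.Agent.H202.TD.NoFix.congr_simp]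
  exact _root_.True.intro
end

-- part: H244/TD/OneAll
section
prune_inst 0x400018000040100000180000e0001802900004000008880000200a000480c8200d0389210800100a1820204800040028121804608000000000000400002006091080000021000000000080000000000000000000000000000000000000000000000400000
set_option linter.all false
open scoped Cfsg.Agent.FastGrp

-- part: H244/TD/Gen
section
/-!
# Fixed points of automorphisms preserving all root groups (helper244)

`σ` an automorphism of a group with root group data, `σ (X x) ≤ X x` for all roots `x`.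
* `fixed_U` : the fixed points of `σ` in `U` are generated by the fixed points in the `X x`;
* `fixed_form` : the normal form of a fixed element has fixed factors;
* `fixed_mu` : the `μ`-element of a fixed element of `X x` is a product of fixed elements of `X x`, `X (-x)`.
-/

set_option autoImplicit false
set_option linter.unusedSectionVars false

namespace Cfsg.Agent.H244.TD

open CoxeterSystem Cfsg.Agent.ChevalleyStructure.CoxeterGeom Cfsg.Agent.Tits.Roots Cfsg.Agent.Tits.Core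
  Cfsg.Agent.Tits.Exchange Cfsg.Agent.Nodes.Reps Cfsg.Agent.Nodes.BNOf Cfsg.Agent.Nodes.StabComb
  Cfsg.Agent.Nodes.Bruhat Cfsg.Agent.Nodes.OppDec Cfsg.Agent.Nodes.LeviDec Cfsg.Agent.Nodes.NormalForm
  Cfsg.Agent.Nodes.Comb Cfsg.Agent.Nodes.Coroot Cfsg.Agent.Tits.RootComb
open scoped commutatorElement

variable {I W Y : Type*} [Fintype I] [DecidableEq I] [Group W] [Group Y] {M : CoxeterMatrix I}
  {cs : CoxeterSystem M W} {A : I → I → ℤ} {h : IsCartan M A} {p : ℕ} {T : Subgroup Y} {n : I → Y}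
  {X : (I → ℤ) → Subgroup Y}

/-- the fixed points -/
def Fx (σ : MulAut Y) : Subgroup Y := MonoidHom.eqLocus σ.toMonoidHom (MonoidHom.id Y)

/-- `σ` preserves the root groups -/
def PX (cs : CoxeterSystem M W) (h : IsCartan M A) (X : (I → ℤ) → Subgroup Y) (σ : MulAut Y) : Prop :=
  ∀ x, IsRoot cs h x → ∀ a ∈ X x, σ a ∈ X x

theorem PX.sup {σ : MulAut Y} (hσ : PX cs h X σ) {S : Set (I → ℤ)} (hS : ∀ x ∈ S, IsRoot cs h x) {a : Y}
    (ha : a ∈ RGD.Sup X S) : σ a ∈ RGD.Sup X S := by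
  have h1 : RGD.Sup X S ≤ (RGD.Sup X S).comap σ.toMonoidHom :=
    RGD.Sup_le fun x hx a ha => RGD.le_Sup hx (hσ x (hS x hx) a ha)
  exact h1 ha

variable (R : RGD cs h p T n X)

include R

theorem PX.conj {σ : MulAut Y} (hσ : PX cs h X σ) (i : I) :
    PX cs h X ((MulAut.conj (n i))⁻¹ * σ * MulAut.conj (n i)) := by
  intro x hx a ha
  have h1 := R.conj_mem (rp_simple cs R.nsys i) hx ha
  have h2 := hσ _ (hx.act (cs.simple i)) _ h1
  have h3 := R.conj_mem' (rp_simple cs R.nsys i) (hx.act (cs.simple i)) h2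
  rw [rep_inv_apply] at h3
  rw [MulAut.mul_apply, MulAut.mul_apply, MulAut.conj_apply, ← map_inv, MulAut.conj_apply, inv_inv]
  exact h3

theorem fixed_PW [Finite W] : ∀ (w : W) {σ : MulAut Y}, PX cs h X σ → ∀ {a : Y}, a ∈ RGD.Sup X (PW cs h w) →
    σ a = a → a ∈ RGD.Sup (fun x => X x ⊓ Fx σ) (PW cs h w) := by
  intro w
  induction hn : cs.length (w0 cs) - cs.length w using Nat.strong_induction_on generalizing w with
  | _ N ih =>
  intro σ hσ a ha hc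
  by_cases hw0 : w = w0 cs
  · subst hw0
    rw [PW_w0, Sup_empty, Subgroup.mem_bot] at ha
    rw [ha]; exact one_mem _
  -- a simple root in `PW w`
  obtain ⟨i, hi⟩ : ∃ i, cs.length w < cs.length (w * cs.simple i) := by
    by_contra hcon
    push Not at hcon
    apply hw0
    have h1 : w * w0 cs = 1 := by
      refine eq_one_of_nonneg cs h _ fun j => ?_
      change 0 ≤ rep cs h (w * w0 cs) (sr j)
      rw [rep_mul_apply]
      have h3 : ∀ x, IsRoot cs h x → 0 ≤ x → rep cs h w x ≤ 0 := by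
        intro x hx h0
        have h4 : ∀ j, rep cs h w (sr j) ≤ 0 := fun j =>
          nonpos_of_lt cs h w j (lt_of_le_of_ne (hcon j) (cs.length_mul_simple_ne w j))
        have h5 : x = ∑ k, x k • sr k := by
          funext k
          rw [Finset.sum_apply, Finset.sum_eq_single k (fun b _ hb => by
            rw [Pi.smul_apply, sr_ne hb.symm, smul_zero]) (by simp only [_root_.Finset.mem_univ, _root_.not_true_eq_false, _root_.Pi.smul_apply, _root_.Int.zsmul_eq_mul, _root_.mul_eq_zero, _root_.IsEmpty.forall_iff]), Pi.smul_apply, sr_self, smul_eq_mul,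
            mul_one]
        rw [h5, map_sum]
        refine Finset.sum_nonpos fun k _ => ?_
        rw [map_smul]
        exact smul_nonpos_of_nonneg_of_nonpos (h0 k) (h4 k)
      have h6 := h3 (-rep cs h (w0 cs) (sr j)) ((isRoot_sr cs h j).act _).neg
        (neg_nonneg.2 (rep_w0_nonpos (isRoot_sr cs h j) (sr_nonneg j)))
      rw [map_neg] at h6
      exact neg_nonpos.1 h6
    have h2 : w = (w0 cs)⁻¹ := eq_inv_of_mul_eq_one_left h1
    rw [h2, w0_inv]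
  have hpos : 0 ≤ rep cs h w (sr i) := (lt_iff' cs h w i).1 hi
  obtain ⟨r, hr, u, hu, rfl⟩ := exists_mul_PW R hpos ha
  -- both factors are fixed
  obtain ⟨hrc, huc⟩ : σ r = r ∧ σ u = u := by
    have h1 : σ r * σ u = r * u := by rw [← map_mul]; exact hc
    have h2 : σ r ∈ RGD.Sup X (PW cs h w \ {sr i}) := hσ.sup (fun x hx => hx.1.1) hr
    have h3 : σ u ∈ X (sr i) := hσ _ (isRoot_sr cs h i) _ hu
    have h4 : r⁻¹ * σ r = u * (σ u)⁻¹ := by
      rw [eq_mul_inv_iff_mul_eq, mul_assoc, h1]; group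
    have hmono : RGD.Sup X (PW cs h w \ {sr i}) ≤ RGD.Sup X (RGD.PosNe cs h i) :=
      RGD.Sup_mono fun x hx => ⟨hx.1.1, hx.1.2.1, hx.2⟩
    have h5 : u * (σ u)⁻¹ = 1 := by
      refine eq_one_of_mem_PosNe R (mul_mem hu (inv_mem h3)) ?_
      rw [← h4]
      exact hmono (mul_mem (inv_mem hr) h2)
    rw [h5] at h4
    exact ⟨(inv_mul_eq_one.1 h4).symm, (mul_inv_eq_one.1 h5).symm⟩
  refine mul_mem ?_ (RGD.le_Sup (X := fun x => X x ⊓ Fx σ) (S := PW cs h w)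
    ⟨isRoot_sr cs h i, sr_nonneg i, hpos⟩ ⟨hu, huc⟩)
  -- the part `r`
  set w' := w * cs.simple i with hw'
  have hlen : cs.length (w0 cs) - cs.length w' < N := by
    have h1 := length_le_w0 cs w'
    omega
  have hws : ∀ x : I → ℤ, rep cs h w' (rep cs h (cs.simple i) x) = rep cs h w x := by
    intro x
    rw [← rep_mul_apply, hw', mul_assoc, simple_mul_simple_self, mul_one]
  have h1 : (n i)⁻¹ * r * n i ∈ RGD.Sup X (PW cs h w') := by
    refine conj_mem_Sup' R (rp_simple cs R.nsys i) (fun x hx => hx.1.1) (fun x hx => ?_) hr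
    rw [inv_simple]
    exact ⟨hx.1.1.act _, hx.1.1.simple_nonneg hx.1.2.1 i hx.2, by rw [hws]; exact hx.1.2.2⟩
  set σ' := (MulAut.conj (n i))⁻¹ * σ * MulAut.conj (n i) with hσ'
  have happ : ∀ g, σ' ((n i)⁻¹ * g * n i) = (n i)⁻¹ * σ g * n i := by
    intro g
    rw [hσ', MulAut.mul_apply, MulAut.mul_apply, MulAut.conj_apply, ← map_inv, MulAut.conj_apply, inv_inv]
    congr 3
    group
  have h2 : σ' ((n i)⁻¹ * r * n i) = (n i)⁻¹ * r * n i := by rw [happ, hrc]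
  have h3 := ih _ hlen w' rfl (PX.conj R hσ i) h1 h2
  have h4 : cj (n i) (RGD.Sup (fun x => X x ⊓ Fx σ') (PW cs h w')) ≤ RGD.Sup (fun x => X x ⊓ Fx σ) (PW cs h w) := by
    rw [RGD.cj_Sup]
    refine iSup_le ?_
    rintro ⟨x, hx⟩
    have hx' : rep cs h (cs.simple i) x ∈ PW cs h w := by
      have hne : x ≠ sr i := by
        rintro rfl
        have h5 := hx.2.2
        rw [hw', rep_mul_apply, rep_simple_sr, map_neg] at h5
        exact ((isRoot_sr cs h i).act w).not_pos_neg hpos (neg_nonneg.1 h5)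
      exact ⟨hx.1.act _, hx.1.simple_nonneg hx.2.1 i hne, by rw [← rep_mul_apply]; exact hx.2.2⟩
    refine le_trans ?_ (RGD.le_Sup (X := fun x => X x ⊓ Fx σ) hx')
    intro y hy
    rw [mem_cj, Subgroup.mem_inf] at hy
    rw [Subgroup.mem_inf]
    refine ⟨?_, ?_⟩
    · have h5 := R.conj_mem (rp_simple cs R.nsys i) hx.1 hy.1
      have e1 : n i * ((n i)⁻¹ * y * n i) * (n i)⁻¹ = y := by group
      rwa [e1] at h5
    · have h5 : σ' ((n i)⁻¹ * y * n i) = (n i)⁻¹ * y * n i := hy.2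
      rw [happ] at h5
      show σ y = y
      have e1 : σ y = n i * ((n i)⁻¹ * σ y * n i) * (n i)⁻¹ := by group
      rw [e1, h5]
      group
  have h5 := h4 (conj_mem_cj.2 h3)
  have e1 : n i * ((n i)⁻¹ * r * n i) * (n i)⁻¹ = r := by group
  rwa [e1] at h5

/-- the fixed points in `U` -/
theorem fixed_U [Finite W] {σ : MulAut Y} (hσ : PX cs h X σ) {a : Y} (ha : a ∈ RGD.Sup X (RGD.Pos cs h))
    (hc : σ a = a) : a ∈ RGD.Sup (fun x => X x ⊓ Fx σ) (RGD.Pos cs h) := by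
  rw [← PW_one_eq] at ha ⊢
  exact fixed_PW R 1 hσ ha hc

/-- the normal form of a fixed element -/
theorem fixed_form [Finite W] {σ : MulAut Y} (hσ : PX cs h X σ) (hr : ∀ w k, Rp cs R.nsys w k → Rp cs R.nsys w (σ k))
    {g : Y} (hg : g ∈ GG cs h T X) (hc : σ g = g) :
    ∃ u ∈ RGD.Sup (fun x => X x ⊓ Fx σ) (RGD.Pos cs h), ∃ w k, Rp cs R.nsys w k ∧ σ k = k ∧
      ∃ v ∈ RGD.Sup (fun x => X x ⊓ Fx σ) (RGD.Pos cs h), g = u * k * v := by
  obtain ⟨w, hw⟩ := (mem_GG R).1 hg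
  obtain ⟨u, hu, k, hk, v, hv, rfl⟩ := exists_normal_form R hw
  have hv' : v ∈ RGD.Sup X (RGD.Pos cs h) :=
    RGD.Sup_mono (S := NW cs h w) (S' := RGD.Pos cs h) (fun x hx => ⟨hx.1, hx.2.1⟩) hv
  rw [map_mul, map_mul] at hc
  obtain ⟨h1, h2, h3⟩ := normal_form_unique R (hσ.sup (fun x hx => hx.1) hu) hu (hr w k hk) hk
    (hσ.sup (fun x hx => hx.1) hv) hv hc
  exact ⟨u, fixed_U R hσ hu h1, w, k, hk, h2, v, fixed_U R hσ hv' h3, rfl⟩

/-- uniqueness of the factors of the `μ`-element -/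
theorem mu_factors [Finite W] {x : I → ℤ} (hx : IsRoot cs h x) {a u v u' v' : Y} {w : W} (hu : u ∈ X (-x))
    (hv : v ∈ X (-x)) (hu' : u' ∈ X (-x)) (hv' : v' ∈ X (-x)) (hw : Rp cs R.nsys w (u * a * v))
    (hw' : Rp cs R.nsys w (u' * a * v')) (e : rep cs h w x = -x) : u' = u ∧ v' = v := by
  have : Fintype W := Fintype.ofFinite W
  set m := u * a * v with hm
  set m' := u' * a * v' with hm'
  have h1 : m' = (u' * u⁻¹) * m * (v⁻¹ * v') := by rw [hm, hm']; group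
  have h3 : m⁻¹ * (u' * u⁻¹) * m ∈ X x := by
    have := R.conj_mem' hw hx.neg (mul_mem hu' (inv_mem hu))
    have e2 : rep cs h w⁻¹ (-x) = x := by rw [← e, rep_inv_apply]
    rwa [e2] at this
  have h4 : m⁻¹ * m' = (m⁻¹ * (u' * u⁻¹) * m) * (v⁻¹ * v') := by rw [h1]; group
  have h5 : m⁻¹ * m' ∈ T := by
    have := hw.inv.mul hw'
    rw [inv_mul_cancel] at this
    exact this.mem_of_one
  rw [h4] at h5
  obtain ⟨h6, h7⟩ := Cfsg.Agent.Nodes.MuSq.eq_one_of_mul R hx h3 (mul_mem (inv_mem hv) hv') h5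
  constructor
  · have h8 : u' * u⁻¹ = 1 := by
      have : u' * u⁻¹ = m * (m⁻¹ * (u' * u⁻¹) * m) * m⁻¹ := by group
      rw [this, h6]; group
    exact mul_inv_eq_one.1 h8
  · exact (inv_mul_eq_one.1 h7).symm

/-- **the `μ`-element of a fixed element** -/
theorem fixed_mu [Finite W] {σ : MulAut Y} (hσ : PX cs h X σ) (hr : ∀ w k, Rp cs R.nsys w k → Rp cs R.nsys w (σ k))
    {x : I → ℤ} (hx : IsRoot cs h x) {a : Y} (ha : a ∈ X x) (hne : a ≠ 1) (hc : σ a = a) :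
    ∃ u ∈ X (-x) ⊓ Fx σ, ∃ v ∈ X (-x) ⊓ Fx σ, ∃ w : W, Rp cs R.nsys w (u * a * v) ∧
      ∀ z, rep cs h w z = z - cpr cs h z x • x := by
  have : Fintype W := Fintype.ofFinite W
  obtain ⟨u, hu, v, hv, w, hw, -, e⟩ := Cfsg.Agent.Nodes.MuSq.exists_mu' R hx ha hne
  have hex : rep cs h w x = -x := by
    rw [e, cpr_self cs h hx]
    funext k
    simp only [Pi.sub_apply, Pi.smul_apply, smul_eq_mul, Pi.neg_apply]
    ring
  have hw' := hr w _ hw
  rw [map_mul, map_mul, hc] at hw'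
  obtain ⟨h1, h2⟩ := mu_factors R hx hu hv (hσ _ hx.neg _ hu) (hσ _ hx.neg _ hv) hw hw' hex
  exact ⟨u, ⟨hu, h1⟩, v, ⟨hv, h2⟩, w, hw, e⟩

end Cfsg.Agent.H244.TD
end

-- part: H244/TD/One
section
/-!
# S3509, `³D₄(q)`: the centralizer of a triality automorphism of the second class, `q ≡ 1 mod 3` (helper244)

`σ` an automorphism of `³D₄(q)` preserving all root groups, without fixed points on the long root groups and with fixed points on
the short ones, and not fixing a representative of the reflection of the long node.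
-/

set_option autoImplicit false
set_option linter.unusedSectionVars false
set_option maxHeartbeats 400000

namespace Cfsg.Agent.H244.TD.One

open CoxeterSystem Cfsg.Agent.ChevalleyStructure.CoxeterGeom Cfsg.Agent.Tits.Roots Cfsg.Agent.Tits.Core
  Cfsg.Agent.Tits.Exchange Cfsg.Agent.Nodes.Reps Cfsg.Agent.Nodes.BNOf Cfsg.Agent.Nodes.StabComb
  Cfsg.Agent.Nodes.Bruhat Cfsg.Agent.Nodes.OppDec Cfsg.Agent.Nodes.LeviDec Cfsg.Agent.Nodes.RGDTwGen
  Cfsg.Agent.Nodes.RGDChev Cfsg.Agent.Nodes.RGDFold Cfsg.Agent.Nodes.RGDFoldSL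
open Cfsg.Agent.Nodes.Comb Cfsg.Agent.Nodes.Coroot Cfsg.Agent.Tits.RootComb
open Cfsg.Agent.KFacts.RgdOpp Cfsg.Agent.KFacts.RgdAut Cfsg.Agent.KFacts.RgdDiag Cfsg.Agent.KFacts.RgdRigid
  Cfsg.Agent.KFacts.RgdField Cfsg.Agent.KFacts.RgdTau Cfsg.Agent.KFacts.RgdNodes
open Cfsg.Lie Cfsg.Agent.ChevalleyStructure Cfsg.Agent.ChevalleyStructure.Elts
open Cfsg.Agent.ChevalleyStructure.SL2Hom (up lo mem_closure_SL2)
open Cfsg.Agent.KFacts.TwDFour.Out
open Cfsg.Agent.Nodes.RGDTwD4 Cfsg.Agent.Nodes.RGDTwNode.D4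
open Cfsg.Agent.CpAut.RgdFix Cfsg.Agent.CpAut.RgdConj Cfsg.Agent.CpAut.RgdTwStd Cfsg.Agent.CpAut.RgdTwD4
open Cfsg.Agent.H866.D4Wf.Frame
open Cfsg.Agent.H244.TD
open scoped commutatorElement

/-! ### roots -/

/-- the short roots -/
def sh : List (Fin 2 → ℤ) := [![0, 1], ![1, 1], ![1, 2], ![0, -1], ![-1, -1], ![-1, -2]]

/-- the long roots -/
def lg : List (Fin 2 → ℤ) := [![1, 0], ![1, 3], ![2, 3], ![-1, 0], ![-1, -3], ![-2, -3]]

theorem rts_or {z : Fin 2 → ℤ} (hz : z ∈ rts) : z ∈ sh ∨ z ∈ lg := by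
  have key : ∀ z ∈ rts, z ∈ sh ∨ z ∈ lg := by decide +kernel
  exact key z hz

theorem sh_rts {z : Fin 2 → ℤ} (hz : z ∈ sh) : z ∈ rts := by
  have key : ∀ z ∈ sh, z ∈ rts := by decide +kernel
  exact key z hz


local instance finG2 : Finite CoxeterMatrix.G₂.Group := finiteW cs

/-- the reflection in `[0, 1]` -/
theorem cpr_a (a b : ℤ) : (![a, b] : Fin 2 → ℤ) - cpr cs isCartan ![a, b] (sr 1) • (sr 1 : Fin 2 → ℤ) = ![a, 3 * a - b] := by
  rw [cpr_sr, ← rep_simple_eq cs isCartan 1, rep1]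

theorem the_eq : (![1, 2] : Fin 2 → ℤ) = _root_.Cfsg.Agent.ChevalleyStructure.CoxeterGeom.rep cs isCartan (cs.simple 1 * cs.simple 0) (sr 1) := by
  rw [rep_mul_apply, sr1_eq, rep0, rep1]
  decide

/-- the reflection in `[1, 2]` -/
theorem cpr_t (a b : ℤ) : (![a, b] : Fin 2 → ℤ) - cpr cs isCartan ![a, b] ![1, 2] • (![1, 2] : Fin 2 → ℤ) =
    ![a - b, -b] := by
  have h1 : cpr cs isCartan ![a, b] ![1, 2] = b := by
    conv_lhs => rw [the_eq]
    rw [cpr_rep_sr, mul_inv_rev, cs.inv_simple, cs.inv_simple, rep_mul_apply, rep1, rep0]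
    simp [pairing, A, Fin.sum_univ_two]
    ring
  rw [h1]
  ext k
  fin_cases k
  · simp
  · simp
    ring


/-- elements of the Weyl group with `w [0, 1] > 0`, `w [1, 1] > 0` -/
theorem w_cases {w : CoxeterMatrix.G₂.Group} (h1 : 0 ≤ _root_.Cfsg.Agent.ChevalleyStructure.CoxeterGeom.rep cs isCartan w ![0, 1]) (h2 : 0 ≤ _root_.Cfsg.Agent.ChevalleyStructure.CoxeterGeom.rep cs isCartan w ![1, 1]) :
    w = 1 ∨ w = cs.simple 0 := by
  have key : ∀ w : CoxeterMatrix.G₂.Group, 0 ≤ _root_.Cfsg.Agent.ChevalleyStructure.CoxeterGeom.rep cs isCartan w ![0, 1] → 0 ≤ _root_.Cfsg.Agent.ChevalleyStructure.CoxeterGeom.rep cs isCartan w ![1, 0] → w = 1 := by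
    intro w h1 h2
    refine eq_one_of_nonneg cs isCartan w fun j => ?_
    fin_cases j
    · show 0 ≤ _root_.Cfsg.Agent.ChevalleyStructure.CoxeterGeom.rep cs isCartan w (sr 0)
      rw [sr0_eq]; exact h2
    · show 0 ≤ rep cs isCartan w (sr 1)
      rw [sr1_eq]; exact h1
  rcases ((isRoot_of_mem (z := ![1, 0]) (by decide)).act w).pos_or_neg with h3 | h3
  · exact Or.inl (key w h1 h3)
  · right
    have h4 := key (w * cs.simple 0) (by
      rw [rep_mul_apply, rep0]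
      exact h2) (by
      rw [rep_mul_apply, rep0]
      have e : (![0 - 1, 0] : Fin 2 → ℤ) = -![1, 0] := by decide
      rw [e, map_neg]
      exact neg_nonneg.2 h3)
    have h5 : w = (cs.simple 0)⁻¹ := eq_inv_of_mul_eq_one_left h4
    rw [h5, cs.inv_simple]

/-- elements of the Weyl group fixing `[1, 2]` -/
theorem w_cases' {w : CoxeterMatrix.G₂.Group} (h : _root_.Cfsg.Agent.ChevalleyStructure.CoxeterGeom.rep cs isCartan w ![1, 2] = ![1, 2]) : w = 1 ∨ w = cs.simple 0 := by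
  obtain ⟨x, hx⟩ : ∃ x, x = _root_.Cfsg.Agent.ChevalleyStructure.CoxeterGeom.rep cs isCartan w ![0, 1] := ⟨_, rfl⟩
  obtain ⟨y, hy⟩ : ∃ y, y = _root_.Cfsg.Agent.ChevalleyStructure.CoxeterGeom.rep cs isCartan w ![1, 1] := ⟨_, rfl⟩
  have hx1 : x ∈ rts := by rw [hx]; exact root_mem ((isRoot_of_mem (z := ![0, 1]) (by decide)).act w)
  have hy1 : y ∈ rts := by rw [hy]; exact root_mem ((isRoot_of_mem (z := ![1, 1]) (by decide)).act w)
  have hxy : x + y = ![1, 2] := by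
    rw [hx, hy, ← map_add, ← h]
    congr 1
    decide
  have hyx : y - x ∈ rts := by
    have e : y - x = _root_.Cfsg.Agent.ChevalleyStructure.CoxeterGeom.rep cs isCartan w ![1, 0] := by
      rw [hx, hy, ← map_sub]
      congr 1
      decide
    rw [e]
    exact root_mem ((isRoot_of_mem (z := ![1, 0]) (by decide)).act w)
  have key : ∀ x ∈ rts, ∀ y ∈ rts, x + y = ![1, 2] → y - x ∈ rts → (0 ≤ x 0 ∧ 0 ≤ x 1) ∧ (0 ≤ y 0 ∧ 0 ≤ y 1) := by decide +kernel
  obtain ⟨⟨a1, a2⟩, b1, b2⟩ := key x hx1 y hy1 hxy hyx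
  refine w_cases ?_ ?_
  · rw [← hx]
    intro k
    fin_cases k
    · exact a1
    · exact a2
  · rw [← hy]
    intro k
    fin_cases k
    · exact b1
    · exact b2

theorem btwn_a {z : Fin 2 → ℤ} (hz : z ∈ rts) {m a b : ℤ} (hm : 0 < m) (ha : 0 < a) (hb : 0 < b)
    (h0 : m * z 0 = a * 0 + b * 1) (h1 : m * z 1 = a * 1 + b * 2) : z = ![1, 3] := by
  simp only [rts, List.mem_cons, List.not_mem_nil, or_false] at hz
  rcases hz with rfl | rfl | rfl | rfl | rfl | rfl | rfl | rfl | rfl | rfl | rfl | rfl <;>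
    simp only [Matrix.cons_val_zero, Matrix.cons_val_one, Matrix.cons_val_fin_one] at h0 h1 <;> first | rfl | (exfalso; (clear * - hm ha h0 h1 hb; omega))

theorem btwn_b {z : Fin 2 → ℤ} (hz : z ∈ rts) {m a b : ℤ} (hm : 0 < m) (ha : 0 < a) (hb : 0 < b)
    (h0 : m * z 0 = a * 1 + b * 1) (h1 : m * z 1 = a * 1 + b * 2) : z = ![2, 3] := by
  simp only [rts, List.mem_cons, List.not_mem_nil, or_false] at hz
  rcases hz with rfl | rfl | rfl | rfl | rfl | rfl | rfl | rfl | rfl | rfl | rfl | rfl <;>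
    simp only [Matrix.cons_val_zero, Matrix.cons_val_one, Matrix.cons_val_fin_one] at h0 h1 <;> first | rfl | (exfalso; (clear * - hm hb h0 h1 ha; omega))

theorem btwn_na {z : Fin 2 → ℤ} (hz : z ∈ rts) {m a b : ℤ} (hm : 0 < m) (ha : 0 < a) (hb : 0 < b)
    (h0 : m * z 0 = a * 0 + b * -1) (h1 : m * z 1 = a * -1 + b * -2) : z = ![-1, -3] := by
  simp only [rts, List.mem_cons, List.not_mem_nil, or_false] at hz
  rcases hz with rfl | rfl | rfl | rfl | rfl | rfl | rfl | rfl | rfl | rfl | rfl | rfl <;>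
    simp only [Matrix.cons_val_zero, Matrix.cons_val_one, Matrix.cons_val_fin_one] at h0 h1 <;> first | rfl | (exfalso; (clear * - hm hb h0 h1 ha; omega))

theorem btwn_nb {z : Fin 2 → ℤ} (hz : z ∈ rts) {m a b : ℤ} (hm : 0 < m) (ha : 0 < a) (hb : 0 < b)
    (h0 : m * z 0 = a * -1 + b * -1) (h1 : m * z 1 = a * -1 + b * -2) : z = ![-2, -3] := by
  simp only [rts, List.mem_cons, List.not_mem_nil, or_false] at hz
  rcases hz with rfl | rfl | rfl | rfl | rfl | rfl | rfl | rfl | rfl | rfl | rfl | rfl <;>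
    simp only [Matrix.cons_val_zero, Matrix.cons_val_one, Matrix.cons_val_fin_one] at h0 h1 <;> first | rfl | (exfalso; (clear * - hm ha h0 h1 hb; omega))

theorem mem_norm_of_comm {G : Type*} [Group G] {S : Subgroup G} {a : G} (h : ∀ b ∈ S, a * b = b * a) :
    a ∈ Subgroup.normalizer (S : Set G) := by
  rw [Subgroup.mem_normalizer_iff]
  intro b
  constructor
  · intro hb
    rw [h b hb, mul_inv_cancel_right]
    exact hb
  · intro hb
    have h1 := h _ hb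
    have e : b = a * b * a⁻¹ := by
      have h2 : a * (a * b * a⁻¹) * a⁻¹ = a * b * a⁻¹ := by rw [h1]; group
      have h3 : a * (a * b * a⁻¹) = a * b * a⁻¹ * a := h1
      have h4 : a * (a * b * a⁻¹) = a * b := by rw [h3]; group
      exact (mul_left_cancel h4).symm
    rw [e]
    exact hb

/-! ### the fixed points -/

variable {K : Type} [Field K] [Fintype K] {q : ℕ} (hK : Fintype.card K = q ^ 3)
  {φ : K →+* K} (hφ : ∀ x, φ x = x ^ q) {r : ℕ} [Fact r.Prime] [CharP K r] {σ : MulAut ↥(twistedD4 K q)}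

/-- the hypotheses on `σ` -/
structure Hy (r : ℕ) [Fact r.Prime] [CharP K r] (σ : MulAut ↥(twistedD4 K q)) : Prop where
  px : ∀ z ∈ rts, ∀ a ∈ X φ q z, σ a ∈ X φ q z
  rp : ∀ w k, Rp cs (rgd' hK hφ r).nsys w k → Rp cs (rgd' hK hφ r).nsys w (σ k)
  long : ∀ z ∈ lg, ∀ a ∈ X φ q z, σ a = a → a = 1
  short : ∀ z ∈ sh, ∃ a ∈ X φ q z, a ≠ 1 ∧ σ a = a
  s0 : ∀ k, Rp cs (rgd' hK hφ r).nsys (cs.simple 0) k → σ k = k → False

/-- the fixed points in a root group -/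
noncomputable def f (φ : K →+* K) (q : ℕ) (σ : MulAut ↥(twistedD4 K q)) (z : Fin 2 → ℤ) : Subgroup ↥(twistedD4 K q) := X φ q z ⊓ Fx σ

variable {hK hφ}

section main

variable (H : Hy hK hφ r σ)

include H

theorem Hy.PX : PX cs isCartan (X φ q) σ := fun x hx => H.px x (root_mem hx)

theorem Hy.f_long {z : Fin 2 → ℤ} (hz : z ∈ lg) : f φ q σ z = ⊥ := by
  rw [eq_bot_iff]
  intro a ha
  exact H.long z hz a ha.1 ha.2

theorem Hy.conj_f {w : CoxeterMatrix.G₂.Group} {k : ↥(twistedD4 K q)} (hk : Rp cs (rgd' hK hφ r).nsys w k)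
    (hσ : σ k = k) {z : Fin 2 → ℤ} (hz : z ∈ rts) {a : ↥(twistedD4 K q)} (ha : a ∈ f φ q σ z) :
    k * a * k⁻¹ ∈ f φ q σ (_root_.Cfsg.Agent.ChevalleyStructure.CoxeterGeom.rep cs isCartan w z) := by
  refine ⟨(rgd' hK hφ r).conj_mem hk (isRoot_of_mem hz) ha.1, ?_⟩
  show σ (k * a * k⁻¹) = k * a * k⁻¹
  rw [map_mul, map_mul, map_inv, hσ, show σ a = a from ha.2]

theorem Hy.cj_f {w : CoxeterMatrix.G₂.Group} {k : ↥(twistedD4 K q)} (hk : Rp cs (rgd' hK hφ r).nsys w k)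
    (hσ : σ k = k) {z : Fin 2 → ℤ} (hz : z ∈ rts) :
    Cfsg.Agent.H398.RG.cj k (f φ q σ z) = f φ q σ (_root_.Cfsg.Agent.ChevalleyStructure.CoxeterGeom.rep cs isCartan w z) := by
  ext y
  rw [Cfsg.Agent.H398.RG.mem_cj]
  constructor
  · intro h1
    have h2 := H.conj_f hk hσ hz h1
    have e : k * (k⁻¹ * y * k) * k⁻¹ = y := by group
    rwa [e] at h2
  · intro h1
    have h2 := H.conj_f hk.inv (show σ k⁻¹ = k⁻¹ by rw [map_inv, hσ]) (root_mem ((isRoot_of_mem hz).act w)) h1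
    rw [rep_inv_apply, inv_inv] at h2
    exact h2

theorem Hy.comm_f {x y w : Fin 2 → ℤ} (hx : x ∈ rts) (hy : y ∈ rts) (hw : w ∈ lg) (hxy : x ≠ y) (hxy' : x ≠ -y)
    (hno : ∀ z ∈ rts, ∀ m a b : ℤ, 0 < m → 0 < a → 0 < b → m * z 0 = a * x 0 + b * y 0 →
      m * z 1 = a * x 1 + b * y 1 → z = w) {a b : ↥(twistedD4 K q)} (ha : a ∈ f φ q σ x) (hb : b ∈ f φ q σ y) :
    a * b = b * a := by
  have h1 := comm_mem_of_btwn (rgd' hK hφ r) (isRoot_of_mem hx) (isRoot_of_mem hy) hxy hxy' (w := w) (by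
    rintro z ⟨hz, m, a, b, hm, ha, hb, he⟩
    exact hno z (root_mem hz) m a b hm ha hb (congrFun he 0) (congrFun he 1)) ha.1 hb.1
  have h2 := H.long w hw _ h1 (by
    rw [map_mul, map_mul, map_mul, map_inv, map_inv, show σ a = a from ha.2, show σ b = b from hb.2])
  have e : a * b = a * b * a⁻¹ * b⁻¹ * (b * a) := by group
  rw [e, h2, one_mul]


end main

/-- the fixed points in `U` -/
noncomputable def pp (φ : K →+* K) (q : ℕ) (σ : MulAut ↥(twistedD4 K q)) : Subgroup ↥(twistedD4 K q) :=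
  RGD.Sup (fun x => X φ q x ⊓ Fx σ) (RGD.Pos cs isCartan)

/-- the fixed points in `U⁻` -/
noncomputable def qq (φ : K →+* K) (q : ℕ) (σ : MulAut ↥(twistedD4 K q)) : Subgroup ↥(twistedD4 K q) :=
  RGD.Sup (fun x => X φ q x ⊓ Fx σ) (_root_.Cfsg.Agent.Nodes.OppDec.Neg cs isCartan)

/-- the group generated by the fixed points in the root groups -/
noncomputable def kk (φ : K →+* K) (q : ℕ) (σ : MulAut ↥(twistedD4 K q)) : Subgroup ↥(twistedD4 K q) := pp φ q σ ⊔ qq φ q σ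

section main2

variable (H : Hy hK hφ r σ)

omit [Fact r.Prime] [CharP K r] in
theorem pp_le_Fx : pp φ q σ ≤ Fx σ := RGD.Sup_le fun _ _ => inf_le_right

omit [Fact r.Prime] [CharP K r] in
theorem qq_le_Fx : qq φ q σ ≤ Fx σ := RGD.Sup_le fun _ _ => inf_le_right

omit [Fact r.Prime] [CharP K r] in
theorem kk_le_Fx : kk φ q σ ≤ Fx σ := sup_le pp_le_Fx qq_le_Fx

omit [Fact r.Prime] [CharP K r] in
theorem pp_le_U : pp φ q σ ≤ RGD.Sup (X φ q) (RGD.Pos cs isCartan) :=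
  RGD.Sup_le fun _ hz => inf_le_left.trans (RGD.le_Sup hz)

omit [Fact r.Prime] [CharP K r] in
theorem qq_le_UN : qq φ q σ ≤ UN cs isCartan (X φ q) :=
  RGD.Sup_le fun _ hz => inf_le_left.trans (RGD.le_Sup (S := _root_.Cfsg.Agent.Nodes.OppDec.Neg cs isCartan) hz)

omit [Fact r.Prime] [CharP K r] in
theorem f_le_kk {z : Fin 2 → ℤ} (hz : z ∈ rts) : f φ q σ z ≤ kk φ q σ := by
  rcases (isRoot_of_mem hz).pos_or_neg with h0 | h0
  · exact le_sup_of_le_left (RGD.le_Sup (X := fun x => X φ q x ⊓ Fx σ) (S := RGD.Pos cs isCartan) ⟨isRoot_of_mem hz, h0⟩)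
  · exact le_sup_of_le_right (RGD.le_Sup (X := fun x => X φ q x ⊓ Fx σ) (S := _root_.Cfsg.Agent.Nodes.OppDec.Neg cs isCartan) ⟨isRoot_of_mem hz, h0⟩)

include H

theorem Hy.pp_le {S : Subgroup ↥(twistedD4 K q)} (h : ∀ z ∈ [![0, 1], ![1, 1], ![1, 2]], f φ q σ z ≤ S) : pp φ q σ ≤ S := by
  refine RGD.Sup_le fun z hz => ?_
  have hz1 := root_mem hz.1
  rcases rts_or hz1 with h1 | h1
  · refine h z ?_
    have h0 := hz.2 1
    simp only [sh, List.mem_cons, List.not_mem_nil, or_false] at h1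
    rcases h1 with rfl | rfl | rfl | rfl | rfl | rfl <;> first | decide | (exfalso; simp at h0)
  · have h2 := H.f_long h1
    unfold f at h2
    rw [h2]
    exact bot_le

theorem Hy.qq_le {S : Subgroup ↥(twistedD4 K q)} (h : ∀ z ∈ [![0, -1], ![-1, -1], ![-1, -2]], f φ q σ z ≤ S) :
    qq φ q σ ≤ S := by
  refine RGD.Sup_le fun z hz => ?_
  have hz1 := root_mem hz.1
  rcases rts_or hz1 with h1 | h1
  · refine h z ?_
    have h0 := hz.2 1
    simp only [sh, List.mem_cons, List.not_mem_nil, or_false] at h1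
    rcases h1 with rfl | rfl | rfl | rfl | rfl | rfl <;> first | decide | (exfalso; simp at h0)
  · have h2 := H.f_long h1
    unfold f at h2
    rw [h2]
    exact bot_le

/-- `P` normalises `X` -/
theorem Hy.hP {g : ↥(twistedD4 K q)} (hg : g ∈ pp φ q σ) {x : ↥(twistedD4 K q)} (hx : x ∈ f φ q σ ![1, 2]) :
    g * x * g⁻¹ ∈ f φ q σ ![1, 2] := by
  have h1 : pp φ q σ ≤ Subgroup.normalizer (f φ q σ ![1, 2] : Set ↥(twistedD4 K q)) := by
    refine H.pp_le fun z hz => ?_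
    simp only [List.mem_cons, List.not_mem_nil, or_false] at hz
    rcases hz with rfl | rfl | rfl
    · intro a ha
      exact mem_norm_of_comm fun b hb => H.comm_f (w := ![1, 3]) (by decide) (by decide) (by decide) (by decide) (by decide)
          (fun z hz m a b hm ha hb h0 h1 => btwn_a hz hm ha hb h0 h1) ha hb
    · intro a ha
      exact mem_norm_of_comm fun b hb => H.comm_f (w := ![2, 3]) (by decide) (by decide) (by decide) (by decide) (by decide)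
          (fun z hz m a b hm ha hb h0 h1 => btwn_b hz hm ha hb h0 h1) ha hb
    · exact Subgroup.le_normalizer
  exact (Subgroup.mem_normalizer_iff.1 (h1 hg) x).1 hx

/-- `Q` normalises `Y` -/
theorem Hy.hQ {g : ↥(twistedD4 K q)} (hg : g ∈ qq φ q σ) {x : ↥(twistedD4 K q)} (hx : x ∈ f φ q σ ![-1, -2]) :
    g * x * g⁻¹ ∈ f φ q σ ![-1, -2] := by
  have h1 : qq φ q σ ≤ Subgroup.normalizer (f φ q σ ![-1, -2] : Set ↥(twistedD4 K q)) := by
    refine H.qq_le fun z hz => ?_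
    simp only [List.mem_cons, List.not_mem_nil, or_false] at hz
    rcases hz with rfl | rfl | rfl
    · intro a ha
      exact mem_norm_of_comm fun b hb => H.comm_f (w := ![-1, -3]) (by decide) (by decide) (by decide) (by decide) (by decide)
          (fun z hz m a b hm ha hb h0 h1 => btwn_na hz hm ha hb h0 h1) ha hb
    · intro a ha
      exact mem_norm_of_comm fun b hb => H.comm_f (w := ![-2, -3]) (by decide) (by decide) (by decide) (by decide) (by decide)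
          (fun z hz m a b hm ha hb h0 h1 => btwn_nb hz hm ha hb h0 h1) ha hb
    · exact Subgroup.le_normalizer
  exact (Subgroup.mem_normalizer_iff.1 (h1 hg) x).1 hx

/-- the representative of the reflection in `[1, 2]` -/
theorem Hy.exists_kt : ∃ k ∈ f φ q σ ![1, 2] ⊔ f φ q σ ![-1, -2], ∃ w, Rp cs (rgd' hK hφ r).nsys w k ∧ σ k = k ∧
    ∀ a b, _root_.Cfsg.Agent.ChevalleyStructure.CoxeterGeom.rep cs isCartan w ![a, b] = ![a - b, -b] := by
  obtain ⟨a, ha, ha1, hσ⟩ := H.short ![1, 2] (by decide)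
  obtain ⟨u, hu, v, hv, w, hw, e⟩ := fixed_mu (rgd' hK hφ r) H.PX H.rp (isRoot_of_mem (by decide)) ha ha1 hσ
  have e1 : (-![1, 2] : Fin 2 → ℤ) = ![-1, -2] := by decide
  rw [e1] at hu hv
  refine ⟨u * a * v, mul_mem (mul_mem (Subgroup.mem_sup_right hu) (Subgroup.mem_sup_left ⟨ha, hσ⟩))
    (Subgroup.mem_sup_right hv), w, hw, ?_, fun a b => by rw [e, cpr_t]⟩
  rw [map_mul, map_mul, hσ, show σ u = u from hu.2, show σ v = v from hv.2]

/-- the representative of the reflection in `[0, 1]` -/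
theorem Hy.exists_ka : ∃ k ∈ kk φ q σ, ∃ w, Rp cs (rgd' hK hφ r).nsys w k ∧ σ k = k ∧
    ∀ a b, _root_.Cfsg.Agent.ChevalleyStructure.CoxeterGeom.rep cs isCartan w ![a, b] = ![a, 3 * a - b] := by
  obtain ⟨a, ha, ha1, hσ⟩ := H.short ![0, 1] (by decide)
  obtain ⟨u, hu, v, hv, w, hw, e⟩ := fixed_mu (rgd' hK hφ r) H.PX H.rp (isRoot_of_mem (by decide)) ha ha1 hσ
  have e1 : (-![0, 1] : Fin 2 → ℤ) = ![0, -1] := by decide
  rw [e1] at hu hv
  have h1 : f φ q σ ![0, 1] ≤ kk φ q σ := f_le_kk (by decide)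
  have h2 : f φ q σ ![0, -1] ≤ kk φ q σ := f_le_kk (by decide)
  refine ⟨u * a * v, mul_mem (mul_mem (h2 hu) (h1 ⟨ha, hσ⟩)) (h2 hv), w, hw, ?_, fun a b => by
    rw [e, ← sr1_eq, cpr_a]⟩
  rw [map_mul, map_mul, hσ, show σ u = u from hu.2, show σ v = v from hv.2]

/-- the fixed points of `σ` -/
theorem Hy.form {g : ↥(twistedD4 K q)} (hg : σ g = g) : ∃ u ∈ pp φ q σ, ∃ w k, Rp cs (rgd' hK hφ r).nsys w k ∧ σ k = k ∧
    ∃ v ∈ pp φ q σ, g = u * k * v :=
  fixed_form (rgd' hK hφ r) H.PX H.rp (by rw [GG_top hK hφ]; exact Subgroup.mem_top g) hg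

/-- the fixed points of `σ` normalise `K` -/
theorem Hy.norm_kk {g : ↥(twistedD4 K q)} (hg : σ g = g) : ∀ m ∈ kk φ q σ, g * m * g⁻¹ ∈ kk φ q σ := by
  obtain ⟨u, hu, w, k, hk, hσk, v, hv, rfl⟩ := H.form hg
  have h1 : ∀ m ∈ kk φ q σ, k * m * k⁻¹ ∈ kk φ q σ := by
    have h2 : kk φ q σ ≤ (kk φ q σ).comap (MulAut.conj k).toMonoidHom := by
      refine sup_le (RGD.Sup_le fun z hz a ha => ?_) (RGD.Sup_le fun z hz a ha => ?_)
      · exact (f_le_kk (root_mem (hz.1.act w)) (H.conj_f hk hσk (root_mem hz.1) ha) :)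
      · exact (f_le_kk (root_mem (hz.1.act w)) (H.conj_f hk hσk (root_mem hz.1) ha) :)
    exact fun m hm => h2 hm
  have hu' : u ∈ kk φ q σ := le_sup_left (α := Subgroup ↥(twistedD4 K q)) hu
  have hv' : v ∈ kk φ q σ := le_sup_left (α := Subgroup ↥(twistedD4 K q)) hv
  intro m hm
  have e : u * k * v * m * (u * k * v)⁻¹ = u * (k * (v * m * v⁻¹) * k⁻¹) * u⁻¹ := by group
  rw [e]
  exact mul_mem (mul_mem hu' (h1 _ (mul_mem (mul_mem hv' hm) (inv_mem hv')))) (inv_mem hu')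


theorem Hy.nonneg_of {w : CoxeterMatrix.G₂.Group} {k : ↥(twistedD4 K q)} (hk : Rp cs (rgd' hK hφ r).nsys w k)
    {z : Fin 2 → ℤ} (hz : z ∈ sh) (h : ∀ a ∈ f φ q σ z, k * a * k⁻¹ ∈ RGD.Sup (X φ q) (RGD.Pos cs isCartan)) :
    0 ≤ _root_.Cfsg.Agent.ChevalleyStructure.CoxeterGeom.rep cs isCartan w z := by
  rcases ((isRoot_of_mem (sh_rts hz)).act w).pos_or_neg with h3 | h3
  · exact h3
  · exfalso
    obtain ⟨a, ha, ha1, hσ⟩ := H.short z hz
    apply ha1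
    have h4 := h a ⟨ha, hσ⟩
    have h5 := (rgd' hK hφ r).conj_mem hk (isRoot_of_mem (sh_rts hz)) ha
    have h6 : k * a * k⁻¹ ∈ RGD.Sup (X φ q) (RGD.Pos cs isCartan) ⊓ UN cs isCartan (X φ q) :=
      ⟨h4, X_le_UN ((isRoot_of_mem (sh_rts hz)).act w) h3 h5⟩
    rw [U_inf_UN (rgd' hK hφ r), Subgroup.mem_bot] at h6
    exact conj_eq_one_iff.1 h6

/-- `P` is a maximal `r`-subgroup of the group of fixed points -/
theorem Hy.sylow {S : Subgroup ↥(twistedD4 K q)} (hS : S ≤ Fx σ) (hp : IsPGroup r S) (hle : pp φ q σ ≤ S) :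
    S = pp φ q σ := by
  have R := rgd' hK hφ r
  by_contra hne
  have hlt : pp φ q σ < S := lt_of_le_of_ne hle (Ne.symm hne)
  have hnil : Group.IsNilpotent S := hp.isNilpotent
  have h1 : (pp φ q σ).subgroupOf S < ⊤ := by
    rw [lt_top_iff_ne_top]
    intro h2
    rw [Subgroup.subgroupOf_eq_top] at h2
    exact absurd (lt_of_lt_of_le hlt h2) (lt_irrefl _)
  have h2 := (Group.normalizerCondition_of_isNilpotent (h := hnil)) _ h1
  obtain ⟨⟨y, hyS⟩, hy, hyU⟩ := SetLike.exists_of_lt h2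
  have hyn : ∀ x ∈ pp φ q σ, y * x * y⁻¹ ∈ pp φ q σ := by
    intro x hx
    have := (Subgroup.mem_normalizer_iff.1 hy ⟨x, hle hx⟩).1 (Subgroup.mem_subgroupOf.2 hx)
    exact Subgroup.mem_subgroupOf.1 this
  have hyp : y ∉ pp φ q σ := fun h => hyU (Subgroup.mem_subgroupOf.2 h)
  have hyσ : σ y = y := hS hyS
  obtain ⟨u, hu, w, k, hk, hσk, v, hv, e⟩ := H.form hyσ
  have hkn : ∀ x ∈ pp φ q σ, k * x * k⁻¹ ∈ pp φ q σ := by
    intro x hx
    have h3 := hyn (v⁻¹ * x * v) (mul_mem (mul_mem (inv_mem hv) hx) hv)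
    have h4 := mul_mem (mul_mem (inv_mem hu) h3) hu
    have e2 : u⁻¹ * (y * (v⁻¹ * x * v) * y⁻¹) * u = k * x * k⁻¹ := by rw [e]; group
    rwa [e2] at h4
  have hfp : ∀ z ∈ rts, 0 ≤ z → f φ q σ z ≤ pp φ q σ := fun z hz h0 =>
    RGD.le_Sup (X := fun x => X φ q x ⊓ Fx σ) (S := RGD.Pos cs isCartan) ⟨isRoot_of_mem hz, h0⟩
  have hw := w_cases (H.nonneg_of hk (z := ![0, 1]) (by decide) fun a ha => pp_le_U (hkn a (hfp _ (by decide) (by intro k; fin_cases k <;> decide) ha)))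
    (H.nonneg_of hk (z := ![1, 1]) (by decide) fun a ha => pp_le_U (hkn a (hfp _ (by decide) (by intro k; fin_cases k <;> decide) ha)))
  rcases hw with rfl | rfl
  · -- `y ∈ B`
    have hyB : y ∈ RGD.B cs isCartan (T K q) (X φ q) := by
      rw [e]
      exact mul_mem (mul_mem (RGD.U_le_B (pp_le_U hu)) (RGD.T_le_B hk.mem_of_one)) (RGD.U_le_B (pp_le_U hv))
    obtain ⟨m, hm⟩ := hp ⟨y, hyS⟩
    have h5 : y ^ r ^ m = 1 := congrArg Subtype.val hm
    exact hyp (fixed_U (rgd' hK hφ r) H.PX ((rgd' hK hφ r).mem_U_of_mem_B hyB h5) hyσ)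
  · exact H.s0 k hk hσk

seal _root_.Finset.sum _root_.dotProduct in
/-- **`O_r(K) = 1`** -/
theorem Hy.core : Cfsg.pCore r ↥(kk φ q σ) = ⊥ := by
  have R := rgd' hK hφ r
  set O := Cfsg.pCore r ↥(kk φ q σ) with hO
  have hOn : O.Normal := Cfsg.Agent.Lib.Cores.pCore_normal r
  have hOp : IsPGroup r O := Cfsg.Agent.Lib.Cores.pCore_isPGroup r
  set U := (pp φ q σ).subgroupOf (kk φ q σ) with hUdef
  have hpp : IsPGroup r (pp φ q σ) := (rgd' hK hφ r).isPGroup_Upos.to_le pp_le_U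
  have hUp : IsPGroup r U := hpp.comap_subtype
  have h1 : IsPGroup r (O ⊔ U : Subgroup ↥(kk φ q σ)) := hOp.to_sup_of_normal_left hUp
  have h2 : IsPGroup r ((O ⊔ U : Subgroup ↥(kk φ q σ)).map (kk φ q σ).subtype) := h1.map _
  have h3 : pp φ q σ ≤ (O ⊔ U : Subgroup ↥(kk φ q σ)).map (kk φ q σ).subtype := by
    intro x hx
    exact ⟨⟨x, (le_sup_left : pp φ q σ ≤ kk φ q σ) hx⟩, Subgroup.mem_sup_right (Subgroup.mem_subgroupOf.2 hx), rfl⟩
  have h4 := H.sylow (by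
    rintro _ ⟨x, -, rfl⟩
    exact kk_le_Fx x.2) h2 h3
  have h5 : ∀ x ∈ O, (x : ↥(twistedD4 K q)) ∈ pp φ q σ := by
    intro x hx
    rw [← h4]
    exact ⟨x, Subgroup.mem_sup_left hx, rfl⟩
  obtain ⟨k, hk, w, hkw, hσk, hw⟩ := H.exists_kt
  have hkK : k ∈ kk φ q σ := (sup_le (f_le_kk (by decide)) (f_le_kk (by decide)) :
    f φ q σ ![1, 2] ⊔ f φ q σ ![-1, -2] ≤ kk φ q σ) hk
  have h6 : pp φ q σ ≤ (qq φ q σ).comap (MulAut.conj k).toMonoidHom := by
    refine H.pp_le fun z hz a ha => ?_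
    show k * a * k⁻¹ ∈ qq φ q σ
    have hz' : z ∈ rts := by
      have key : ∀ z ∈ [![0, 1], ![1, 1], (![1, 2] : Fin 2 → ℤ)], z ∈ rts := by decide
      exact key z hz
    have h7 := H.conj_f hkw hσk hz' ha
    refine RGD.le_Sup (X := fun x => X φ q x ⊓ Fx σ) (S := _root_.Cfsg.Agent.Nodes.OppDec.Neg cs isCartan) ⟨(isRoot_of_mem hz').act w, ?_⟩ h7
    simp only [List.mem_cons, List.not_mem_nil, or_false] at hz
    rcases hz with rfl | rfl | rfl <;> rw [hw] <;> intro k <;> (revert k; decide +kernel)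
  rw [eq_bot_iff]
  intro x hx
  have h7 : (⟨k, hkK⟩ : ↥(kk φ q σ))⁻¹ * x * (⟨k, hkK⟩ : ↥(kk φ q σ))⁻¹⁻¹ ∈ O := hOn.conj_mem x hx _
  rw [inv_inv] at h7
  have h8 : k⁻¹ * (x : ↥(twistedD4 K q)) * k ∈ pp φ q σ := h5 _ h7
  have h9 : k * (k⁻¹ * (x : ↥(twistedD4 K q)) * k) * k⁻¹ ∈ qq φ q σ := h6 h8
  have e : k * (k⁻¹ * (x : ↥(twistedD4 K q)) * k) * k⁻¹ = x := by group
  rw [e] at h9
  have h10 : (x : ↥(twistedD4 K q)) ∈ RGD.Sup (X φ q) (RGD.Pos cs isCartan) ⊓ UN cs isCartan (X φ q) :=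
    ⟨pp_le_U (h5 x hx), qq_le_UN h9⟩
  rw [U_inf_UN (rgd' hK hφ r), Subgroup.mem_bot] at h10
  rw [Subgroup.mem_bot]
  exact Subtype.ext h10


omit H in
theorem isPGroup_of_cj {G : Type*} [Group G] {p : ℕ} {g : G} {S P : Subgroup G} (hP : IsPGroup p P)
    (h : ∀ x ∈ S, g * x * g⁻¹ ∈ P) : IsPGroup p S := by
  rintro ⟨x, hx⟩
  obtain ⟨m, hm⟩ := hP ⟨_, h x hx⟩
  refine ⟨m, Subtype.ext ?_⟩
  have h1 : (g * x * g⁻¹) ^ p ^ m = 1 := congrArg Subtype.val hm
  rw [conj_pow] at h1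
  exact conj_eq_one_iff.1 h1

omit H in
/-- two root groups which are not opposite generate an `r`-group -/
theorem pair_p (hK : Fintype.card K = q ^ 3) (hφ : ∀ x, φ x = x ^ q) {x y : Fin 2 → ℤ} (hx : x ∈ rts) (hy : y ∈ rts) (hne : x ≠ -y) :
    IsPGroup r ↥(X φ q x ⊔ X φ q y : Subgroup ↥(twistedD4 K q)) := by
  obtain ⟨w, h1, h2⟩ := exists_pos_pair (isRoot_of_mem hx) (isRoot_of_mem hy) hne
  obtain ⟨k, hk⟩ := exists_rp cs (rgd' hK hφ r).nsys w
  refine isPGroup_of_cj (g := k) (rgd' hK hφ r).isPGroup_Upos fun a ha => ?_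
  have h3 : (X φ q x ⊔ X φ q y : Subgroup ↥(twistedD4 K q)) ≤
      (RGD.Sup (X φ q) (RGD.Pos cs isCartan)).comap (MulAut.conj k).toMonoidHom := by
    refine sup_le (fun b hb => ?_) (fun b hb => ?_)
    · exact (RGD.le_Sup (S := RGD.Pos cs isCartan) ⟨(isRoot_of_mem hx).act w, h1⟩
        ((rgd' hK hφ r).conj_mem hk (isRoot_of_mem hx) hb) :)
    · exact (RGD.le_Sup (S := RGD.Pos cs isCartan) ⟨(isRoot_of_mem hy).act w, h2⟩
        ((rgd' hK hφ r).conj_mem hk (isRoot_of_mem hy) hb) :)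
  exact h3 ha

/-- **The base pair.** -/
theorem Hy.base (hnp : ¬ IsPGroup r ↥(f φ q σ ![1, 2] ⊔ f φ q σ ![-1, -2] : Subgroup ↥(twistedD4 K q))) :
    Cfsg.Agent.H398.RG.Base r (kk φ q σ) (f φ q σ ![1, 2]) (f φ q σ ![-1, -2]) (pp φ q σ) (qq φ q σ) ⊥ := by
  obtain ⟨k, hk, w, hkw, hσk, hw⟩ := H.exists_kt
  have hkK : k ∈ kk φ q σ := (sup_le (f_le_kk (by decide)) (f_le_kk (by decide)) :
    f φ q σ ![1, 2] ⊔ f φ q σ ![-1, -2] ≤ kk φ q σ) hk
  refine
    { leX := f_le_kk (by decide)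
      leP := le_sup_left
      leQ := le_sup_right
      leT := bot_le
      gen := le_sup_left
      hP := fun g hg x hx => H.hP hg hx
      hQ := fun g hg x hx => H.hQ hg hx
      hT := fun g hg x hx => by
        rw [Subgroup.mem_bot] at hg
        rw [hg, one_mul, inv_one, mul_one]
        exact hx
      pgrp := ?_
      ne := ?_
      npg := hnp
      conjY := ⟨k, hkK, ?_⟩
      pair := ?_
      core := H.core }
  · refine IsPGroup.to_le (pair_p hK hφ (x := ![1, 2]) (y := ![1, 2]) (by decide) (by decide) (by decide)) ?_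
    exact inf_le_left.trans le_sup_left
  · intro h
    obtain ⟨a, ha, ha1, hσ⟩ := H.short ![1, 2] (by decide)
    have h1 : a ∈ f φ q σ ![1, 2] := ⟨ha, hσ⟩
    rw [h, Subgroup.mem_bot] at h1
    exact ha1 h1
  · rw [H.cj_f hkw hσk (by decide), hw]
    congr 1
  · intro g hg
    obtain ⟨u, hu, w', k', hk', hσk', v, hv, rfl⟩ := H.form (kk_le_Fx hg)
    have huK : u ∈ kk φ q σ := le_sup_left (α := Subgroup ↥(twistedD4 K q)) hu
    have hcjP : ∀ u ∈ pp φ q σ, Cfsg.Agent.H398.RG.cj u (f φ q σ ![1, 2]) = f φ q σ ![1, 2] := by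
      intro u hu
      ext y
      rw [Cfsg.Agent.H398.RG.mem_cj]
      constructor
      · intro h1
        have h2 := H.hP hu h1
        have e : u * (u⁻¹ * y * u) * u⁻¹ = y := by group
        rwa [e] at h2
      · intro h1
        have h2 := H.hP (inv_mem hu) h1
        rwa [inv_inv] at h2
    have hcj : Cfsg.Agent.H398.RG.cj (u * k' * v) (f φ q σ ![1, 2]) =
        Cfsg.Agent.H398.RG.cj u (f φ q σ (_root_.Cfsg.Agent.ChevalleyStructure.CoxeterGeom.rep cs isCartan w' ![1, 2])) := by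
      rw [Cfsg.Agent.H398.RG.cj_mul, hcjP v hv, Cfsg.Agent.H398.RG.cj_mul, H.cj_f hk' hσk' (by decide)]
    rw [hcj]
    by_cases hneg : _root_.Cfsg.Agent.ChevalleyStructure.CoxeterGeom.rep cs isCartan w' ![1, 2] = ![-1, -2]
    · right
      refine ⟨u⁻¹, inv_mem huK, hcjP _ (inv_mem hu), ?_⟩
      rw [← Cfsg.Agent.H398.RG.cj_mul, inv_mul_cancel, Cfsg.Agent.H398.RG.cj_one, hneg]
    · left
      have h1 : IsPGroup r ↥(X φ q ![1, 2] ⊔ X φ q (_root_.Cfsg.Agent.ChevalleyStructure.CoxeterGeom.rep cs isCartan w' ![1, 2]) : Subgroup ↥(twistedD4 K q)) := by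
        refine pair_p hK hφ (by decide) (root_mem ((isRoot_of_mem (by decide)).act w')) ?_
        intro e
        apply hneg
        rw [eq_neg_iff_add_eq_zero, add_comm, ← eq_neg_iff_add_eq_zero] at e
        rw [e]
        decide
      have h2 : IsPGroup r ↥(f φ q σ ![1, 2] ⊔ f φ q σ (_root_.Cfsg.Agent.ChevalleyStructure.CoxeterGeom.rep cs isCartan w' ![1, 2]) : Subgroup ↥(twistedD4 K q)) :=
        h1.to_le (sup_le_sup inf_le_left inf_le_left)
      refine isPGroup_of_cj (g := u⁻¹) h2 fun a ha => ?_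
      have h3 : (f φ q σ ![1, 2] ⊔ Cfsg.Agent.H398.RG.cj u (f φ q σ (rep cs isCartan w' ![1, 2])) : Subgroup ↥(twistedD4 K q)) =
          Cfsg.Agent.H398.RG.cj u (f φ q σ ![1, 2] ⊔ f φ q σ (rep cs isCartan w' ![1, 2])) := by
        rw [Cfsg.Agent.H398.RG.cj_sup, hcjP u hu]
      rw [h3, Cfsg.Agent.H398.RG.mem_cj] at ha
      rwa [inv_inv]

/-- `M = K` -/
theorem Hy.mk_eq : Cfsg.Agent.H398.RG.MK (kk φ q σ) (f φ q σ ![1, 2]) = kk φ q σ := by
  obtain ⟨M, hM⟩ : ∃ M, M = Cfsg.Agent.H398.RG.MK (kk φ q σ) (f φ q σ ![1, 2]) := ⟨_, rfl⟩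
  have hn : ∀ k ∈ kk φ q σ, ∀ m ∈ M, k * m * k⁻¹ ∈ M := fun k hk m hm => by
    rw [hM] at hm ⊢
    exact Cfsg.Agent.H398.RG.conj_MK hk hm
  have h12 : f φ q σ ![1, 2] ≤ M := hM ▸ Cfsg.Agent.H398.RG.le_MK _ _
  obtain ⟨kt, hkt', w, hktw, hσkt, hw⟩ := H.exists_kt
  have hkt : kt ∈ kk φ q σ := (sup_le (f_le_kk (by decide)) (f_le_kk (by decide)) :
    f φ q σ ![1, 2] ⊔ f φ q σ ![-1, -2] ≤ kk φ q σ) hkt'
  obtain ⟨ka, hka, w', hkaw, hσka, hw'⟩ := H.exists_ka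
  have step : ∀ {w : CoxeterMatrix.G₂.Group} {k : ↥(twistedD4 K q)}, Rp cs (rgd' hK hφ r).nsys w k → σ k = k →
      k ∈ kk φ q σ → ∀ {z z' : Fin 2 → ℤ}, z ∈ rts → _root_.Cfsg.Agent.ChevalleyStructure.CoxeterGeom.rep cs isCartan w z = z' → f φ q σ z ≤ M → f φ q σ z' ≤ M := by
    intro w k hk hσk hkK z z' hz e h a ha
    rw [← e, ← H.cj_f hk hσk hz, Cfsg.Agent.H398.RG.mem_cj] at ha
    have h1 := hn k hkK _ (h ha)
    have e2 : k * (k⁻¹ * a * k) * k⁻¹ = a := by group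
    rwa [e2] at h1
  have h11 : f φ q σ ![1, 1] ≤ M := step hkaw hσka hka (z := ![1, 2]) (by decide) (by rw [hw']; decide) h12
  have h0n : f φ q σ ![0, -1] ≤ M := step hktw hσkt hkt (z := ![1, 1]) (by decide) (by rw [hw]; decide) h11
  have h12n : f φ q σ ![-1, -2] ≤ M := step hktw hσkt hkt (z := ![1, 2]) (by decide) (by rw [hw]; decide) h12
  have h11n : f φ q σ ![-1, -1] ≤ M := step hkaw hσka hka (z := ![-1, -2]) (by decide) (by rw [hw']; decide) h12n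
  have h0 : f φ q σ ![0, 1] ≤ M := step hktw hσkt hkt (z := ![-1, -1]) (by decide) (by rw [hw]; decide) h11n
  rw [← hM]
  apply le_antisymm
  · rw [hM]
    exact Cfsg.Agent.H398.RG.MK_le_self (f_le_kk (by decide))
  · refine sup_le (H.pp_le fun z hz => ?_) (H.qq_le fun z hz => ?_)
    · simp only [List.mem_cons, List.not_mem_nil, or_false] at hz
      rcases hz with rfl | rfl | rfl
      · exact h0
      · exact h11
      · exact h12
    · simp only [List.mem_cons, List.not_mem_nil, or_false] at hz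
      rcases hz with rfl | rfl | rfl
      · exact h0n
      · exact h11n
      · exact h12n

/-- fixed points centralising `K` are in the torus -/
theorem Hy.mem_T {y : ↥(twistedD4 K q)} (hy : σ y = y) (hc : ∀ m ∈ kk φ q σ, y * m = m * y) : y ∈ T K q := by
  have R := rgd' hK hφ r
  obtain ⟨u, hu, w, k, hk, hσk, v, hv, e⟩ := H.form hy
  have huK : u ∈ kk φ q σ := le_sup_left (α := Subgroup ↥(twistedD4 K q)) hu
  have hvK : v ∈ kk φ q σ := le_sup_left (α := Subgroup ↥(twistedD4 K q)) hv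
  -- `w [1, 2] = [1, 2]`
  have hw12 : _root_.Cfsg.Agent.ChevalleyStructure.CoxeterGeom.rep cs isCartan w ![1, 2] = ![1, 2] := by
    by_contra hne
    obtain ⟨a, ha, ha1, hσa⟩ := H.short ![1, 2] (by decide)
    apply ha1
    have haf : a ∈ f φ q σ ![1, 2] := ⟨ha, hσa⟩
    -- `k` maps `X` to `X`
    have hv' : v⁻¹ * a * v ∈ f φ q σ ![1, 2] := by
      have := H.hP (inv_mem hv) haf
      rwa [inv_inv] at this
    have h1 : k * (v * (v⁻¹ * a * v) * v⁻¹) * k⁻¹ ∈ f φ q σ ![1, 2] := by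
      have h2 : y * (v⁻¹ * a * v) * y⁻¹ = v⁻¹ * a * v := by
        rw [hc _ (f_le_kk (by decide) hv'), mul_inv_cancel_right]
      have h3 : k * (v * (v⁻¹ * a * v) * v⁻¹) * k⁻¹ = u⁻¹ * (y * (v⁻¹ * a * v) * y⁻¹) * u := by rw [e]; group
      rw [h3, h2]
      have := H.hP (inv_mem hu) hv'
      rwa [inv_inv] at this
    have e2 : v * (v⁻¹ * a * v) * v⁻¹ = a := by group
    rw [e2] at h1
    have h4 := H.conj_f hk hσk (by decide) haf
    have h5 := X_inf hK hφ (root_mem ((isRoot_of_mem (z := ![1, 2]) (by decide)).act w)) (by decide) hne h4.1 h1.1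
    exact conj_eq_one_iff.1 h5
  rcases w_cases' hw12 with rfl | rfl
  swap
  · exact (H.s0 k hk hσk).elim
  have hkT : k ∈ T K q := hk.mem_of_one
  have hyB : y ∈ RGD.B cs isCartan (T K q) (X φ q) := by
    rw [e]
    exact mul_mem (mul_mem (RGD.U_le_B (pp_le_U hu)) (RGD.T_le_B hkT)) (RGD.U_le_B (pp_le_U hv))
  -- conjugate by the reflection
  obtain ⟨kt, hkt', w, hktw, hσkt, hw⟩ := H.exists_kt
  have hkt : kt ∈ kk φ q σ := (sup_le (f_le_kk (by decide)) (f_le_kk (by decide)) :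
    f φ q σ ![1, 2] ⊔ f φ q σ ![-1, -2] ≤ kk φ q σ) hkt'
  have h6 : pp φ q σ ≤ (qq φ q σ).comap (MulAut.conj kt).toMonoidHom := by
    refine H.pp_le fun z hz a ha => ?_
    show kt * a * kt⁻¹ ∈ qq φ q σ
    have hz' : z ∈ rts := by
      have key : ∀ z ∈ [![0, 1], ![1, 1], (![1, 2] : Fin 2 → ℤ)], z ∈ rts := by decide
      exact key z hz
    have h7 := H.conj_f hktw hσkt hz' ha
    refine RGD.le_Sup (X := fun x => X φ q x ⊓ Fx σ) (S := _root_.Cfsg.Agent.Nodes.OppDec.Neg cs isCartan) ⟨(isRoot_of_mem hz').act w, ?_⟩ h7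
    simp only [List.mem_cons, List.not_mem_nil, or_false] at hz
    rcases hz with rfl | rfl | rfl <;> rw [hw] <;> intro k <;> (revert k; decide +kernel)
  have hyBN : y ∈ BN cs isCartan (T K q) (X φ q) := by
    have e2 : y = kt * y * kt⁻¹ := by rw [← hc _ hkt]; group
    have e3 : kt * y * kt⁻¹ = (kt * u * kt⁻¹) * (kt * k * kt⁻¹) * (kt * v * kt⁻¹) := by rw [e]; group
    rw [e2, e3]
    refine mul_mem (mul_mem (UN_le_BN (qq_le_UN (h6 hu))) (T_le_BN ?_)) (UN_le_BN (qq_le_UN (h6 hv)))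
    exact (Subgroup.mem_normalizer_iff.1 hktw.mem_normalizer k).1 hkT
  have h7 : y ∈ RGD.B cs isCartan (T K q) (X φ q) ⊓ BN cs isCartan (T K q) (X φ q) := ⟨hyB, hyBN⟩
  rwa [B_inf_BN (rgd' hK hφ r)] at h7

end main2

end Cfsg.Agent.H244.TD.One
end

-- part: H327/RG/CardThree
section
/-!
# S3509, `³D₄(q)`, type II: a subgroup of order `q³` generated by the three short root groups (for helper244 / helper922)
-/

set_option autoImplicit false
set_option linter.unusedSectionVars false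

namespace Cfsg.Agent.H327.RG.GFour

open CoxeterSystem Cfsg.Agent.ChevalleyStructure.CoxeterGeom Cfsg.Agent.Tits.Roots Cfsg.Agent.Tits.Core
  Cfsg.Agent.Tits.Exchange Cfsg.Agent.Nodes.Reps Cfsg.Agent.Nodes.BNOf Cfsg.Agent.Nodes.StabComb
  Cfsg.Agent.Nodes.Bruhat Cfsg.Agent.Nodes.OppDec Cfsg.Agent.Nodes.LeviDec Cfsg.Agent.Nodes.RGDTwGen
  Cfsg.Agent.Nodes.RGDChev Cfsg.Agent.Nodes.RGDFold Cfsg.Agent.Nodes.RGDFoldSL
open Cfsg.Agent.KFacts.RgdOpp Cfsg.Agent.KFacts.RgdAut Cfsg.Agent.KFacts.RgdDiag Cfsg.Agent.KFacts.RgdRigid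
  Cfsg.Agent.KFacts.RgdField Cfsg.Agent.KFacts.RgdTau Cfsg.Agent.KFacts.RgdNodes
open Cfsg.Lie Cfsg.Agent.ChevalleyStructure Cfsg.Agent.ChevalleyStructure.Elts
open Cfsg.Agent.KFacts.TwDFour.Out
open Cfsg.Agent.Nodes.RGDTwD4 Cfsg.Agent.Nodes.RGDTwNode.D4
open Cfsg.Agent.CpAut.RgdFix Cfsg.Agent.CpAut.RgdConj Cfsg.Agent.CpAut.RgdTwStd Cfsg.Agent.CpAut.RgdTwD4
open Cfsg.Agent.H866.D4Wf.Frame

variable {K : Type} [Field K] [Fintype K] {q : ℕ} (hK : Fintype.card K = q ^ 3)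
  {φ : K →+* K} (hφ : ∀ x, φ x = x ^ q)

include hK hφ in
/-- the product map of the three short positive root groups is injective -/
theorem inj_three {a b c a' b' c' : ↥(twistedD4 K q)} (ha : a ∈ X φ q ![0, 1]) (ha' : a' ∈ X φ q ![0, 1])
    (hb : b ∈ X φ q ![1, 1]) (hb' : b' ∈ X φ q ![1, 1]) (hc : c ∈ X φ q ![1, 2]) (hc' : c' ∈ X φ q ![1, 2])
    (h : a * b * c = a' * b' * c') : a = a' ∧ b = b' ∧ c = c' := by
  obtain ⟨r, hr⟩ := CharP.exists K
  have : Fact r.Prime := ⟨CharP.char_is_prime K r⟩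
  have : Finite CoxeterMatrix.G₂.Group := finiteW cs
  have R := rgd' hK hφ r
  have hle : ∀ z ∈ rts, z ≠ ![0, 1] → (∀ i, 0 ≤ z i) → X φ q z ≤ RGD.Sup (X φ q) (RGD.PosNe cs isCartan 1) := by
    intro z hz hne hpos
    exact RGD.le_Sup (S := RGD.PosNe cs isCartan 1) ⟨isRoot_of_mem hz, hpos, by rw [sr1_eq]; exact hne⟩
  have h11 := hle ![1, 1] (by simp [rts]) (by decide) (by decide)
  have h12 := hle ![1, 2] (by simp [rts]) (by decide) (by decide)
  have e1 : a'⁻¹ * a = b' * c' * c⁻¹ * b⁻¹ := by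
    calc a'⁻¹ * a = a'⁻¹ * (a * b * c) * c⁻¹ * b⁻¹ := by group
      _ = _ := by rw [h]; group
  have e2 : a'⁻¹ * a = 1 := by
    refine eq_one_of_mem_PosNe R (i := 1) ?_ ?_
    · rw [sr1_eq]
      exact mul_mem (inv_mem ha') ha
    · rw [e1]
      exact mul_mem (mul_mem (mul_mem (h11 hb') (h12 hc')) (inv_mem (h12 hc))) (inv_mem (h11 hb))
  have e3 : a = a' := (inv_mul_eq_one.1 e2).symm
  subst e3
  have e4 : b * c = b' * c' := by
    have h1 : a * (b * c) = a * (b' * c') := by rw [← mul_assoc, ← mul_assoc]; exact h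
    exact mul_left_cancel h1
  have e5 : b'⁻¹ * b = c' * c⁻¹ := by
    calc b'⁻¹ * b = b'⁻¹ * (b * c) * c⁻¹ := by group
      _ = _ := by rw [e4]; group
  have e6 : b'⁻¹ * b = 1 := by
    refine X_inf hK hφ (x := ![1, 1]) (y := ![1, 2]) (by simp [rts]) (by simp [rts]) (by decide) (mul_mem (inv_mem hb') hb) ?_
    rw [e5]
    exact mul_mem hc' (inv_mem hc)
  have e7 : b = b' := (inv_mul_eq_one.1 e6).symm
  subst e7
  exact ⟨rfl, rfl, mul_left_cancel e4⟩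

include hK hφ in
/-- **A subgroup of order `q³`.** -/
theorem card_three (r : ℕ) [Fact r.Prime] [CharP K r] (hq : IsPrimePow q) {P01 P11 P12 S : Subgroup ↥(twistedD4 K q)}
    (h01 : P01 ≤ X φ q ![0, 1]) (h11 : P11 ≤ X φ q ![1, 1]) (h12 : P12 ≤ X φ q ![1, 2]) (c01 : Nat.card P01 = q)
    (c11 : Nat.card P11 = q) (c12 : Nat.card P12 = q) (hS : IsPGroup r ↥S) (s01 : P01 ≤ S) (s11 : P11 ≤ S)
    (s12 : P12 ≤ S) : ∃ R ≤ S, Nat.card R = q ^ 3 := by
  have hfin : Finite ↥(twistedD4 K q) := Finite.of_injective _ (Subgroup.subtype_injective _)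
  have hr : r.Prime := Fact.out
  obtain ⟨n, hn0, hn⟩ := H27.Exc.exists_pow (r := r) three_pos hq hK
  let F : ↥P01 × ↥P11 × ↥P12 → ↥S := fun p =>
    ⟨p.1 * p.2.1 * p.2.2, mul_mem (mul_mem (s01 p.1.2) (s11 p.2.1.2)) (s12 p.2.2.2)⟩
  have hF : Function.Injective F := by
    rintro ⟨a, b, c⟩ ⟨a', b', c'⟩ h
    obtain ⟨e1, e2, e3⟩ := inj_three hK hφ (h01 a.2) (h01 a'.2) (h11 b.2) (h11 b'.2) (h12 c.2) (h12 c'.2)
      (congrArg Subtype.val h)
    exact Prod.ext (Subtype.ext e1) (Prod.ext (Subtype.ext e2) (Subtype.ext e3))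
  have h1 : q ^ 3 ≤ Nat.card ↥S := by
    have h2 := Nat.card_le_card_of_injective F hF
    rw [Nat.card_prod, Nat.card_prod, c01, c11, c12] at h2
    calc q ^ 3 = q * (q * q) := by ring
      _ ≤ _ := h2
  obtain ⟨m, hm⟩ := IsPGroup.iff_card.1 hS
  have h3 : r ^ (n * 3) ∣ Nat.card ↥S := by
    rw [hm]
    refine pow_dvd_pow r ?_
    have h4 : r ^ (n * 3) ≤ r ^ m := by rw [pow_mul, ← hn, ← hm]; exact h1
    exact (Nat.pow_le_pow_iff_right hr.one_lt).1 h4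
  obtain ⟨R, hR⟩ := Sylow.exists_subgroup_card_pow_prime r h3
  refine ⟨R.map S.subtype, ?_, ?_⟩
  · rintro _ ⟨y, -, rfl⟩
    exact y.2
  · rw [Nat.card_congr (R.equivMapOfInjective S.subtype S.subtype_injective).toEquiv.symm, hR, pow_mul, ← hn]

end Cfsg.Agent.H327.RG.GFour
end

-- part: H244/TD/OneFin
section
/-!
# S3509, `³D₄(q)`, second class, `q ≡ 1 mod 3`: `MTwo` from the action on the root groups (helper244)
-/

set_option autoImplicit false
set_option linter.unusedSectionVars false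

namespace Cfsg.Agent.H244.TD.One

open CoxeterSystem Cfsg.Agent.ChevalleyStructure.CoxeterGeom Cfsg.Agent.Tits.Roots Cfsg.Agent.Tits.Core
  Cfsg.Agent.Tits.Exchange Cfsg.Agent.Nodes.Reps Cfsg.Agent.Nodes.BNOf Cfsg.Agent.Nodes.StabComb
  Cfsg.Agent.Nodes.Bruhat Cfsg.Agent.Nodes.OppDec Cfsg.Agent.Nodes.LeviDec Cfsg.Agent.Nodes.RGDTwGen
  Cfsg.Agent.Nodes.RGDChev Cfsg.Agent.Nodes.RGDFold Cfsg.Agent.Nodes.RGDFoldSL
open Cfsg.Agent.Nodes.Comb Cfsg.Agent.Nodes.Coroot Cfsg.Agent.Tits.RootComb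
open Cfsg.Agent.KFacts.RgdOpp Cfsg.Agent.KFacts.RgdAut Cfsg.Agent.KFacts.RgdDiag Cfsg.Agent.KFacts.RgdRigid
  Cfsg.Agent.KFacts.RgdField Cfsg.Agent.KFacts.RgdTau Cfsg.Agent.KFacts.RgdNodes
open Cfsg.Lie Cfsg.Agent.ChevalleyStructure Cfsg.Agent.ChevalleyStructure.Elts
open Cfsg.Agent.ChevalleyStructure.SL2Hom (up lo mem_closure_SL2)
open Cfsg.Agent.KFacts.TwDFour.Out
open Cfsg.Agent.Nodes.RGDTwD4 Cfsg.Agent.Nodes.RGDTwNode.D4
open Cfsg.Agent.CpAut.RgdFix Cfsg.Agent.CpAut.RgdConj Cfsg.Agent.CpAut.RgdTwStd Cfsg.Agent.CpAut.RgdTwD4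
open Cfsg.Agent.H866.D4Wf.Frame
open Cfsg.Agent.H244.TD
open Cfsg.Agent.H911.TD (MTwo xo imgH L0_comm)
open Cfsg.Agent.H922.RG (mtwo_of_baseN imgH_range)

variable {K : Type} [Field K] [Fintype K] {q : ℕ} (hK : Fintype.card K = q ^ 3)
  {φ : K →+* K} (hφ : ∀ x, φ x = x ^ q) {r : ℕ} [Fact r.Prime] [CharP K r]

/-- elements of the torus centralising elements of two short root groups are trivial -/
def EO (q : ℕ) (φ : K →+* K) : Prop :=
  ∀ y ∈ T K q, ∀ a ∈ X φ q ![0, 1], a ≠ 1 → y * a = a * y → ∀ b ∈ X φ q ![1, 1], b ≠ 1 → y * b = b * y → y = 1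

theorem not_pgroup {G : Type*} [Group G] {m : ℕ} {X Y : Subgroup G} (hI : Cfsg.Agent.H884.NA.ImgH m X Y) (h4 : 4 ≤ m)
    (hne : X ≠ ⊥) {p : ℕ} [Fact p.Prime] [Finite G] : ¬ IsPGroup p ↥(X ⊔ Y : Subgroup G) := by
  intro hp
  have h1 := Cfsg.Agent.H911.TD.perfect_XY hI h4
  have hnil : Group.IsNilpotent ↥(X ⊔ Y : Subgroup G) := hp.isNilpotent
  have hs : Group.IsSolvable ↥(X ⊔ Y : Subgroup G) := inferInstance
  have h2 : (X ⊔ Y : Subgroup G) = ⊥ := by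
    by_contra hb
    have hnt : Nontrivial ↥(X ⊔ Y : Subgroup G) := (Subgroup.nontrivial_iff_ne_bot _).2 hb
    have h3 := Group.IsSolvable.commutator_lt_top_of_nontrivial ↥(X ⊔ Y : Subgroup G)
    apply h3.ne
    rw [← Subgroup.map_subtype_commutator] at h1
    have h5 := congrArg (Subgroup.comap (X ⊔ Y : Subgroup G).subtype) h1
    rw [Subgroup.comap_map_eq_self_of_injective (Subgroup.subtype_injective _)] at h5
    rw [h5]
    exact Subgroup.subgroupOf_self _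
  exact hne (eq_bot_iff.2 (h2 ▸ le_sup_left))

/-- **`MTwo` from the action on the root groups.** -/
theorem mtwo_of_hy (A : Matrix.SpecialLinearGroup (Fin 2) (KD φ 0)) {τ : K ≃+* K} (hq : IsPrimePow q) (h4 : 4 ≤ q)
    {e : ℕ} (hqe : q = r ^ e) (hτ : τ ^ 3 = 1) (hτ1 : τ ≠ 1) (H : Hy hK hφ r (xo hK hφ A τ)) (hE : EO q φ) :
    MTwo (xo hK hφ A τ) (PhiD hφ hK 0) r := by
  have hfin : Finite ↥(twistedD4 K q) := Finite.of_injective _ (Subgroup.subtype_injective _)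
  have hI : Cfsg.Agent.H884.NA.ImgH q (f φ q (xo hK hφ A τ) ![1, 2]) (f φ q (xo hK hφ A τ) ![-1, -2]) :=
    imgH hK hφ A hq hτ hτ1
  have hne : f φ q (xo hK hφ A τ) ![1, 2] ≠ ⊥ := by
    intro h
    obtain ⟨a, ha, ha1, hσ⟩ := H.short ![1, 2] (by decide)
    have h1 : a ∈ f φ q (xo hK hφ A τ) ![1, 2] := ⟨ha, hσ⟩
    rw [h, Subgroup.mem_bot] at h1
    exact ha1 h1
  have hB := H.base (not_pgroup hI h4 hne)
  have hc12 : Nat.card ↥(f φ q (xo hK hφ A τ) ![1, 2]) = q := Cfsg.Agent.H911.TD.card_Xf hK hφ A hq hτ hτ1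
  obtain ⟨kt, -, w, hktw, hσkt, hw⟩ := H.exists_kt
  obtain ⟨ka, -, w', hkaw, hσka, hw'⟩ := H.exists_ka
  have hcj : ∀ (g : ↥(twistedD4 K q)) (S : Subgroup ↥(twistedD4 K q)), Nat.card ↥(Cfsg.Agent.H398.RG.cj g S) = Nat.card ↥S := by
    intro g S
    exact Nat.card_congr (S.equivMapOfInjective _ (MulAut.conj g).injective).toEquiv.symm
  have hc11 : Nat.card ↥(f φ q (xo hK hφ A τ) ![1, 1]) = q := by
    have h := H.cj_f hkaw hσka (z := ![1, 2]) (by decide)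
    rw [hw', show (![1, 3 * 1 - 2] : Fin 2 → ℤ) = ![1, 1] by decide] at h
    exact (congrArg (fun S : Subgroup ↥(twistedD4 K q) => Nat.card ↥S) h).symm.trans ((hcj _ _).trans hc12)
  have hc0n : Nat.card ↥(f φ q (xo hK hφ A τ) ![0, -1]) = q := by
    have h := H.cj_f hktw hσkt (z := ![1, 1]) (by decide)
    rw [hw, show (![1 - 1, -1] : Fin 2 → ℤ) = ![0, -1] by decide] at h
    exact (congrArg (fun S : Subgroup ↥(twistedD4 K q) => Nat.card ↥S) h).symm.trans ((hcj _ _).trans hc11)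
  have hc01 : Nat.card ↥(f φ q (xo hK hφ A τ) ![0, 1]) = q := by
    have h := H.cj_f hkaw hσka (z := ![0, -1]) (by decide)
    rw [hw', show (![0, 3 * 0 - -1] : Fin 2 → ℤ) = ![0, 1] by decide] at h
    exact (congrArg (fun S : Subgroup ↥(twistedD4 K q) => Nat.card ↥S) h).symm.trans ((hcj _ _).trans hc0n)
  have : Finite CoxeterMatrix.G₂.Group := finiteW cs
  have hpp : IsPGroup r ↥(pp φ q (xo hK hφ A τ)) := (rgd' hK hφ r).isPGroup_Upos.to_le pp_le_U
  have hfp : ∀ z ∈ rts, 0 ≤ z → f φ q (xo hK hφ A τ) z ≤ pp φ q (xo hK hφ A τ) := fun z hz h0 =>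
    RGD.le_Sup (X := fun x => X φ q x ⊓ Fx (xo hK hφ A τ)) (S := RGD.Pos cs isCartan) ⟨isRoot_of_mem hz, h0⟩
  have hR : ∃ R : Subgroup ↥(twistedD4 K q), (∀ g ∈ R, xo hK hφ A τ g = g) ∧ Nat.card R = q ^ 3 := by
    obtain ⟨R, hR1, hR2⟩ := Cfsg.Agent.H327.RG.GFour.card_three hK hφ r hq (P01 := f φ q (xo hK hφ A τ) ![0, 1])
      (P11 := f φ q (xo hK hφ A τ) ![1, 1]) (P12 := f φ q (xo hK hφ A τ) ![1, 2]) inf_le_left inf_le_left inf_le_left
      hc01 hc11 hc12 hpp (hfp _ (by decide) (by intro k; fin_cases k <;> decide))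
      (hfp _ (by decide) (by intro k; fin_cases k <;> decide)) (hfp _ (by decide) (by intro k; fin_cases k <;> decide))
    exact ⟨R, fun g hg => pp_le_Fx (hR1 hg), hR2⟩
  refine mtwo_of_baseN (PhiD hφ hK 0) hB (fun k hk => kk_le_Fx hk) ?_ hqe h4 hI (fun _ => hR) ?_ ?_
  · intro y hy m hm
    rw [H.mk_eq] at hm ⊢
    exact H.norm_kk hy m hm
  · intro y hy hc
    rw [H.mk_eq] at hc
    obtain ⟨a, ha, ha1, hσa⟩ := H.short ![0, 1] (by decide)
    obtain ⟨b, hb, hb1, hσb⟩ := H.short ![1, 1] (by decide)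
    exact hE y (H.mem_T hy hc) a ha ha1 (hc a (f_le_kk (by decide) ⟨ha, hσa⟩)) b hb hb1 (hc b (f_le_kk (by decide) ⟨hb, hσb⟩))
  · intro u hu B
    exact (L0_comm hK hφ (Or.inl hu.1)).symm

end Cfsg.Agent.H244.TD.One
end

-- part: H244/TD/Hy
section
/-!
# S3509, `³D₄(q)`, second class, `q ≡ 1 mod 3`: the action on the root groups (helper244)

`xo hK hφ (hS d) τ`, `d ^ 3 = 1`.
* `px`, `rp` : root groups and representatives are preserved;
* `short` : fixed points in the short root groups.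
-/

set_option autoImplicit false
set_option linter.unusedSectionVars false

namespace Cfsg.Agent.H244.TD.One

open CoxeterSystem Cfsg.Agent.ChevalleyStructure.CoxeterGeom Cfsg.Agent.Tits.Roots Cfsg.Agent.Tits.Core
  Cfsg.Agent.Tits.Exchange Cfsg.Agent.Nodes.Reps Cfsg.Agent.Nodes.BNOf Cfsg.Agent.Nodes.StabComb
  Cfsg.Agent.Nodes.Bruhat Cfsg.Agent.Nodes.OppDec Cfsg.Agent.Nodes.LeviDec Cfsg.Agent.Nodes.RGDTwGen
  Cfsg.Agent.Nodes.RGDChev Cfsg.Agent.Nodes.RGDFold Cfsg.Agent.Nodes.RGDFoldSL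
open Cfsg.Agent.Nodes.Comb Cfsg.Agent.Nodes.Coroot Cfsg.Agent.Tits.RootComb
open Cfsg.Agent.KFacts.RgdOpp Cfsg.Agent.KFacts.RgdAut Cfsg.Agent.KFacts.RgdDiag Cfsg.Agent.KFacts.RgdRigid
  Cfsg.Agent.KFacts.RgdField Cfsg.Agent.KFacts.RgdTau Cfsg.Agent.KFacts.RgdNodes
open Cfsg.Lie Cfsg.Agent.ChevalleyStructure Cfsg.Agent.ChevalleyStructure.Elts
open Cfsg.Agent.ChevalleyStructure.SL2Hom (up lo mem_closure_SL2)
open Cfsg.Agent.KFacts.TwDFour.Out
open Cfsg.Agent.Nodes.RGDTwD4 Cfsg.Agent.Nodes.RGDTwNode.D4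
open Cfsg.Agent.CpAut.RgdFix Cfsg.Agent.CpAut.RgdConj Cfsg.Agent.CpAut.RgdTwStd Cfsg.Agent.CpAut.RgdTwD4
open Cfsg.Agent.H866.D4Wf.Frame
open Cfsg.Agent.H244.TD
open Cfsg.Agent.H911.TD (xo xo_apply)
open Cfsg.Agent.H866.TD (hilbert)

variable {K : Type} [Field K] [Fintype K] {q : ℕ} (hK : Fintype.card K = q ^ 3)
  {φ : K →+* K} (hφ : ∀ x, φ x = x ^ q) {r : ℕ} [Fact r.Prime] [CharP K r]

/-- representatives fixed by the field automorphisms -/
theorem exists_m (w : CoxeterMatrix.G₂.Group) : ∃ m, Rp cs (rgd' hK hφ r).nsys w m ∧ ∀ τ : K ≃+* K, st q τ m = m := by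
  obtain ⟨m, hm, h⟩ := exists_rp_closure (cs := cs) (hN := (rgd' hK hφ r).nsys) w
  refine ⟨m, h, fun τ => ?_⟩
  have h1 : Subgroup.closure (Set.range (n hφ)) ≤ MonoidHom.eqLocus (st q τ).toMonoidHom (MonoidHom.id _) := by
    rw [Subgroup.closure_le]
    rintro _ ⟨i, rfl⟩
    exact st_n hφ τ i
  exact h1 hm

theorem px {d : KD φ 0} (hd : d ≠ 0) (τ : K ≃+* K) {z : Fin 2 → ℤ} (hz : z ∈ rts) {a : ↥(twistedD4 K q)}
    (ha : a ∈ X φ q z) : xo hK hφ (hS d) τ a ∈ X φ q z := by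
  rw [xo_apply]
  exact t_conj hK hφ hz (PhiD_hS hφ hK 0 d hd) ((fixX_st hK hφ τ (isRoot_of_mem hz) a).2 ha)

theorem rp {d : KD φ 0} (hd : d ≠ 0) (τ : K ≃+* K) {w : CoxeterMatrix.G₂.Group} {k : ↥(twistedD4 K q)}
    (hk : Rp cs (rgd' hK hφ r).nsys w k) : Rp cs (rgd' hK hφ r).nsys w (xo hK hφ (hS d) τ k) := by
  obtain ⟨m, hm, hmτ⟩ := exists_m hK hφ (r := r) w
  have h1 : m⁻¹ * k ∈ T K q := by
    have h2 := hm.inv.mul hk
    rw [inv_mul_cancel] at h2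
    exact h2.mem_of_one
  have hst : st q τ (m⁻¹ * k) ∈ T K q := (st_T τ _).2 h1
  have hh := PhiD_hS hφ hK 0 d hd
  have e : xo hK hφ (hS d) τ k = PhiD hφ hK 0 (hS d) * m * (st q τ (m⁻¹ * k) * (PhiD hφ hK 0 (hS d))⁻¹) := by
    rw [xo_apply, map_mul (st q τ), map_inv (st q τ), hmτ τ]
    group
  rw [e]
  have h3 : Rp cs (rgd' hK hφ r).nsys (1 * w) (PhiD hφ hK 0 (hS d) * m) := (rp_of_mem hh).mul hm
  rw [one_mul] at h3
  exact h3.mul_mem_right (mul_mem hst (inv_mem hh))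

theorem sh_eq : ∀ z ∈ sh, ∃ w : CoxeterMatrix.G₂.Group, _root_.Cfsg.Agent.ChevalleyStructure.CoxeterGeom.rep cs isCartan w (sr 1) = z := by
  intro z hz
  simp only [sh, List.mem_cons, List.not_mem_nil, or_false] at hz
  rcases hz with rfl | rfl | rfl | rfl | rfl | rfl
  · exact ⟨1, by rw [map_one, sr1_eq]; rfl⟩
  · exact ⟨cs.simple 0, by rw [sr1_eq, rep0]; decide⟩
  · exact ⟨cs.simple 1 * cs.simple 0, by rw [rep_mul_apply, sr1_eq, rep0, rep1]; decide⟩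
  · exact ⟨cs.simple 1, by rw [sr1_eq, rep1]; decide⟩
  · exact ⟨cs.simple 0 * cs.simple 1, by rw [rep_mul_apply, sr1_eq, rep1, rep0]; decide⟩
  · exact ⟨cs.simple 1 * (cs.simple 0 * cs.simple 1), by rw [rep_mul_apply, rep_mul_apply, sr1_eq, rep1, rep0, rep1]; decide⟩

/-- fixed points in the short root groups -/
theorem short (hq : IsPrimePow q) (h3 : q % 3 = 1) {d : KD φ 0} (hd : d ^ 3 = 1) {τ : K ≃+* K} (hτ : τ ^ 3 = 1)
    (hτ1 : τ ≠ 1) {z : Fin 2 → ℤ} (hz : z ∈ sh) : ∃ a ∈ X φ q z, a ≠ 1 ∧ xo hK hφ (hS d) τ a = a := by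
  obtain ⟨r, hr⟩ := CharP.exists K
  have : Fact r.Prime := ⟨CharP.char_is_prime K r⟩
  obtain ⟨w, hw⟩ := sh_eq z hz
  obtain ⟨m, hm, hmτ⟩ := exists_m hK hφ (r := r) w
  have hd0 : d ≠ 0 := by
    rintro rfl
    rw [zero_pow three_ne_zero] at hd
    exact zero_ne_one hd
  have hh := PhiD_hS hφ hK 0 d hd0
  obtain ⟨t, ht⟩ : ∃ t, t = m⁻¹ * PhiD hφ hK 0 (hS d) * m := ⟨_, rfl⟩
  have htT : t ∈ T K q := by
    rw [ht]
    have := (Subgroup.mem_normalizer_iff.1 hm.inv.mem_normalizer _).1 hh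
    rwa [inv_inv] at this
  have hS3 : (hS d : Matrix.SpecialLinearGroup (Fin 2) (KD φ 0)) ^ 3 = 1 := by
    apply Subtype.ext
    rw [Matrix.SpecialLinearGroup.coe_pow, coe_hS hd0]
    have h5 : (!![d, 0; 0, d⁻¹] : Matrix (Fin 2) (Fin 2) (KD φ 0)) ^ 3 = !![d ^ 3, 0; 0, (d ^ 3)⁻¹] := by
      rw [pow_succ, pow_two, Matrix.mul_fin_two, Matrix.mul_fin_two]
      ext i j
      (revert i j; simp only [pow_succ, mul_assoc, _root_.Fin.forall_fin_succ, _root_.Fin.isValue, _root_.MulZeroClass.mul_zero, _root_.add_zero, _root_.MulZeroClass.zero_mul, _root_.zero_add, _root_.Matrix.of_apply, _root_.Matrix.cons_val', _root_.Matrix.cons_val_fin_one, _root_.pow_zero, _root_.one_mul, _root_.mul_inv_rev, _root_.implies_true])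
    rw [h5, hd, inv_one, Matrix.SpecialLinearGroup.coe_one, Matrix.one_fin_two]
  have ht3 : t ^ 3 = 1 := by
    have e : t ^ 3 = m⁻¹ * (PhiD hφ hK 0 (hS d)) ^ 3 * m := by
      rw [ht]
      have := conj_pow (i := 3) (a := m⁻¹) (b := PhiD hφ hK 0 (hS d))
      rw [inv_inv] at this
      exact this
    rw [e, ← map_pow, hS3, map_one, mul_one, inv_mul_cancel]
  obtain ⟨c, hc⟩ : ∃ c : K, c = (chD hφ hK 1 t : K) := ⟨_, rfl⟩
  have hc3 : c ^ 3 = 1 := by
    have h1 : chD hφ hK 1 (t ^ 3) = chD hφ hK 1 t ^ 3 := by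
      rw [pow_succ, pow_two, ch_mul hK hφ (mul_mem htT htT) htT, ch_mul hK hφ htT htT]
      ring
    rw [ht3, ch_one hK hφ] at h1
    rw [hc]
    exact (congrArg (fun a : KD φ 1 => (a : K)) h1).symm
  have hφc : φ c = c := by
    rw [hφ]
    have h1 : q = 3 * (q / 3) + 1 := by omega
    rw [h1, pow_succ, pow_mul, hc3, one_pow, one_mul]
  have hτc : τ c = c := tau_fix hK hφ hq hτ hφc
  obtain ⟨u, hu, hu'⟩ := hilbert (σ := τ) (fun a => by
      have : (τ ^ 3) a = a := by rw [hτ]; rfl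
      exact this) (by
      by_contra hcon
      push Not at hcon
      exact hτ1 (RingEquiv.ext hcon)) (c := c) (by
      rw [hτc, hτc, ← hc3]
      ring)
  obtain ⟨v, hv⟩ : ∃ v : KD φ 1, (v : K) = u := ⟨⟨u, mem_KD1 hK hφ _⟩, rfl⟩
  have hcv : chD hφ hK 1 t * rs hφ τ 1 v = v := by
    apply Subtype.ext
    show (chD hφ hK 1 t : K) * τ (v : K) = (v : K)
    rw [hv, ← hc, hu']
  refine ⟨m * PhiD hφ hK 1 (up v) * m⁻¹, ?_, ?_, ?_⟩
  · rw [← hw]
    exact (rgd' hK hφ r).conj_mem hm (isRoot_sr cs isCartan 1) ((mem_X hφ hK 1 _).2 ⟨v, rfl⟩)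
  · intro h
    have h1 : PhiD hφ hK 1 (up v) = 1 := conj_eq_one_iff.1 h
    refine (coordD hφ hK 1).ne_one ?_ h1
    intro hv0
    apply hu
    rw [← hv, hv0]
    rfl
  · have e1 : t * PhiD hφ hK 1 (up (rs hφ τ 1 v)) * t⁻¹ = PhiD hφ hK 1 (up v) := by
      rw [act_up hK hφ htT, hcv]
    rw [xo_apply, map_mul (st q τ), map_mul (st q τ), map_inv (st q τ), hmτ τ, st_up]
    conv_rhs => rw [← e1]
    rw [ht]
    group

end Cfsg.Agent.H244.TD.One
end

-- part: H202/TD/FixPW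
section
/-!
# Fixed points of a diagonal automorphism (of any order) on the groups `Sup X (PW w)` (helper202)

The proof is that of `Cfsg.Agent.CpAut.RgdFix.fix_PW`, the automorphism is moved by the simple reflections.
-/

set_option autoImplicit false
set_option linter.unusedSectionVars false

namespace Cfsg.Agent.H202.TD

open CoxeterSystem Cfsg.Agent.ChevalleyStructure.CoxeterGeom Cfsg.Agent.Tits.Roots Cfsg.Agent.Tits.Core
  Cfsg.Agent.Tits.Exchange Cfsg.Agent.Nodes.Reps Cfsg.Agent.Nodes.BNOf Cfsg.Agent.Nodes.StabComb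
  Cfsg.Agent.Nodes.Bruhat Cfsg.Agent.Nodes.OppDec Cfsg.Agent.Nodes.LeviDec Cfsg.Agent.Nodes.NormalForm
  Cfsg.Agent.KFacts.RgdOpp Cfsg.Agent.KFacts.RgdAut Cfsg.Agent.KFacts.RgdDiag Cfsg.Agent.KFacts.RgdRigid
  Cfsg.Agent.KFacts.RgdField Cfsg.Agent.CpAut.RgdFix

variable {I W Y : Type*} [Fintype I] [DecidableEq I] [Group W] [Group Y] {M : CoxeterMatrix I}
  {cs : CoxeterSystem M W} {A : I → I → ℤ} {h : IsCartan M A} {p : ℕ} {T : Subgroup Y} {n : I → Y}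
  {X : (I → ℤ) → Subgroup Y} (R : RGD cs h p T n X)

include R

end Cfsg.Agent.H202.TD
end

-- part: H202/TD/One
section
/-!
# S3509, `³D₄(q)`, `q = 1 mod 3`: the centralizer of an outer automorphism of order three, second class (helper202)

`β = conj t * st q τ`, `Good3 t` : the fixed points are generated by those of the short root groups and of the torus.
-/

set_option autoImplicit false
set_option linter.unusedSectionVars false
set_option maxHeartbeats 400000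

namespace Cfsg.Agent.H202.TD

open CoxeterSystem Cfsg.Agent.ChevalleyStructure.CoxeterGeom Cfsg.Agent.Tits.Roots Cfsg.Agent.Tits.Core
  Cfsg.Agent.Tits.Exchange Cfsg.Agent.Nodes.Reps Cfsg.Agent.Nodes.BNOf Cfsg.Agent.Nodes.StabComb
  Cfsg.Agent.Nodes.Bruhat Cfsg.Agent.Nodes.OppDec Cfsg.Agent.Nodes.LeviDec Cfsg.Agent.Nodes.RGDTwGen
  Cfsg.Agent.Nodes.RGDChev Cfsg.Agent.Nodes.RGDFold Cfsg.Agent.Nodes.RGDFoldSL Cfsg.Agent.Nodes.NormalForm
open Cfsg.Agent.KFacts.RgdOpp Cfsg.Agent.KFacts.RgdAut Cfsg.Agent.KFacts.RgdDiag Cfsg.Agent.KFacts.RgdRigid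
  Cfsg.Agent.KFacts.RgdField Cfsg.Agent.KFacts.RgdTau Cfsg.Agent.KFacts.RgdNodes
open Cfsg.Lie Cfsg.Agent.ChevalleyStructure Cfsg.Agent.ChevalleyStructure.Elts
open Cfsg.Agent.ChevalleyStructure.SL2Hom (up lo mem_closure_SL2)
open Cfsg.Agent.KFacts.TwDFour.Out
open Cfsg.Agent.Nodes.RGDTwD4 Cfsg.Agent.Nodes.RGDTwNode.D4
open Cfsg.Agent.CpAut.RgdFix Cfsg.Agent.CpAut.RgdConj Cfsg.Agent.CpAut.RgdTwStd Cfsg.Agent.CpAut.RgdTwD4
open Cfsg.Agent.H28.FamFour (st_mul st_one)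
open Cfsg.Agent.H866.D4Wf.Frame Cfsg.Agent.H866.D4Wf.SLThree Cfsg.Agent.H866.TD

variable {K : Type} [Field K] [Fintype K] {q : ℕ} {hK : Fintype.card K = q ^ 3}
  {φ : K →+* K} {hφ : ∀ x, φ x = x ^ q} {τ : K ≃+* K} {r : ℕ} [Fact r.Prime] [CharP K r]

/-- the automorphism -/
noncomputable abbrev bt (τ : K ≃+* K) (t : ↥(twistedD4 K q)) : MulAut ↥(twistedD4 K q) := MulAut.conj t * st q τ

variable {t : ↥(twistedD4 K q)}

/-- the Weyl group of the fixed points -/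
def WS : Subgroup CoxeterMatrix.G₂.Group := Subgroup.closure {cs.simple 1, cs.simple 0 * cs.simple 1 * (cs.simple 0)⁻¹}

theorem s1_mem : cs.simple 1 ∈ WS := Subgroup.subset_closure (Or.inl rfl)

theorem s010_mem : cs.simple 0 * cs.simple 1 * (cs.simple 0)⁻¹ ∈ WS := Subgroup.subset_closure (Or.inr rfl)

variable (hK hφ r) in
/-- standard representatives and the sign -/
theorem exists_std_rp (w : CoxeterMatrix.G₂.Group) : ∃ g : ↥(twistedD4 K q), Rp cs (rgd' hK hφ r).nsys w g ∧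
    st q τ g = g ∧ ∀ t, Good3 hK hφ t → Good3 hK hφ (g⁻¹ * t * g) ∧
      ((w ∈ WS ∧ chD hφ hK 0 (g⁻¹ * t * g) = chD hφ hK 0 t) ∨
        (w * cs.simple 0 ∈ WS ∧ chD hφ hK 0 (g⁻¹ * t * g) = (chD hφ hK 0 t)⁻¹)) := by
  obtain ⟨ω, rfl⟩ := cs.wordProd_surjective w
  induction ω using List.reverseRecOn with
  | nil =>
    refine ⟨1, by rw [wordProd_nil]; exact rp_one, map_one _, fun t ht => ?_⟩
    rw [inv_one, one_mul, mul_one, wordProd_nil]
    exact ⟨ht, Or.inl ⟨one_mem _, rfl⟩⟩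
  | append_singleton ω i ih =>
    obtain ⟨g, hg, hgf, hgt⟩ := ih
    rw [cs.wordProd_append, wordProd_singleton]
    refine ⟨g * n hφ i, hg.mul (rp_simple cs (rgd' hK hφ r).nsys i), by rw [map_mul, hgf, st_n], fun t ht => ?_⟩
    obtain ⟨h1, h2⟩ := hgt t ht
    have e : (g * n hφ i)⁻¹ * t * (g * n hφ i) = (n hφ i)⁻¹ * (g⁻¹ * t * g) * n hφ i := by group
    rw [e]
    refine ⟨good_n h1 i, ?_⟩
    have hi : i = 0 ∨ i = 1 := by fin_cases i <;> simp
    rcases hi with rfl | rfl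
    · rw [(good_n0 h1).2.1]
      rcases h2 with ⟨h2, h3⟩ | ⟨h2, h3⟩
      · right
        refine ⟨?_, by rw [h3]⟩
        rw [mul_assoc, simple_mul_simple_self, mul_one]
        exact h2
      · left
        exact ⟨h2, by rw [h3, inv_inv]⟩
    · rw [(good_n1 h1).2.1]
      rcases h2 with ⟨h2, h3⟩ | ⟨h2, h3⟩
      · left
        exact ⟨mul_mem h2 s1_mem, h3⟩
      · right
        refine ⟨?_, h3⟩
        have e2 : cs.wordProd ω * cs.simple 1 * cs.simple 0 = cs.wordProd ω * cs.simple 0 *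
            (cs.simple 0 * cs.simple 1 * (cs.simple 0)⁻¹) := by
          rw [inv_simple]
          simp only [mul_assoc]
          rw [simple_mul_simple_cancel_left]
        rw [e2]
        exact mul_mem h2 s010_mem

/-- a fixed representative -/
theorem mem_WS (hq : IsPrimePow q) (hτ : τ ^ 3 = 1) (ht : Good3 hK hφ t)
    {w : CoxeterMatrix.G₂.Group} {k : ↥(twistedD4 K q)} (hk : Rp cs (rgd' hK hφ r).nsys w k) (hf : bt τ t k = k) :
    w ∈ WS ∧ w ≠ cs.simple 0 := by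
  have key : ∀ g : ↥(twistedD4 K q), Rp cs (rgd' hK hφ r).nsys w g → st q τ g = g → Good3 hK hφ (g⁻¹ * t * g) →
      chD hφ hK 0 (g⁻¹ * t * g) = chD hφ hK 0 t := by
    intro g hg hgf hgt
    obtain ⟨s, hs⟩ : ∃ s, s = g⁻¹ * k := ⟨_, rfl⟩
    have hsT : s ∈ T K q := by rw [hs]; exact hg.unique hk
    have hks : k = g * s := by rw [hs]; group
    have h1 : t * st q τ k * t⁻¹ = k := hf
    rw [hks, map_mul, hgf] at h1
    have h2 : (g⁻¹ * t * g) * st q τ s = s * t := by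
      have h3 : t * (g * st q τ s) = g * s * t := mul_inv_eq_iff_eq_mul.1 h1
      calc (g⁻¹ * t * g) * st q τ s = g⁻¹ * (t * (g * st q τ s)) := by group
        _ = s * t := by rw [h3]; group
    have hst : st q τ s ∈ T K q := (st_T τ s).2 hsT
    have h3 := congrArg (chD hφ hK 0) h2
    rw [ch_mul hK hφ hgt.mem hst, ch_mul hK hφ hsT ht.mem, ch_st hK hφ hsT, rs_zero hK hφ hq hτ, mul_comm] at h3
    exact mul_left_cancel₀ (ch_ne_zero hK hφ hsT 0) h3
  have hinv : chD hφ hK 0 t ≠ (chD hφ hK 0 t)⁻¹ := by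
    intro h
    apply ht.ne
    have h1 := ht.h0
    have h0 := ch_ne_zero hK hφ ht.mem 0
    have h2 : chD hφ hK 0 t * chD hφ hK 0 t = 1 := by
      nth_rewrite 2 [h]
      exact mul_inv_cancel₀ h0
    rw [pow_succ, pow_two, h2, one_mul] at h1
    exact h1
  constructor
  · obtain ⟨g, hg, hgf, hgt⟩ := exists_std_rp (τ := τ) hK hφ r w
    obtain ⟨h1, h2⟩ := hgt t ht
    rcases h2 with ⟨h2, -⟩ | ⟨-, h3⟩
    · exact h2
    · exact absurd ((key g hg hgf h1).symm.trans h3) hinv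
  · rintro rfl
    have h1 := key (n hφ 0) (rp_simple cs (rgd' hK hφ r).nsys 0) (st_n hφ τ 0) (good_n0 ht).1
    rw [(good_n0 ht).2.1] at h1
    exact hinv h1.symm

end Cfsg.Agent.H202.TD
end

-- part: H442/TD/Diag3
section
/-!
# Elements of order three of `SL(2, q)`, `q ≡ 1 mod 3`, are diagonalisable (helper442)

* `trace_of_cube` : `A ^ 3 = 1`, `A ≠ 1` gives `tr A = -1`;
* `exists_omega` : `3 ∣ q - 1` gives a primitive cube root of unity;
* `exists_conj_hS` : `A ^ 3 = 1`, `A ≠ 1` is conjugate to `hS d`, `d ^ 3 = 1`, `d ≠ 1`;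
* `exists_conj_hS'` : the same with a given `d`.
-/

set_option autoImplicit false
set_option linter.unusedSectionVars false
set_option linter.unusedVariables false
set_option maxHeartbeats 400000

namespace Cfsg.Agent.H442.TD.Diag3

open Cfsg.Agent.Nodes.RGDFoldSL
open Matrix (SpecialLinearGroup)

variable {F : Type*} [Field F]

theorem trace_of_cube {A : _root_.Matrix.SpecialLinearGroup (Fin 2) F} (hA : A ^ 3 = 1) (h1 : A ≠ 1) :
    A.1 0 0 + A.1 1 1 = -1 := by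
  have hdet : A.1 0 0 * A.1 1 1 - A.1 0 1 * A.1 1 0 = 1 := by
    rw [← Matrix.det_fin_two]; exact A.2
  have h3 : A.1 * A.1 * A.1 = 1 := by
    have := congrArg Subtype.val hA
    rw [pow_three'] at this
    exact this
  set a := A.1 0 0 with ha
  set b := A.1 0 1 with hb
  set c := A.1 1 0 with hc
  set d := A.1 1 1 with hd
  have e00 : (a * a + b * c) * a + (a * b + b * d) * c = 1 := by
    have := congrFun (congrFun h3 0) 0
    simpa only [Matrix.mul_apply, Fin.sum_univ_two, _root_.Fin.isValue, _root_.Matrix.one_apply_eq] using this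
  have e01 : (a * a + b * c) * b + (a * b + b * d) * d = 0 := by
    have := congrFun (congrFun h3 0) 1
    simpa only [Matrix.mul_apply, Fin.sum_univ_two, _root_.Fin.isValue, _root_.ne_eq, _root_.zero_ne_one, _root_.not_false_eq_true, _root_.Matrix.one_apply_ne] using this
  have e10 : (c * a + d * c) * a + (c * b + d * d) * c = 0 := by
    have := congrFun (congrFun h3 1) 0
    simpa only [Matrix.mul_apply, Fin.sum_univ_two, _root_.Fin.isValue, _root_.ne_eq, _root_.one_ne_zero, _root_.not_false_eq_true, _root_.Matrix.one_apply_ne] using this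
  have e11 : (c * a + d * c) * b + (c * b + d * d) * d = 1 := by
    have := congrFun (congrFun h3 1) 1
    simpa only [Matrix.mul_apply, Fin.sum_univ_two, _root_.Fin.isValue, _root_.Matrix.one_apply_eq] using this
  -- (t² - 1) A = 1 + t
  have f00 : ((a + d) ^ 2 - 1) * a = 1 + (a + d) := by linear_combination e00 + (2 * a + d) * hdet
  have f01 : ((a + d) ^ 2 - 1) * b = 0 := by linear_combination e01 + b * hdet
  have f10 : ((a + d) ^ 2 - 1) * c = 0 := by linear_combination e10 + c * hdet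
  have f11 : ((a + d) ^ 2 - 1) * d = 1 + (a + d) := by linear_combination e11 + (2 * d + a) * hdet
  by_cases ht : (a + d) ^ 2 - 1 = 0
  · rw [ht, zero_mul] at f00
    linear_combination -f00
  · exfalso
    have hb0 : b = 0 := by rcases mul_eq_zero.1 f01 with h | h; exact absurd h ht; exact h
    have hc0 : c = 0 := by rcases mul_eq_zero.1 f10 with h | h; exact absurd h ht; exact h
    have had : a = d := mul_left_cancel₀ ht (by rw [f00, f11])
    rw [hb0, hc0, had] at e00 hdet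
    have h2 : d * d = 1 := by linear_combination hdet
    have h4 : d = 1 := by linear_combination e00 - d * h2
    apply h1
    apply Subtype.ext
    apply Matrix.ext
    intro i j
    have a1 : A.1 0 0 = 1 := by rw [← ha, had, h4]
    have a2 : A.1 0 1 = 0 := by rw [← hb, hb0]
    have a3 : A.1 1 0 = 0 := by rw [← hc, hc0]
    have a4 : A.1 1 1 = 1 := by rw [← hd, h4]
    fin_cases i <;> fin_cases j
    · exact a1
    · exact a2
    · exact a3
    · exact a4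

/-- With a cube root of unity `d ≠ 1` in `F`, `3 ≠ 0`. -/
theorem exists_conj_hS' {A : _root_.Matrix.SpecialLinearGroup (Fin 2) F} (hA : A ^ 3 = 1) (h1 : A ≠ 1) {w : F}
    (hw : w ^ 3 = 1) (hw1 : w ≠ 1) (h3 : (3 : F) ≠ 0) : ∃ (g : _root_.Matrix.SpecialLinearGroup (Fin 2) F) (d : F),
      g * A * g⁻¹ = hS d ∧ d ^ 3 = 1 ∧ d ≠ 1 := by
  have htr := trace_of_cube hA h1
  have hdet : A.1 0 0 * A.1 1 1 - A.1 0 1 * A.1 1 0 = 1 := by
    rw [← Matrix.det_fin_two]; exact A.2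
  set a := A.1 0 0 with ha
  set b := A.1 0 1 with hb
  set c := A.1 1 0 with hc
  set d := A.1 1 1 with hd
  have hw0 : w ≠ 0 := by
    rintro rfl
    norm_num at hw
  have hww : w ^ 2 + w + 1 = 0 := by
    have : (w - 1) * (w ^ 2 + w + 1) = 0 := by linear_combination hw
    rcases mul_eq_zero.1 this with h | h
    · exact absurd (sub_eq_zero.1 h) hw1
    · exact h
  have hwi : w⁻¹ = w ^ 2 := by
    apply mul_left_cancel₀ hw0
    rw [mul_inv_cancel₀ hw0]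
    linear_combination -hw
  have hA2 : A.1 = !![a, b; c, d] := by
    apply Matrix.ext
    intro i j
    fin_cases i <;> fin_cases j <;> rfl
  by_cases hc0 : c = 0
  · rw [hc0, mul_zero, sub_zero] at hdet
    have haa : a ^ 2 + a + 1 = 0 := by linear_combination a * htr - hdet
    have ha0 : a ≠ 0 := by
      intro h
      rw [h] at haa
      norm_num at haa
    have ha3 : a ^ 3 = 1 := by linear_combination (a - 1) * haa
    have ha1 : a ≠ 1 := by
      intro h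
      rw [h] at haa
      apply h3
      linear_combination haa
    have hai : a⁻¹ = d := by
      apply mul_left_cancel₀ ha0
      rw [mul_inv_cancel₀ ha0, hdet]
    have hne : a - d ≠ 0 := by
      intro h
      have e : a = d := sub_eq_zero.1 h
      rw [← e] at hdet htr
      apply ha1
      linear_combination ha3 - a * hdet
    obtain ⟨G, hG⟩ : ∃ G : _root_.Matrix.SpecialLinearGroup (Fin 2) F, G.1 = !![1, b / (a - d); 0, 1] :=
      ⟨⟨!![1, b / (a - d); 0, 1], by rw [Matrix.det_fin_two_of]; ring⟩, rfl⟩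
    refine ⟨G, a, ?_, ha3, ha1⟩
    rw [mul_inv_eq_iff_eq_mul]
    apply Subtype.ext
    show G.1 * A.1 = (hS a).1 * G.1
    rw [hG]
    rw [coe_hS ha0, hai, hA2, hc0, Matrix.mul_fin_two, Matrix.mul_fin_two]
    have e1 : b + b / (a - d) * d = a * (b / (a - d)) := by
      field_simp
      ring
    simp only [one_mul, mul_zero, add_zero, zero_mul, zero_add, mul_one, e1]
  · have hne : w ^ 2 - w ≠ 0 := by
      intro h
      have e : w * (w - 1) = 0 := by linear_combination h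
      rcases mul_eq_zero.1 e with h | h
      · exact hw0 h
      · exact hw1 (sub_eq_zero.1 h)
    obtain ⟨x, hx⟩ : ∃ x : F, x * c = w - a := ⟨(w - a) / c, div_mul_cancel₀ _ hc0⟩
    obtain ⟨y, hy⟩ : ∃ y : F, y * (w ^ 2 - w) = c := ⟨c / (w ^ 2 - w), div_mul_cancel₀ _ hne⟩
    obtain ⟨G, hG⟩ : ∃ G : _root_.Matrix.SpecialLinearGroup (Fin 2) F, G.1 = !![1, x; y, x * y + 1] :=
      ⟨⟨!![1, x; y, x * y + 1], by rw [Matrix.det_fin_two_of]; ring⟩, rfl⟩
    refine ⟨G, w, ?_, hw, hw1⟩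
    rw [mul_inv_eq_iff_eq_mul]
    apply Subtype.ext
    show G.1 * A.1 = (hS w).1 * G.1
    rw [hG]
    have g1 : a + x * c = w := by linear_combination hx
    have g2 : b + x * d = w * x := by
      apply mul_left_cancel₀ hc0
      linear_combination (-1) * hdet + (d - w) * hx + w * htr - hww
    have g3 : y * a + (x * y + 1) * c = w⁻¹ * y := by
      rw [hwi]
      linear_combination y * g1 - hy
    have g4 : y * b + (x * y + 1) * d = w⁻¹ * (x * y + 1) := by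
      rw [hwi]
      linear_combination y * g2 - x * hy - hx + htr - hww
    rw [coe_hS hw0, hA2, Matrix.mul_fin_two, Matrix.mul_fin_two]
    simp only [one_mul, add_zero, zero_mul, zero_add, mul_one, g1, g2, g3, g4]

theorem three_ne_zero_of [Finite F] (h : Nat.card F % 3 = 1) : (3 : F) ≠ 0 := by
  intro h3
  have := Fintype.ofFinite F
  have h2 : ((Nat.card F : ℕ) : F) = 0 := by
    rw [Nat.card_eq_fintype_card]; exact FiniteField.cast_card_eq_zero F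
  have h4 : Nat.card F = 3 * (Nat.card F / 3) + 1 := by omega
  rw [h4] at h2
  push_cast at h2
  rw [h3, zero_mul, zero_add] at h2
  exact one_ne_zero h2

/-- A primitive cube root of unity. -/
theorem exists_omega [Finite F] (h : Nat.card F % 3 = 1) : ∃ w : F, w ^ 3 = 1 ∧ w ≠ 1 := by
  have : Fact (Nat.Prime 3) := ⟨Nat.prime_three⟩
  have hdvd : 3 ∣ Nat.card Fˣ := by
    rw [Nat.card_units]
    have h1 : 0 < Nat.card F := Nat.card_pos
    omega
  obtain ⟨u, hu⟩ := exists_prime_orderOf_dvd_card' 3 hdvd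
  refine ⟨(u : F), ?_, ?_⟩
  · rw [← Units.val_pow_eq_pow_val, ← hu, pow_orderOf_eq_one, Units.val_one]
  · intro e
    have : u = 1 := Units.ext e
    rw [this, orderOf_one] at hu
    omega

/-- **Elements of order three of `SL(2, q)`, `q ≡ 1 mod 3`, are diagonalisable.** -/
theorem exists_conj_hS [Finite F] (h : Nat.card F % 3 = 1) {A : _root_.Matrix.SpecialLinearGroup (Fin 2) F} (hA : A ^ 3 = 1)
    (h1 : A ≠ 1) : ∃ (g : _root_.Matrix.SpecialLinearGroup (Fin 2) F) (d : F), g * A * g⁻¹ = hS d ∧ d ^ 3 = 1 ∧ d ≠ 1 := by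
  obtain ⟨w, hw, hw1⟩ := exists_omega h
  exact exists_conj_hS' hA h1 hw hw1 (three_ne_zero_of h)

end Cfsg.Agent.H442.TD.Diag3
end

-- part: H244/TD/OneAll
section
/-!
# S3509, `³D₄(q)`, second class, `q ≡ 1 mod 3`: `MTwo` (helper244, helper202)
-/

set_option autoImplicit false
set_option linter.unusedSectionVars false

namespace Cfsg.Agent.H244.TD.One

open CoxeterSystem Cfsg.Agent.ChevalleyStructure.CoxeterGeom Cfsg.Agent.Tits.Roots Cfsg.Agent.Tits.Core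
  Cfsg.Agent.Tits.Exchange Cfsg.Agent.Nodes.Reps Cfsg.Agent.Nodes.BNOf Cfsg.Agent.Nodes.StabComb
  Cfsg.Agent.Nodes.Bruhat Cfsg.Agent.Nodes.OppDec Cfsg.Agent.Nodes.LeviDec Cfsg.Agent.Nodes.RGDTwGen
  Cfsg.Agent.Nodes.RGDChev Cfsg.Agent.Nodes.RGDFold Cfsg.Agent.Nodes.RGDFoldSL
open Cfsg.Agent.Nodes.Comb Cfsg.Agent.Nodes.Coroot Cfsg.Agent.Tits.RootComb
open Cfsg.Agent.KFacts.RgdOpp Cfsg.Agent.KFacts.RgdAut Cfsg.Agent.KFacts.RgdDiag Cfsg.Agent.KFacts.RgdRigid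
  Cfsg.Agent.KFacts.RgdField Cfsg.Agent.KFacts.RgdTau Cfsg.Agent.KFacts.RgdNodes
open Cfsg.Lie Cfsg.Agent.ChevalleyStructure Cfsg.Agent.ChevalleyStructure.Elts
open Cfsg.Agent.ChevalleyStructure.SL2Hom (up lo mem_closure_SL2)
open Cfsg.Agent.KFacts.TwDFour.Out
open Cfsg.Agent.Nodes.RGDTwD4 Cfsg.Agent.Nodes.RGDTwNode.D4
open Cfsg.Agent.CpAut.RgdFix Cfsg.Agent.CpAut.RgdConj Cfsg.Agent.CpAut.RgdTwStd Cfsg.Agent.CpAut.RgdTwD4
open Cfsg.Agent.H866.D4Wf.Frame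
open Cfsg.Agent.H244.TD
open Cfsg.Agent.H911.TD (MTwo xo xo_apply)
open Cfsg.Agent.H202.TD (Good3 noFix_long mem_WS n_conj_T n_conj' ch_inv)

variable {K : Type} [Field K] [Fintype K] {q : ℕ} (hK : Fintype.card K = q ^ 3)
  {φ : K →+* K} (hφ : ∀ x, φ x = x ^ q) {r : ℕ} [Fact r.Prime] [CharP K r]

theorem good_hS {d : KD φ 0} (hd : d ^ 3 = 1) (hd1 : d ≠ 1) : Good3 hK hφ (PhiD hφ hK 0 (hS d)) := by
  have hd0 : d ≠ 0 := by
    rintro rfl
    rw [zero_pow three_ne_zero] at hd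
    exact zero_ne_one hd
  have hdK : (d : K) ^ 3 = 1 := congrArg (fun a : KD φ 0 => (a : K)) hd
  refine ⟨PhiD_hS hφ hK 0 d hd0, ?_, ?_, ?_, ?_⟩
  · rw [chD_hS hφ hK 0 d hd0, ← pow_mul, mul_comm, pow_mul, hd, one_pow]
  · rw [chD_hS hφ hK 0 d hd0]
    intro h
    rw [pow_succ, h, one_mul] at hd
    exact hd1 hd
  · rw [ch01 hφ hK d hd0, inv_pow, hdK, inv_one]
  · rw [ch01 hφ hK d hd0, map_inv₀]
    congr 1
    exact Cfsg.Agent.Nodes.RGDFoldSL.mem_Fx.1 d.2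

/-- **the action on the root groups** -/
theorem hy (hq : IsPrimePow q) (h3 : q % 3 = 1) {d : KD φ 0} (hd : d ^ 3 = 1) (hd1 : d ≠ 1) {τ : K ≃+* K}
    (hτ : τ ^ 3 = 1) (hτ1 : τ ≠ 1) : Hy hK hφ r (xo hK hφ (hS d) τ) := by
  have hd0 : d ≠ 0 := by
    rintro rfl
    rw [zero_pow three_ne_zero] at hd
    exact zero_ne_one hd
  exact
    { px := fun z hz a ha => px hK hφ hd0 τ hz ha
      rp := fun w k hk => rp hK hφ hd0 τ hk
      long := fun z hz a ha h => noFix_long hq hτ hz _ (good_hS hK hφ hd hd1) a ha h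
      short := fun z hz => short hK hφ hq h3 hd hτ hτ1 hz
      s0 := fun k hk h => (mem_WS hq hτ (good_hS hK hφ hd hd1) hk h).2 rfl }

include hK in
theorem ch_of_comm {y : ↥(twistedD4 K q)} (hy : y ∈ T K q) {a : ↥(twistedD4 K q)} (ha : a ∈ X φ q ![0, 1])
    (ha1 : a ≠ 1) (h : y * a = a * y) : chD hφ hK 1 y = 1 := by
  rw [← sr1_eq] at ha
  obtain ⟨c, rfl⟩ := (mem_X hφ hK 1 a).1 ha
  have h1 := act_up hK hφ hy 1 c
  rw [h, mul_inv_cancel_right] at h1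
  have h2 := (coordD hφ hK 1).inj h1
  have hc : c ≠ 0 := by
    rintro rfl
    exact ha1 (coordD hφ hK 1).zero
  exact mul_right_cancel₀ hc (by rw [one_mul]; exact h2.symm)

include hK hφ in
theorem eo : EO q φ := by
  intro y hy a ha ha1 hya b hb hb1 hyb
  obtain ⟨r, hr⟩ := CharP.exists K
  have : Fact r.Prime := ⟨CharP.char_is_prime K r⟩
  have h1 := ch_of_comm hK hφ hy ha ha1 hya
  have hc0 := ch_ne_zero hK hφ hy 0
  have hP := PhiD_hS hφ hK 0 _ hc0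
  have hb' : (n hφ 0)⁻¹ * b * n hφ 0 ∈ X φ q ![0, 1] := by
    refine n_conj' hK 0 (by decide) ?_
    rw [rep0]
    exact hb
  have hy' : (n hφ 0)⁻¹ * y * n hφ 0 ∈ T K q := by
    rw [n_conj_T hK hφ hy]
    exact mul_mem (inv_mem hP) hy
  have h2 := ch_of_comm hK hφ hy' hb' (by
    intro h
    apply hb1
    have e : b = n hφ 0 * ((n hφ 0)⁻¹ * b * n hφ 0) * (n hφ 0)⁻¹ := by group
    rw [e, h]; group) (by
    have e : (n hφ 0)⁻¹ * y * n hφ 0 * ((n hφ 0)⁻¹ * b * n hφ 0) = (n hφ 0)⁻¹ * (y * b) * n hφ 0 := by group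
    have e' : (n hφ 0)⁻¹ * b * n hφ 0 * ((n hφ 0)⁻¹ * y * n hφ 0) = (n hφ 0)⁻¹ * (b * y) * n hφ 0 := by group
    rw [e, e', hyb])
  have h3 : chD hφ hK 0 y = 1 := by
    rw [n_conj_T hK hφ hy, ch_mul hK hφ (inv_mem hP) hy, h1, mul_one, ch_inv hK hφ hP] at h2
    have h4 : (chD hφ hK 1 (PhiD hφ hK 0 (hS (chD hφ hK 0 y))) : K)⁻¹ = 1 := congrArg (fun a : KD φ 1 => (a : K)) h2
    rw [ch01 hφ hK _ hc0, inv_inv] at h4
    exact Subtype.ext h4
  have h5 := conj_eq_one_of_ch hK hφ hy (fun i => by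
    have hi : i = 0 ∨ i = 1 := by (revert i; simp only [_root_.Fin.forall_fin_succ, Fin.isValue, _root_.zero_ne_one, _root_.or_false, _root_.Fin.succ_ne_zero, _root_.false_or, _root_.Fin.succ_zero_eq_one, _root_.IsEmpty.forall_iff, _root_.and_self])
    rcases hi with rfl | rfl
    · exact h3
    · exact h1)
  refine eq_one_of_center hK hφ fun g => ?_
  have h6 : y * g * y⁻¹ = g := by
    have := congrArg (fun α : MulAut ↥(twistedD4 K q) => α g) h5
    exact this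
  exact mul_inv_eq_iff_eq_mul.1 h6

/-- **`MTwo`, `q ≡ 1 mod 3`.** -/
theorem mtwo_hS (hq : IsPrimePow q) (h3 : q % 3 = 1) {d : KD φ 0} (hd : d ^ 3 = 1) (hd1 : d ≠ 1) {τ : K ≃+* K}
    (hτ : τ ^ 3 = 1) (hτ1 : τ ≠ 1) : MTwo (xo hK hφ (hS d) τ) (PhiD hφ hK 0) r := by
  have h4 : 4 ≤ q := by
    have := hq.one_lt
    omega
  obtain ⟨e, -, he⟩ := H27.Exc.exists_pow (r := r) three_pos hq hK
  exact mtwo_of_hy hK hφ (hS d) hq h4 he hτ hτ1 (hy hK hφ hq h3 hd hd1 hτ hτ1) (eo hK hφ)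

/-- **`MTwo` for a conjugate, `q ≡ 1 mod 3`.** -/
theorem mtwo_one (hq : IsPrimePow q) (h3 : q % 3 = 1) {A : Matrix.SpecialLinearGroup (Fin 2) (KD φ 0)} (hA : A ^ 3 = 1)
    (hA1 : A ≠ 1) {τ : K ≃+* K} (hτ : τ ^ 3 = 1) (hτ1 : τ ≠ 1) :
    ∃ B : Matrix.SpecialLinearGroup (Fin 2) (KD φ 0),
      MTwo (MulAut.conj (PhiD hφ hK 0 (B * A * B⁻¹)) * st q τ) (PhiD hφ hK 0) r := by
  have : Finite (KD φ 0) := Finite.of_injective _ Subtype.val_injective
  obtain ⟨B, d, hB, hd, hd1⟩ := Cfsg.Agent.H442.TD.Diag3.exists_conj_hS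
    (by rw [card_KD0 hK hφ hq]; exact h3) hA hA1
  refine ⟨B, ?_⟩
  rw [hB]
  exact mtwo_hS hK hφ hq h3 hd hd1 hτ hτ1

end Cfsg.Agent.H244.TD.One
end

private theorem dce_aa5626a8b6bd : _root_.True := by
  try have : _root_.True := by simp only [_root_.Cfsg.Agent.H866.D4Wf.Frame.rts.eq_1]
  try have : _root_.True := by simp only [_root_.Cfsg.Agent.H244.TD.One.sh.eq_1]
  exact _root_.True.intro
end

-- part: H474/RG/Co3Gen
section
prune_inst 0x400000
set_option linter.all false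
open scoped Cfsg.Agent.FastGrp

/-!
# Regular cycles (S3509): the row `Co₃` (helper474)

`Co₃` on 552 points (model and class list of helper763, word engine of helper345, subgroups of order divisible by 23 of
helper147).

* `topN` : a subgroup of `N ≅ Co₃` with elements of orders 23, 14, 21 and an inverted element of order 7 is `N`;
* `gp_all` : three conjugates of an involution, two conjugates of an element of order 3 or 5 generate `N`;
* `minIx` : proper subgroups have index at least 276;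
* **`rc`** : `RC S` for `S ≅ Co₃`.
-/

set_option autoImplicit false
set_option maxRecDepth 1000000
set_option exponentiation.threshold 5000

namespace Cfsg.Agent.H474.RG.Co3

open Cfsg Cfsg.Agent.H123.Cls Cfsg.Agent.H763.Cls Cfsg.Agent.H763.Co3.Dat Cfsg.Agent.Lib.BitNet
open Cfsg.Agent.H763.Co3.Model (N A2 A_conj tabs_ok)
open Cfsg.Agent.H763.Co3.Fin (base_ok cov eN)
open Cfsg.Agent.H345.RG Cfsg.Agent.H940

/-! ### subgroups of `N` -/

section top

open Cfsg.Agent.H147.Fpr.Co3 (order_two_primes)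

theorem topN (B : Eng.Base) {K : Subgroup N} {z a b t x : N} (hz : z ∈ K) (ha : a ∈ K) (hb : b ∈ K) (ht : t ∈ K)
    (hx : x ∈ K) (z1 : z ^ 23 = 1) (z0 : z ≠ 1) (a1 : a ^ 14 = 1) (a2 : a ^ 2 ≠ 1) (a7 : a ^ 7 ≠ 1) (b1 : b ^ 21 = 1)
    (b3 : b ^ 3 ≠ 1) (b7 : b ^ 7 ≠ 1) (t1 : t ^ 2 = 1) (x1 : x ^ 7 = 1) (x0 : x ≠ 1) (tx : (t * x) ^ 2 = 1) : K = ⊤ := by
  have := Cfsg.Agent.H970.Sep.RowCo3.fin
  let f : Spor.Co3 →* N := eN.toMonoidHom
  have hs : ∀ y : N, f (eN.symm y) = y := fun y => eN.apply_symm_apply y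
  have hm : ∀ {y : N}, y ∈ K → eN.symm y ∈ K.comap f := fun {y} hy => by
    rw [Subgroup.mem_comap, hs]; exact hy
  have e1 : ∀ {y : N} {k : ℕ}, y ^ k = 1 → (eN.symm y) ^ k = 1 := fun {y k} h => by rw [← map_pow, h, map_one]
  have e0 : ∀ {y : N} {k : ℕ}, y ^ k ≠ 1 → (eN.symm y) ^ k ≠ 1 := fun {y k} h h' => h (by
    apply eN.symm.injective
    rw [map_pow, h', map_one])
  have e0' : ∀ {y : N}, y ≠ 1 → eN.symm y ≠ 1 := fun {y} h h' => h (by
    apply eN.symm.injective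
    rw [h', map_one])
  have hz' : orderOf (eN.symm z) = 23 := by
    have : Fact (Nat.Prime 23) := ⟨by norm_num⟩
    exact orderOf_eq_prime (e1 z1) (e0' z0)
  have hx' : orderOf (eN.symm x) = 7 := by
    have : Fact (Nat.Prime 7) := ⟨by norm_num⟩
    exact orderOf_eq_prime (e1 x1) (e0' x0)
  have h23 : 23 ∣ Nat.card (K.comap f) := by
    rw [← hz', ← Subgroup.orderOf_mk _ (hm hz)]
    exact orderOf_dvd_natCard _
  have key := Cfsg.Agent.H147.Fpr.Co3.top_of B (K := K.comap f) h23 (hm ha) (hm hb) (hm ht) (hm hx)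
    (order_two_primes (p := 2) (q := 7) (by norm_num) (by norm_num) (by norm_num) (e1 a1) (e0 a2) (e0 a7))
    (order_two_primes (p := 3) (q := 7) (by norm_num) (by norm_num) (by norm_num) (e1 b1) (e0 b3) (e0 b7)) hx' (by
      have h1 : t * x * t⁻¹ = x⁻¹ := by
        have h2 : t⁻¹ = t := inv_eq_of_mul_eq_one_right (by rw [← pow_two]; exact t1)
        rw [h2]
        refine eq_inv_of_mul_eq_one_left ?_
        rw [pow_two] at tx
        rw [← tx]; group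
      rw [← map_inv, ← map_mul, ← map_mul, h1, map_inv])
  rw [eq_top_iff]
  intro y _
  have h3 : eN.symm y ∈ K.comap f := by rw [key]; trivial
  rw [Subgroup.mem_comap, hs] at h3
  exact h3

end top

/-! ### the certificates -/

/-- all checks of a certificate, `T` = table of the element and the tables of the generators -/
noncomputable def chkAll (T : List ℕ) (cs : List (List ℕ × List ℕ)) (z a b t x : List ℕ) : Bool :=
  band (cInv 10 T bs cs)
    (band (band (chkPow 10 T bs (ex 0 cs z) 23) (cNe 10 T bs (ex 0 cs z) 1))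
    (band (band (chkPow 10 T bs (ex 0 cs a) 14) (band (cNe 10 T bs (ex 0 cs a) 2) (cNe 10 T bs (ex 0 cs a) 7)))
    (band (band (chkPow 10 T bs (ex 0 cs b) 21) (band (cNe 10 T bs (ex 0 cs b) 3) (cNe 10 T bs (ex 0 cs b) 7)))
    (band (chkPow 10 T bs (ex 0 cs t) 2)
    (band (band (chkPow 10 T bs (ex 0 cs x) 7) (cNe 10 T bs (ex 0 cs x) 1))
      (chkPow 10 T bs (ex 0 cs (t ++ x)) 2))))))

/-- the tables with the table of `r` in front -/
theorem tabs_cons {P : ℕ} {r : Equiv.Perm (Fin 552)} (hr : r ∈ N) (hrp : ∀ p : Fin 552, (r p : ℕ) = lk 10 P p) :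
    Tabs 10 N (P :: gens) := by
  intro x hx
  rcases x with _ | x
  · exact ⟨r, hr, hrp⟩
  · exact tabs_ok x (by simpa using hx)

theorem lt_zero {P : ℕ} {r : Equiv.Perm (Fin 552)} (hr : r ∈ N) (hrp : ∀ p : Fin 552, (r p : ℕ) = lk 10 P p) :
    (lt (tabs_cons hr hrp) 0 : Equiv.Perm (Fin 552)) = r := by
  ext p
  rw [lt_apply (tabs_cons hr hrp) (by simp), hrp]
  rfl

theorem gp_of (B : Eng.Base) {P : ℕ} {cs : List (List ℕ × List ℕ)} {z a b t x : List ℕ}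
    (h : chkAll (P :: gens) cs z a b t x = true) {r : Equiv.Perm (Fin 552)} (hr : r ∈ N)
    (hrp : ∀ p : Fin 552, (r p : ℕ) = lk 10 P p) : GP N cs.length r := by
  have ht := tabs_cons hr hrp
  obtain ⟨h0, h⟩ := band_true h
  obtain ⟨hz, h⟩ := band_true h
  obtain ⟨ha, h⟩ := band_true h
  obtain ⟨hb, h⟩ := band_true h
  obtain ⟨h2, h⟩ := band_true h
  obtain ⟨hx, htx⟩ := band_true h
  obtain ⟨hz1, hz2⟩ := band_true hz
  obtain ⟨ha1, ha⟩ := band_true ha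
  obtain ⟨ha2, ha3⟩ := band_true ha
  obtain ⟨hb1, hb⟩ := band_true hb
  obtain ⟨hb2, hb3⟩ := band_true hb
  obtain ⟨hx1, hx2⟩ := band_true hx
  have hm := ex_mem ht base_ok 0 h0
  have key : Gen (lt ht 0) (cs.map fun c => va ht c.1) = ⊤ :=
    topN B (hm z) (hm a) (hm b) (hm t) (hm x) (pow_eq_one ht base_ok hz1)
      (by have := pow_ne_one ht base_ok hz2; rwa [pow_one] at this)
      (pow_eq_one ht base_ok ha1) (pow_ne_one ht base_ok ha2) (pow_ne_one ht base_ok ha3)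
      (pow_eq_one ht base_ok hb1) (pow_ne_one ht base_ok hb2) (pow_ne_one ht base_ok hb3)
      (pow_eq_one ht base_ok h2) (pow_eq_one ht base_ok hx1)
      (by have := pow_ne_one ht base_ok hx2; rwa [pow_one] at this)
      (by
        rw [← va_append, ← ex_append]
        exact pow_eq_one ht base_ok htx)
  have h3 := GP.of_gen key
  rw [List.length_map, lt_zero hr hrp] at h3
  exact h3

theorem ck0 : chkAll (p0 :: gens)
    [([], []), ([8, 6, 4], [12, 14, 16])]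
    [1, 0, 1, 0, 1, 0, 0, 1, 1, 0, 0, 1, 0, 0]
    [0, 1, 0, 0, 1, 0, 1, 0, 1, 0, 0, 1, 0, 0, 1, 1]
    [0, 1, 0, 1, 0, 1, 0, 0, 1]
    [1, 0, 0, 1, 0, 0, 1, 0, 0, 1, 1, 0, 0, 1, 0, 0, 1, 0, 0, 1, 0, 0]
    [1, 0, 0, 1, 0, 0, 1, 0, 0, 1, 1, 0, 0, 1, 0, 0, 1, 0, 0, 1, 0, 0, 0, 1, 0, 0, 1, 0, 0, 1, 0, 0, 1, 1, 0, 0, 1, 0, 0, 1, 0, 0, 1, 0, 0, 0, 0] = true := by decide +kernel

theorem ck4 : chkAll (p4 :: gens)
    [([], []), ([4, 3, 16, 1], [9, 8, 11, 12])]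
    [0, 1, 0]
    [1, 0, 1]
    [1, 0, 0, 0, 0, 1, 0, 0, 0, 0, 1, 0]
    [0, 1, 0, 1, 0, 1, 0, 1, 0, 1]
    [0, 1, 0, 1, 0, 1, 0, 1, 0, 1, 0, 0, 0, 0, 1, 0, 0, 0, 0, 0, 1, 0, 1, 0, 1, 0, 1, 0, 1, 0, 0, 0, 0, 0, 0, 0, 0, 0, 0, 0, 0, 0, 0, 0, 0, 1, 1, 1, 1, 0, 0, 0, 0, 0, 0, 0, 0, 0, 0, 0, 0, 0, 0, 0, 0] = true := by decide +kernel

theorem ck10 : chkAll (p10 :: gens)
    [([], []), ([4, 8, 10], [2, 16, 12])]
    [1, 0]
    [1, 0, 0, 1, 0, 1, 1, 0]
    [1, 1, 0, 1, 0, 0, 1, 0, 0]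
    [0, 1, 0, 0, 1, 0, 0, 1, 0, 1, 0, 0, 1, 0, 0, 1, 0, 1, 0, 0, 1, 0, 0, 1]
    [0, 1, 0, 0, 1, 0, 0, 1, 0, 1, 0, 0, 1, 0, 0, 1, 0, 1, 0, 0, 1, 0, 0, 1, 0, 0, 1, 0, 0, 1, 0, 0, 1, 0, 1, 0, 0, 1, 0, 0, 1, 0, 1, 0, 0, 1, 0, 0, 1, 0, 0] = true := by decide +kernel

theorem ck17 : chkAll (p17 :: gens)
    [([], []), ([14, 16, 11, 8, 4, 8, 6, 1], [9, 14, 16, 12, 16, 3, 8, 6]), ([8, 6, 16, 13, 4, 16, 4, 3], [11, 12, 8, 12, 5, 8, 14, 16])]
    [2, 1, 0]
    [2, 0]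
    [0, 1]
    [0]
    [0, 2, 0, 2] = true := by decide +kernel

theorem ck38 : chkAll (p38 :: gens)
    [([], []), ([4, 8, 12, 16, 15], [7, 8, 4, 16, 12])]
    [1, 0, 1]
    [0, 1]
    [0, 1, 0, 0, 0, 0, 1, 0]
    [0, 1, 0, 0, 1, 0, 0, 1, 0]
    [0, 1, 0, 0, 1, 0, 0, 1, 0, 0, 0, 1, 0, 0, 1, 0, 0, 1, 0, 0, 0, 0, 0] = true := by decide +kernel

theorem ck40 : chkAll (p40 :: gens)
    [([], []), ([14, 16, 6, 2, 4, 8], [16, 12, 10, 14, 8, 6]), ([4, 3, 8, 6, 3, 8, 5, 6, 4, 8], [16, 12, 14, 13, 16, 11, 14, 16, 11, 12])]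
    [2, 0, 1, 0, 2, 0, 2, 1]
    [1, 2, 0, 2, 0]
    [2, 1, 0]
    [0, 1, 0, 2, 0, 1, 0, 1, 2, 0, 2, 0, 1, 0, 2, 0, 1, 0, 1, 2, 0, 2, 0, 1, 0, 2, 0, 1, 0, 1, 2, 0, 2]
    [0, 1, 0, 2, 0, 1, 0, 1, 2, 0, 2, 0, 1, 0, 2, 0, 1, 0, 1, 2, 0, 2, 0, 1, 0, 2, 0, 1, 0, 1, 2, 0, 2, 0, 1, 0, 1, 0, 2, 0, 1, 0, 1, 2, 0, 2, 0, 1, 0, 2, 0, 1, 0, 1, 2, 0, 2, 0, 1, 0, 2, 0, 1, 0, 1, 2, 0, 2, 1, 0] = true := by decide +kernel

theorem ck41 : chkAll (p41 :: gens)
    [([], []), ([14, 16, 13, 3, 4], [12, 11, 5, 8, 6])]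
    [0, 0, 1]
    [1, 0, 1, 0, 1, 0, 0]
    [0, 1, 0, 0, 1, 0, 0, 1, 0, 1]
    [1, 0, 1, 1, 0, 1, 0, 1, 0, 0, 1, 0, 1, 1, 0, 1, 0, 1, 0, 0, 1, 0, 1, 1, 0, 1, 0, 1, 0, 0]
    [1, 0, 1, 1, 0, 1, 0, 1, 0, 0, 1, 0, 1, 1, 0, 1, 0, 1, 0, 0, 1, 0, 1, 1, 0, 1, 0, 1, 0, 0, 0, 1, 0, 1, 1, 0, 1, 0, 1, 0, 0, 1, 0, 1, 1, 0, 1, 0, 1, 0, 0, 1, 0, 1, 1, 0, 1, 0, 1, 0, 0, 0, 0] = true := by decide +kernel

/-- the property of the class representatives -/
def Q (r : Equiv.Perm (Fin 552)) : Prop :=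
  (r ^ 2 = 1 → r ≠ 1 → GP N 3 r) ∧ (r ^ 3 = 1 → r ≠ 1 → GP N 2 r) ∧ (r ^ 5 = 1 → r ≠ 1 → GP N 2 r)

/-- three checks -/
noncomputable def chk3 (T : List ℕ) (k l m : ℕ) : Bool :=
  band (cNe 10 T bs [0] k) (band (cNe 10 T bs [0] l) (cNe 10 T bs [0] m))

theorem ne_of {P : ℕ} {r : Equiv.Perm (Fin 552)} (hr : r ∈ N) (hrp : ∀ p : Fin 552, (r p : ℕ) = lk 10 P p) {k : ℕ}
    (h : cNe 10 (P :: gens) bs [0] k = true) : r ^ k ≠ 1 := by
  intro h1
  apply pow_ne_one (tabs_cons hr hrp) base_ok h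
  apply Subtype.ext
  rw [va_one, Subgroup.coe_pow, lt_zero hr hrp, h1]
  rfl

/-- the property of a table -/
def QP (P : ℕ) : Prop := ∀ r ∈ N, (∀ p : Fin 552, (r p : ℕ) = lk 10 P p) → Q r

theorem q_of {P : ℕ} (h : chk3 (P :: gens) 2 3 5 = true) : QP P := by
  obtain ⟨h1, h⟩ := band_true h
  obtain ⟨h2, h3⟩ := band_true h
  intro r hr hrp
  exact ⟨fun h => absurd h (ne_of hr hrp h1), fun h => absurd h (ne_of hr hrp h2), fun h => absurd h (ne_of hr hrp h3)⟩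

theorem q_two (B : Eng.Base) {P : ℕ} {cs : List (List ℕ × List ℕ)} {z a b t x : List ℕ}
    (h : chkAll (P :: gens) cs z a b t x = true) (hl : cs.length = 3)
    (h3 : cNe 10 (P :: gens) bs [0] 3 = true) (h5 : cNe 10 (P :: gens) bs [0] 5 = true) : QP P := by
  intro r hr hrp
  refine ⟨fun _ _ => ?_, fun h => absurd h (ne_of hr hrp h3), fun h => absurd h (ne_of hr hrp h5)⟩
  have h1 := gp_of B h hr hrp
  rwa [hl] at h1

theorem q_odd (B : Eng.Base) {P : ℕ} {cs : List (List ℕ × List ℕ)} {z a b t x : List ℕ}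
    (h : chkAll (P :: gens) cs z a b t x = true) (hl : cs.length = 2)
    (h2 : cNe 10 (P :: gens) bs [0] 2 = true) : QP P := by
  intro r hr hrp
  have h1 := gp_of B h hr hrp
  rw [hl] at h1
  exact ⟨fun h => absurd h (ne_of hr hrp h2), fun _ _ => h1, fun _ _ => h1⟩

theorem q_one {P : ℕ} (h : chkPow 10 (P :: gens) bs [0] 1 = true) : QP P := by
  intro r hr hrp
  have h1 := pow_eq_one (tabs_cons hr hrp) base_ok h
  rw [pow_one, va_one] at h1
  have h2 : r = 1 := by rw [← lt_zero hr hrp, h1]; rfl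
  exact ⟨fun _ h => absurd h2 h, fun _ h => absurd h2 h, fun _ h => absurd h2 h⟩

theorem c1 : chkPow 10 (p1 :: gens) bs [0] 1 = true := by decide +kernel
theorem c2 : chk3 (p2 :: gens) 2 3 5 = true := by decide +kernel
theorem c3 : chk3 (p3 :: gens) 2 3 5 = true := by decide +kernel
theorem c5 : chk3 (p5 :: gens) 2 3 5 = true := by decide +kernel
theorem c6 : chk3 (p6 :: gens) 2 3 5 = true := by decide +kernel
theorem c7 : chk3 (p7 :: gens) 2 3 5 = true := by decide +kernel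
theorem c8 : chk3 (p8 :: gens) 2 3 5 = true := by decide +kernel
theorem c9 : chk3 (p9 :: gens) 2 3 5 = true := by decide +kernel
theorem c11 : chk3 (p11 :: gens) 2 3 5 = true := by decide +kernel
theorem c12 : chk3 (p12 :: gens) 2 3 5 = true := by decide +kernel
theorem c13 : chk3 (p13 :: gens) 2 3 5 = true := by decide +kernel
theorem c14 : chk3 (p14 :: gens) 2 3 5 = true := by decide +kernel
theorem c15 : chk3 (p15 :: gens) 2 3 5 = true := by decide +kernel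
theorem c16 : chk3 (p16 :: gens) 2 3 5 = true := by decide +kernel
theorem c18 : chk3 (p18 :: gens) 2 3 5 = true := by decide +kernel
theorem c19 : chk3 (p19 :: gens) 2 3 5 = true := by decide +kernel
theorem c20 : chk3 (p20 :: gens) 2 3 5 = true := by decide +kernel
theorem c21 : chk3 (p21 :: gens) 2 3 5 = true := by decide +kernel
theorem c22 : chk3 (p22 :: gens) 2 3 5 = true := by decide +kernel
theorem c23 : chk3 (p23 :: gens) 2 3 5 = true := by decide +kernel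
theorem c24 : chk3 (p24 :: gens) 2 3 5 = true := by decide +kernel
theorem c25 : chk3 (p25 :: gens) 2 3 5 = true := by decide +kernel
theorem c26 : chk3 (p26 :: gens) 2 3 5 = true := by decide +kernel
theorem c27 : chk3 (p27 :: gens) 2 3 5 = true := by decide +kernel
theorem c28 : chk3 (p28 :: gens) 2 3 5 = true := by decide +kernel
theorem c29 : chk3 (p29 :: gens) 2 3 5 = true := by decide +kernel
theorem c30 : chk3 (p30 :: gens) 2 3 5 = true := by decide +kernel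
theorem c31 : chk3 (p31 :: gens) 2 3 5 = true := by decide +kernel
theorem c32 : chk3 (p32 :: gens) 2 3 5 = true := by decide +kernel
theorem c33 : chk3 (p33 :: gens) 2 3 5 = true := by decide +kernel
theorem c34 : chk3 (p34 :: gens) 2 3 5 = true := by decide +kernel
theorem c35 : chk3 (p35 :: gens) 2 3 5 = true := by decide +kernel
theorem c36 : chk3 (p36 :: gens) 2 3 5 = true := by decide +kernel
theorem c37 : chk3 (p37 :: gens) 2 3 5 = true := by decide +kernel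
theorem c39 : chk3 (p39 :: gens) 2 3 5 = true := by decide +kernel

theorem q_all (B : Eng.Base) : ∀ x ∈ D, QP x.1 :=
  List.forall_mem_cons.2 ⟨q_odd B ck0 rfl (by decide +kernel),
  List.forall_mem_cons.2 ⟨q_one c1,
  List.forall_mem_cons.2 ⟨q_of c2,
  List.forall_mem_cons.2 ⟨q_of c3,
  List.forall_mem_cons.2 ⟨q_odd B ck4 rfl (by decide +kernel),
  List.forall_mem_cons.2 ⟨q_of c5,
  List.forall_mem_cons.2 ⟨q_of c6,
  List.forall_mem_cons.2 ⟨q_of c7,
  List.forall_mem_cons.2 ⟨q_of c8,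
  List.forall_mem_cons.2 ⟨q_of c9,
  List.forall_mem_cons.2 ⟨q_odd B ck10 rfl (by decide +kernel),
  List.forall_mem_cons.2 ⟨q_of c11,
  List.forall_mem_cons.2 ⟨q_of c12,
  List.forall_mem_cons.2 ⟨q_of c13,
  List.forall_mem_cons.2 ⟨q_of c14,
  List.forall_mem_cons.2 ⟨q_of c15,
  List.forall_mem_cons.2 ⟨q_of c16,
  List.forall_mem_cons.2 ⟨q_two B ck17 rfl (by decide +kernel) (by decide +kernel),
  List.forall_mem_cons.2 ⟨q_of c18,
  List.forall_mem_cons.2 ⟨q_of c19,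
  List.forall_mem_cons.2 ⟨q_of c20,
  List.forall_mem_cons.2 ⟨q_of c21,
  List.forall_mem_cons.2 ⟨q_of c22,
  List.forall_mem_cons.2 ⟨q_of c23,
  List.forall_mem_cons.2 ⟨q_of c24,
  List.forall_mem_cons.2 ⟨q_of c25,
  List.forall_mem_cons.2 ⟨q_of c26,
  List.forall_mem_cons.2 ⟨q_of c27,
  List.forall_mem_cons.2 ⟨q_of c28,
  List.forall_mem_cons.2 ⟨q_of c29,
  List.forall_mem_cons.2 ⟨q_of c30,
  List.forall_mem_cons.2 ⟨q_of c31,
  List.forall_mem_cons.2 ⟨q_of c32,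
  List.forall_mem_cons.2 ⟨q_of c33,
  List.forall_mem_cons.2 ⟨q_of c34,
  List.forall_mem_cons.2 ⟨q_of c35,
  List.forall_mem_cons.2 ⟨q_of c36,
  List.forall_mem_cons.2 ⟨q_of c37,
  List.forall_mem_cons.2 ⟨q_odd B ck38 rfl (by decide +kernel),
  List.forall_mem_cons.2 ⟨q_of c39,
  List.forall_mem_cons.2 ⟨q_two B ck40 rfl (by decide +kernel) (by decide +kernel),
  List.forall_mem_cons.2 ⟨q_odd B ck41 rfl (by decide +kernel),
  List.forall_mem_nil _⟩⟩⟩⟩⟩⟩⟩⟩⟩⟩⟩⟩⟩⟩⟩⟩⟩⟩⟩⟩⟩⟩⟩⟩⟩⟩⟩⟩⟩⟩⟩⟩⟩⟩⟩⟩⟩⟩⟩⟩⟩⟩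

/-- **generation by conjugates** -/
theorem gp_all (B : Eng.Base) {g : Equiv.Perm (Fin 552)} (hg : g ∈ N) : Q g := by
  obtain ⟨x, hx, r, hr, hrp, b, hb, rfl⟩ := cov g hg
  obtain ⟨h2, h3, h5⟩ := q_all B x hx r hr hrp
  have e1 : ∀ {k : ℕ}, (b * r * b⁻¹) ^ k = 1 → r ^ k = 1 := fun {k} h => by
    rw [conj_pow] at h
    have h6 : b * r ^ k = b := by
      rw [mul_inv_eq_one] at h
      exact h
    exact mul_eq_left.1 h6
  have e0 : b * r * b⁻¹ ≠ 1 → r ≠ 1 := fun h h' => h (by rw [h', mul_one, mul_inv_cancel])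
  have hc : ∀ {k : ℕ}, GP N k r → GP N k (b * r * b⁻¹) := fun h => h.conj (fun _ ha _ hx => A_conj ha hx) hb
  exact ⟨fun h h' => hc (h2 (e1 h) (e0 h')), fun h h' => hc (h3 (e1 h) (e0 h')), fun h h' => hc (h5 (e1 h) (e0 h'))⟩

end Cfsg.Agent.H474.RG.Co3
end
end
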